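import Mathlib
import Cfsg.Agent.Lib.helper5.Dihedral

set_option autoImplicit false

/-!
Sylow helper lemmas and 2-subgroups generated by two involutions.
-/

namespace Cfsg.Agent.Lib.helper5

open scoped Pointwise in
/-- Any `p`-subgroup is contained in a conjugate of a given Sylow `p`-subgroup. -/
theorem exists_conj_mem_sylow {G : Type*} [Group G] [Finite G] {p : ℕ} [Fact p.Prime]
    (P : Sylow p G) (S : Subgroup G) (hS : IsPGroup p S) :
    ∃ k : G, ∀ s ∈ S, k⁻¹ * s * k ∈ P := by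
  obtain ⟨Q, hQ⟩ := hS.exists_le_sylow
  obtain ⟨k, hk⟩ := MulAction.exists_smul_eq G P Q
  refine ⟨k, fun s hs => ?_⟩
  have h1 : s ∈ (k • P : Sylow p G) := by rw [hk]; exact hQ hs
  have h2 : s ∈ MulAut.conj k • (P : Subgroup G) := h1
  rw [Subgroup.mem_pointwise_smul_iff_inv_smul_mem] at h2
  have h3 : k⁻¹ * s * k ∈ (P : Subgroup G) := by simpa [MulAut.smul_def] using h2
  exact h3

/-- If `x`, `y` are involutions with `(x * y) ^ (2 ^ a) = 1`, then `⟨x, y⟩` is a `2`-group. -/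
theorem isPGroup_closure_pair {G : Type*} [Group G] {x y : G} (hx : x * x = 1) (hy : y * y = 1)
    (a : ℕ) (ha : (x * y) ^ (2 ^ a) = 1) : IsPGroup 2 (Subgroup.closure ({x, y} : Set G)) := by
  intro s
  obtain ⟨k, hk | hk⟩ := (mem_closure_pair_iff hx hy s.1).1 s.2
  · refine ⟨a, Subtype.ext ?_⟩
    rw [Subgroup.coe_pow, hk, Subgroup.coe_one, ← zpow_natCast, ← zpow_mul, mul_comm, zpow_mul,
      zpow_natCast, ha, one_zpow]
  · refine ⟨1, Subtype.ext ?_⟩
    rw [Subgroup.coe_pow, hk, Subgroup.coe_one, pow_one, pow_two]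
    exact zpow_mul_x_mul_self hx hy k

/-- If `x`, `y` are involutions whose product has even order, there is a conjugate `y'` of `y`,
different from `x`, such that `⟨x, y'⟩` is a `2`-group. -/
theorem exists_conj_two_group_of_even {G : Type*} [Group G] [Finite G] {x y : G}
    (hx : x * x = 1) (hy : y * y = 1) (heven : Even (orderOf (x * y))) :
    ∃ d : G, d * y * d⁻¹ ≠ x ∧ (d * y * d⁻¹) * (d * y * d⁻¹) = 1 ∧
      IsPGroup 2 (Subgroup.closure ({x, d * y * d⁻¹} : Set G)) := by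
  have hpos : 0 < orderOf (x * y) := orderOf_pos (x * y)
  obtain ⟨a, n', hodd, hn⟩ := Nat.exists_eq_two_pow_mul_odd hpos.ne'
  obtain ⟨t, ht⟩ := hodd
  have ha : a ≠ 0 := by
    rintro rfl
    rw [pow_zero, one_mul, ht] at hn
    rw [hn] at heven
    exact (Nat.not_even_iff_odd.2 ⟨t, rfl⟩) heven
  have hyw : y = x * (x * y) := by rw [← mul_assoc, hx, one_mul]
  have hconj : (x * y) ^ (-(t : ℤ)) * y * ((x * y) ^ (-(t : ℤ)))⁻¹ = x * (x * y) ^ n' := by
    have h1 : (x * y) ^ (-(t : ℤ)) * x = x * (x * y) ^ (t : ℤ) :=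
      (mul_zpow_comm x y hx hy t).symm
    calc (x * y) ^ (-(t : ℤ)) * y * ((x * y) ^ (-(t : ℤ)))⁻¹
        = (x * y) ^ (-(t : ℤ)) * (x * (x * y)) * (x * y) ^ (t : ℤ) := by
          rw [← hyw, ← zpow_neg, neg_neg]
      _ = ((x * y) ^ (-(t : ℤ)) * x) * ((x * y) * (x * y) ^ (t : ℤ)) := by
          simp only [mul_assoc]
      _ = x * ((x * y) ^ (t : ℤ) * ((x * y) * (x * y) ^ (t : ℤ))) := by rw [h1, mul_assoc]
      _ = x * (x * y) ^ n' := by
          congr 1
          rw [← zpow_natCast (x * y) n', ht]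
          have : ((2 * t + 1 : ℕ) : ℤ) = (t : ℤ) + (1 + (t : ℤ)) := by push_cast; ring
          rw [this, zpow_add, zpow_add, zpow_one]
  have hprod : x * (x * (x * y) ^ n') = (x * y) ^ n' := by rw [← mul_assoc, hx, one_mul]
  have hn'0 : n' ≠ 0 := by omega
  have hord : orderOf ((x * y) ^ n') = 2 ^ a := by
    rw [orderOf_pow_of_dvd hn'0 ⟨2 ^ a, by rw [hn, mul_comm]⟩, hn]
    exact Nat.mul_div_cancel _ (by omega)
  refine ⟨(x * y) ^ (-(t : ℤ)), ?_, ?_, ?_⟩
  · rw [hconj]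
    intro h
    have h1 : (x * y) ^ n' = 1 := by
      have : x * (x * y) ^ n' = x * 1 := by rw [mul_one]; exact h
      exact mul_left_cancel this
    have h2 : orderOf ((x * y) ^ n') = 1 := by rw [h1, orderOf_one]
    rw [hord] at h2
    have : 2 ^ a ≠ 1 := by
      have : 2 ≤ 2 ^ a := Nat.le_self_pow ha 2
      omega
    exact this h2
  · calc (x * y) ^ (-(t : ℤ)) * y * ((x * y) ^ (-(t : ℤ)))⁻¹ *
          ((x * y) ^ (-(t : ℤ)) * y * ((x * y) ^ (-(t : ℤ)))⁻¹)
        = (x * y) ^ (-(t : ℤ)) * (y * y) * ((x * y) ^ (-(t : ℤ)))⁻¹ := by group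
      _ = 1 := by rw [hy]; group
  · rw [hconj]
    have hy'2 : (x * (x * y) ^ n') * (x * (x * y) ^ n') = 1 := by
      rw [← hconj]
      calc (x * y) ^ (-(t : ℤ)) * y * ((x * y) ^ (-(t : ℤ)))⁻¹ *
            ((x * y) ^ (-(t : ℤ)) * y * ((x * y) ^ (-(t : ℤ)))⁻¹)
          = (x * y) ^ (-(t : ℤ)) * (y * y) * ((x * y) ^ (-(t : ℤ)))⁻¹ := by group
        _ = 1 := by rw [hy]; group
    apply isPGroup_closure_pair hx hy'2 a
    rw [hprod, ← hord]
    exact pow_orderOf_eq_one _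

end Cfsg.Agent.Lib.helper5
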