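import Mathlib
import Cfsg.Agent.Lib.helper5.SylowAux

set_option autoImplicit false

/-!
Groups whose Sylow 2-subgroups are Klein four-groups: classes of involutions.
-/

namespace Cfsg.Agent.Lib.helper5

variable {G : Type*} [Group G] [Finite G]

omit [Finite G] in
/-- A `p`-element normalizing a Sylow `p`-subgroup lies in it. -/
theorem mem_sylow_of_mem_normalizer_of_pow {p : ℕ} [Fact p.Prime] (P : Sylow p G) (x : G)
    (hx : x ∈ Subgroup.normalizer (P : Set G)) (k : ℕ) (hk : x ^ (p ^ k) = 1) : x ∈ P := by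
  have hz : IsPGroup p (Subgroup.zpowers x) := by
    rintro ⟨y, hy⟩
    obtain ⟨j, rfl⟩ := Subgroup.mem_zpowers_iff.1 hy
    refine ⟨k, Subtype.ext ?_⟩
    rw [Subgroup.coe_pow, Subgroup.coe_one]
    show (x ^ j) ^ (p ^ k) = 1
    rw [← zpow_natCast, ← zpow_mul, mul_comm, zpow_mul, zpow_natCast, hk, one_zpow]
  have hle : Subgroup.zpowers x ≤ Subgroup.normalizer ((P : Subgroup G) : Set G) :=
    (Subgroup.zpowers_le).2 hx
  have hsup : IsPGroup p (Subgroup.zpowers x ⊔ (P : Subgroup G) : Subgroup G) :=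
    IsPGroup.to_sup_of_normal_right' hz P.2 hle
  have h1 := P.3 hsup le_sup_right
  have hxs : x ∈ (Subgroup.zpowers x ⊔ (P : Subgroup G) : Subgroup G) :=
    (le_sup_left : Subgroup.zpowers x ≤ _) (Subgroup.mem_zpowers x)
  rw [h1] at hxs
  exact hxs

/-- The elements of a Klein four Sylow 2-subgroup. -/
theorem klein_elements (P : Sylow 2 G) (hP : IsKleinFour (P : Subgroup G)) :
    ∃ a b : G, a ∈ P ∧ b ∈ P ∧ a * b ∈ P ∧ a ≠ 1 ∧ b ≠ 1 ∧ a * b ≠ 1 ∧ a ≠ b ∧ a ≠ a * b ∧
      b ≠ a * b ∧ (∀ x ∈ P, x = 1 ∨ x = a ∨ x = b ∨ x = a * b) ∧ (∀ x ∈ P, x * x = 1) ∧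
      (∀ x ∈ P, ∀ y ∈ P, x * y = y * x) := by
  classical
  have := Fintype.ofFinite (P : Subgroup G)
  have hcard : Fintype.card (P : Subgroup G) = 4 := IsKleinFour.card_four'
  have hnt : Nontrivial (P : Subgroup G) := by
    rw [← Fintype.one_lt_card_iff_nontrivial, hcard]; omega
  obtain ⟨a, ha⟩ := exists_ne (1 : (P : Subgroup G))
  obtain ⟨b, hb1, hba⟩ : ∃ b : (P : Subgroup G), b ≠ 1 ∧ b ≠ a := by
    by_contra hcon
    push Not at hcon
    have hsub : (Finset.univ : Finset (P : Subgroup G)) ⊆ {1, a} := by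
      intro x _
      by_cases hx : x = 1
      · simp [hx]
      · simp [hcon x hx]
    have h1 := Finset.card_le_card hsub
    have h2 : ({1, a} : Finset (P : Subgroup G)).card ≤ 2 := Finset.card_le_two
    rw [Finset.card_univ, hcard] at h1
    omega
  have hab : a ≠ b := fun h => hba h.symm
  have huniv := IsKleinFour.eq_finset_univ ha hb1 hab
  have hsq : ∀ x : (P : Subgroup G), x * x = 1 := IsKleinFour.mul_self
  have hcomm : ∀ x y : (P : Subgroup G), x * y = y * x := by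
    intro x y
    exact (IsKleinFour.isMulCommutative (G := (P : Subgroup G))).is_comm.comm x y
  have hc1 : a * b ≠ 1 := by
    intro h
    apply hab
    have : a * b = a * a := by rw [h, hsq a]
    exact (mul_left_cancel this).symm
  have hca : a ≠ a * b := by
    intro h
    apply hb1
    have : a * 1 = a * b := by rw [mul_one]; exact h
    exact (mul_left_cancel this).symm
  have hcb : b ≠ a * b := by
    intro h
    apply ha
    have : 1 * b = a * b := by rw [one_mul]; exact h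
    exact (mul_right_cancel this).symm
  refine ⟨a, b, a.2, b.2, (a * b).2, ?_, ?_, ?_, ?_, ?_, ?_, ?_, ?_, ?_⟩
  · exact fun h => ha (Subtype.ext h)
  · exact fun h => hb1 (Subtype.ext h)
  · exact fun h => hc1 (Subtype.ext h)
  · exact fun h => hab (Subtype.ext h)
  · exact fun h => hca (Subtype.ext h)
  · exact fun h => hcb (Subtype.ext h)
  · intro x hx
    have hmem : (⟨x, hx⟩ : (P : Subgroup G)) ∈ ({a * b, a, b, 1} : Finset (P : Subgroup G)) := by
      rw [huniv]; exact Finset.mem_univ _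
    simp only [Finset.mem_insert, Finset.mem_singleton] at hmem
    rcases hmem with h | h | h | h
    · right; right; right; exact congrArg Subtype.val h
    · right; left; exact congrArg Subtype.val h
    · right; right; left; exact congrArg Subtype.val h
    · left; exact congrArg Subtype.val h
  · intro x hx
    exact congrArg Subtype.val (hsq ⟨x, hx⟩)
  · intro x hx y hy
    exact congrArg Subtype.val (hcomm ⟨x, hx⟩ ⟨y, hy⟩)

/-- Every involution is conjugate to an element of a given Sylow 2-subgroup. -/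
theorem involution_conj_mem_sylow (P : Sylow 2 G) (t : G) (ht : orderOf t = 2) :
    ∃ k : G, k⁻¹ * t * k ∈ P ∧ k⁻¹ * t * k ≠ 1 := by
  have ht2 := mul_self_of_orderOf_two ht
  have hz : IsPGroup 2 (Subgroup.zpowers t) := by
    rintro ⟨y, hy⟩
    obtain ⟨j, rfl⟩ := Subgroup.mem_zpowers_iff.1 hy
    refine ⟨1, Subtype.ext ?_⟩
    rw [Subgroup.coe_pow, Subgroup.coe_one]
    show (t ^ j) ^ (2 ^ 1) = 1
    rw [pow_one, ← zpow_natCast, ← zpow_mul, mul_comm, zpow_mul]
    have : t ^ ((2 : ℕ) : ℤ) = 1 := by rw [zpow_natCast, pow_two, ht2]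
    rw [this, one_zpow]
  obtain ⟨k, hk⟩ := exists_conj_mem_sylow P _ hz
  refine ⟨k, hk t (Subgroup.mem_zpowers t), ?_⟩
  intro h
  apply ne_one_of_orderOf_two ht
  have : t = k * (k⁻¹ * t * k) * k⁻¹ := by group
  rw [this, h]; group

/-- An element of the normalizer of an abelian Sylow 2-subgroup whose square centralizes it
centralizes it. -/
theorem centralizes_of_sq (P : Sylow 2 G) (hcomm : ∀ x ∈ P, ∀ y ∈ P, x * y = y * x) (n : G)
    (hn : n ∈ Subgroup.normalizer (P : Set G))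
    (hn2 : ∀ x ∈ P, (n * n) * x = x * (n * n)) : ∀ x ∈ P, n * x = x * n := by
  have hpos : 0 < orderOf n := orderOf_pos n
  obtain ⟨e, m, hodd, hnm⟩ := Nat.exists_eq_two_pow_mul_odd hpos.ne'
  obtain ⟨q, hq⟩ := hodd
  have h1 : (n ^ m) ^ (2 ^ e) = 1 := by
    rw [← pow_mul, mul_comm, ← hnm]; exact pow_orderOf_eq_one n
  have h2 : n ^ m ∈ P := mem_sylow_of_mem_normalizer_of_pow P (n ^ m)
    (Subgroup.pow_mem _ hn m) e h1
  intro x hx
  have h3 : (n ^ m) * x = x * (n ^ m) := hcomm _ h2 x hx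
  have h4 : ∀ j : ℕ, (n * n) ^ j * x = x * (n * n) ^ j := by
    intro j
    induction j with
    | zero => simp
    | succ j ih => rw [pow_succ, mul_assoc, hn2 x hx, ← mul_assoc, ih, mul_assoc]
  have h5 : n ^ m = (n * n) ^ q * n := by
    rw [hq, pow_succ, pow_mul, pow_two]
  rw [h5] at h3
  have h6 := h4 q
  -- (n*n)^q * n * x = x * ((n*n)^q * n) = (n*n)^q * x * n
  have h7 : (n * n) ^ q * (n * x) = (n * n) ^ q * (x * n) := by
    calc (n * n) ^ q * (n * x) = (n * n) ^ q * n * x := by rw [mul_assoc]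
      _ = x * ((n * n) ^ q * n) := h3
      _ = (x * (n * n) ^ q) * n := by rw [mul_assoc]
      _ = (n * n) ^ q * x * n := by rw [h6]
      _ = (n * n) ^ q * (x * n) := by rw [mul_assoc]
  exact mul_left_cancel h7

/-- Fusion in a Klein four Sylow 2-subgroup: if two distinct involutions of `P` are conjugate
in `G`, then each is conjugate to their product. -/
theorem klein_fusion (P : Sylow 2 G) (hsq : ∀ x ∈ P, x * x = 1)
    (hcomm : ∀ x ∈ P, ∀ y ∈ P, x * y = y * x)
    (hall : ∀ x y z : G, x ∈ P → y ∈ P → z ∈ P → x ≠ 1 → y ≠ 1 → z ≠ 1 → x ≠ y → z ≠ x →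
      z ≠ y → z = x * y)
    (x y : G) (hx : x ∈ P) (hy : y ∈ P) (hx1 : x ≠ 1) (hy1 : y ≠ 1) (hxy : x ≠ y)
    (hconj : IsConj x y) : IsConj x (x * y) := by
  have hPcomm : IsMulCommutative (P : Subgroup G) :=
    ⟨⟨fun a b => Subtype.ext (hcomm a a.2 b b.2)⟩⟩
  obtain ⟨g, hg⟩ := isConj_iff.1 hconj
  have hg' : g⁻¹⁻¹ * x * g⁻¹ ∈ P := by rw [inv_inv, hg]; exact hy
  obtain ⟨n, hn, hnx⟩ := P.conj_eq_normalizer_conj_of_mem x g⁻¹ hx hg'
  rw [inv_inv, hg] at hnx
  -- hnx : y = n⁻¹ * x * n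
  have hn' : n⁻¹ ∈ Subgroup.normalizer (P : Set G) := Subgroup.inv_mem _ hn
  have hmem : ∀ w ∈ P, n⁻¹ * w * n ∈ P := by
    intro w hw
    have := (Subgroup.mem_normalizer_iff.1 hn' w).1 hw
    rwa [inv_inv] at this
  have hyn : n⁻¹ * y * n ∈ P := hmem y hy
  have hyn1 : n⁻¹ * y * n ≠ 1 := by
    intro h
    apply hy1
    have : y = n * (n⁻¹ * y * n) * n⁻¹ := by group
    rw [this, h]; group
  have hyny : n⁻¹ * y * n ≠ y := by
    intro h
    apply hxy
    have h1 : n⁻¹ * y * n = n⁻¹ * x * n := by rw [h]; exact hnx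
    have h2 : n * (n⁻¹ * y * n) * n⁻¹ = n * (n⁻¹ * x * n) * n⁻¹ := by rw [h1]
    have h3 : n * (n⁻¹ * y * n) * n⁻¹ = y := by group
    have h4 : n * (n⁻¹ * x * n) * n⁻¹ = x := by group
    rw [h3, h4] at h2
    exact h2.symm
  by_cases hcase : n⁻¹ * y * n = x
  · -- then conjugation by `n` swaps `x` and `y`, so `n * n` centralizes `P`
    exfalso
    have hxyP : x * y ∈ P := (P : Subgroup G).mul_mem hx hy
    have hxy1 : x * y ≠ 1 := by
      intro h
      apply hxy
      have : x * y = x * x := by rw [h, hsq x hx]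
      exact (mul_left_cancel this).symm
    have hzfix : n⁻¹ * (x * y) * n = x * y := by
      calc n⁻¹ * (x * y) * n = (n⁻¹ * x * n) * (n⁻¹ * y * n) := by group
        _ = y * x := by rw [← hnx, hcase]
        _ = x * y := hcomm y hy x hx
    have hn2 : ∀ w ∈ P, (n⁻¹ * n⁻¹) * w = w * (n⁻¹ * n⁻¹) := by
      intro w hw
      have hkey : ∀ w ∈ P, n⁻¹ * (n⁻¹ * w * n) * n = w → (n⁻¹ * n⁻¹) * w = w * (n⁻¹ * n⁻¹) := by
        intro w _ h
        calc (n⁻¹ * n⁻¹) * w = (n⁻¹ * (n⁻¹ * w * n) * n) * (n⁻¹ * n⁻¹) := by group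
          _ = w * (n⁻¹ * n⁻¹) := by rw [h]
      apply hkey w hw
      by_cases hw1 : w = 1
      · rw [hw1]; group
      by_cases hwx : w = x
      · rw [hwx, ← hnx, hcase]
      by_cases hwy : w = y
      · rw [hwy, hcase, ← hnx]
      have hwz : w = x * y := hall x y w hx hy hw hx1 hy1 hw1 hxy hwx hwy
      rw [hwz, hzfix, hzfix]
    have hcent := centralizes_of_sq P hcomm n⁻¹ hn' hn2 x hx
    apply hxy
    rw [hnx, hcent]; group
  · have hz : n⁻¹ * y * n = x * y := hall x y _ hx hy hyn hx1 hy1 hyn1 hxy hcase hyny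
    rw [isConj_iff]
    refine ⟨n⁻¹ * n⁻¹, ?_⟩
    calc (n⁻¹ * n⁻¹) * x * (n⁻¹ * n⁻¹)⁻¹ = n⁻¹ * (n⁻¹ * x * n) * n := by simp [mul_assoc]
      _ = n⁻¹ * y * n := by rw [← hnx]
      _ = x * y := hz

/-- The set of conjugacy classes of involutions. -/
def invClasses (G : Type*) [Group G] : Set (ConjClasses G) :=
  {C | ∃ t : G, orderOf t = 2 ∧ ConjClasses.mk t = C}

omit [Finite G] in
theorem card_invClasses :
    Nat.card {C : ConjClasses G // ∃ t : G, orderOf t = 2 ∧ ConjClasses.mk t = C} =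
      (invClasses G).ncard :=
  Nat.card_coe_set_eq (invClasses G)

omit [Finite G] in
theorem orderOf_two_of_mul_self {x : G} (hx : x * x = 1) (hx1 : x ≠ 1) : orderOf x = 2 := by
  have : Fact (Nat.Prime 2) := ⟨Nat.prime_two⟩
  apply orderOf_eq_prime
  · rw [pow_two]; exact hx
  · exact hx1

/-- Structure of the involution classes of a group with Klein four Sylow 2-subgroups. -/
theorem klein_classes (P : Sylow 2 G) (hP : IsKleinFour (P : Subgroup G)) :
    ∃ a b : G, a ∈ P ∧ b ∈ P ∧ a * b ∈ P ∧ a ≠ 1 ∧ b ≠ 1 ∧ a * b ≠ 1 ∧ a ≠ b ∧ a ≠ a * b ∧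
      b ≠ a * b ∧ (∀ x ∈ P, x = 1 ∨ x = a ∨ x = b ∨ x = a * b) ∧ (∀ x ∈ P, x * x = 1) ∧
      (∀ x ∈ P, ∀ y ∈ P, x * y = y * x) ∧
      ((¬ IsConj a b ∧ ¬ IsConj a (a * b) ∧ ¬ IsConj b (a * b) ∧ (invClasses G).ncard = 3) ∨
        (IsConj a b ∧ IsConj a (a * b) ∧ (invClasses G).ncard = 1)) := by
  obtain ⟨a, b, ha, hb, hc, ha1, hb1, hc1, hab, hac, hbc, hall', hsq, hcomm⟩ := klein_elements P hP
  refine ⟨a, b, ha, hb, hc, ha1, hb1, hc1, hab, hac, hbc, hall', hsq, hcomm, ?_⟩
  have h1 : a * (a * b) = b := by rw [← mul_assoc, hsq a ha, one_mul]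
  have h5 : b * a = a * b := hcomm b hb a ha
  have h2 : b * (a * b) = a := by rw [← h5, ← mul_assoc, hsq b hb, one_mul]
  have h3 : (a * b) * a = b := by rw [← h5, mul_assoc, hsq a ha, mul_one]
  have h4 : (a * b) * b = a := by rw [mul_assoc, hsq b hb, mul_one]
  have hall : ∀ x y z : G, x ∈ P → y ∈ P → z ∈ P → x ≠ 1 → y ≠ 1 → z ≠ 1 → x ≠ y → z ≠ x →
      z ≠ y → z = x * y := by
    intro x y z hx hy hz hx1 hy1 hz1 hxy hzx hzy
    rcases hall' x hx with hx' | hx' | hx' | hx' <;>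
    rcases hall' y hy with hy' | hy' | hy' | hy' <;>
    rcases hall' z hz with hz' | hz' | hz' | hz' <;>
    first
      | exact absurd hx' hx1
      | exact absurd hy' hy1
      | exact absurd hz' hz1
      | exact absurd (hx'.trans hy'.symm) hxy
      | exact absurd (hz'.trans hx'.symm) hzx
      | exact absurd (hz'.trans hy'.symm) hzy
      | (rw [hx', hy', hz']; exact h1.symm)
      | (rw [hx', hy', hz']; exact h2.symm)
      | (rw [hx', hy', hz']; exact h3.symm)
      | (rw [hx', hy', hz']; exact h4.symm)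
      | (rw [hx', hy', hz']; exact h5.symm)
      | (rw [hx', hy', hz'])
  have hoa : orderOf a = 2 := orderOf_two_of_mul_self (hsq a ha) ha1
  have hob : orderOf b = 2 := orderOf_two_of_mul_self (hsq b hb) hb1
  have hoc : orderOf (a * b) = 2 := orderOf_two_of_mul_self (hsq _ hc) hc1
  have hS : invClasses G = {ConjClasses.mk a, ConjClasses.mk b, ConjClasses.mk (a * b)} := by
    ext C
    simp only [invClasses, Set.mem_ofPred_eq, Set.mem_insert_iff, Set.mem_singleton_iff]
    constructor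
    · rintro ⟨t, ht, rfl⟩
      obtain ⟨k, hk, hk1⟩ := involution_conj_mem_sylow P t ht
      have hconj : ConjClasses.mk t = ConjClasses.mk (k⁻¹ * t * k) := by
        rw [ConjClasses.mk_eq_mk_iff_isConj, isConj_iff]
        exact ⟨k⁻¹, by rw [inv_inv]⟩
      rcases hall' _ hk with h | h | h | h
      · exact absurd h hk1
      · left; rw [hconj, h]
      · right; left; rw [hconj, h]
      · right; right; rw [hconj, h]
    · rintro (rfl | rfl | rfl)
      · exact ⟨a, hoa, rfl⟩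
      · exact ⟨b, hob, rfl⟩
      · exact ⟨a * b, hoc, rfl⟩
  by_cases hcab : IsConj a b
  · right
    have hcac : IsConj a (a * b) := klein_fusion P hsq hcomm hall a b ha hb ha1 hb1 hab hcab
    refine ⟨hcab, hcac, ?_⟩
    rw [hS, ← ConjClasses.mk_eq_mk_iff_isConj.2 hcab, ← ConjClasses.mk_eq_mk_iff_isConj.2 hcac]
    simp
  · left
    have hcac : ¬ IsConj a (a * b) := by
      intro h
      have := klein_fusion P hsq hcomm hall a (a * b) ha hc ha1 hc1 hac h
      rw [h1] at this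
      exact hcab this
    have hcbc : ¬ IsConj b (a * b) := by
      intro h
      have := klein_fusion P hsq hcomm hall b (a * b) hb hc hb1 hc1 hbc h
      rw [h2] at this
      exact hcab this.symm
    refine ⟨hcab, hcac, hcbc, ?_⟩
    rw [hS, Set.ncard_eq_three]
    refine ⟨_, _, _, ?_, ?_, ?_, rfl⟩
    · rw [Ne, ConjClasses.mk_eq_mk_iff_isConj]; exact hcab
    · rw [Ne, ConjClasses.mk_eq_mk_iff_isConj]; exact hcac
    · rw [Ne, ConjClasses.mk_eq_mk_iff_isConj]; exact hcbc

end Cfsg.Agent.Lib.helper5
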