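import Mathlib
import Cfsg.Prelude.Def_Characters
import Cfsg.Agent.Lib.helper82.CliffordCorr
import Cfsg.Agent.Lib.helper19.AbelianOver
import Cfsg.Agent.Lib.helper4.Burnside2

/-!
# Restriction to a normal subgroup with abelian quotient (helper5)

* `subRes_injective`: `helper82.subRes` is injective.
* `sum_subgroup_eq`: a sum over a subgroup as a sum over the group with an indicator.
* `norm_restrict_le`: for `χ` of norm one, `[χ_N, χ_N] ≤ |H : N|`, with equality when `χ`
  vanishes off `N`.
* `norm_restrict_eq_one`: if `H/N` is abelian, `χ` is irreducible and no nontrivial linear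
  character of `H/N` is trivial on the support of `χ`, then `[χ_N, χ_N] = 1`.
* `exists_conj_of_constituent`: two irreducible constituents of the restriction to `L` of an
  irreducible character of a subgroup `K ≥ L` are `K`-conjugate (`L` normal in `G`).
-/

set_option autoImplicit false
set_option linter.style.haveILetI false

namespace Cfsg.Agent.Lib.helper5

open Cfsg
open Cfsg.Agent.Lib
open scoped ComplexConjugate

universe u

theorem subRes_injective {G : Type u} [Group G] (N T : Subgroup G) (hNT : N ≤ T) {α β : N → ℂ}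
    (h : helper82.subRes N T α = helper82.subRes N T β) : α = β := by
  funext n
  have h1 := congrFun h ⟨⟨n, hNT n.2⟩, Subgroup.mem_subgroupOf.mpr n.2⟩
  exact h1

theorem sum_subgroup_eq {H : Type u} [Group H] [Fintype H] (N : Subgroup H) [Fintype N]
    [DecidablePred (· ∈ N)] {M : Type*} [AddCommMonoid M] (f : H → M) :
    ∑ n : N, f n = ∑ h : H, if h ∈ N then f h else 0 := by
  rw [← Finset.sum_filter]
  exact (Finset.sum_subtype (Finset.univ.filter (· ∈ N)) (by simp) f).symm

/-- For a function of norm one on `H`, the norm of its restriction to `N` is at most the index,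
with equality when the function vanishes off `N`. -/
theorem norm_restrict_le {H : Type u} [Group H] [Fintype H] (N : Subgroup H) [Fintype N]
    (χ : H → ℂ) (hχ : classInner χ χ = 1) (a : ℕ)
    (ha : classInner (fun n : N => χ n) (fun n : N => χ n) = a) :
    a ≤ N.index ∧ ((∀ h, h ∉ N → χ h = 0) → a = N.index) := by
  classical
  have hcH : (Nat.card H : ℂ) ≠ 0 := by exact_mod_cast (Nat.card_pos (α := H)).ne'
  have hcN : (Nat.card N : ℂ) ≠ 0 := by exact_mod_cast (Nat.card_pos (α := N)).ne'
  have h1 : (∑ h : H, Complex.normSq (χ h) : ℝ) = Nat.card H := by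
    unfold classInner at hχ
    have h0 : ∑ h : H, χ h * conj (χ h) = ((∑ h : H, Complex.normSq (χ h) : ℝ) : ℂ) := by
      push_cast
      apply Finset.sum_congr rfl
      intro h _
      rw [Complex.mul_conj]
    rw [h0] at hχ
    have h00 : ((∑ h : H, Complex.normSq (χ h) : ℝ) : ℂ) = (Nat.card H : ℂ) := by
      rw [inv_mul_eq_iff_eq_mul₀ hcH, mul_one] at hχ
      exact hχ
    exact_mod_cast h00
  have h2 : (∑ n : N, Complex.normSq (χ n) : ℝ) = Nat.card N * a := by
    unfold classInner at ha
    have h0 : ∑ n : N, χ n * conj (χ n) = ((∑ n : N, Complex.normSq (χ n) : ℝ) : ℂ) := by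
      push_cast
      apply Finset.sum_congr rfl
      intro h _
      rw [Complex.mul_conj]
    rw [h0] at ha
    have h00 : ((∑ n : N, Complex.normSq (χ n) : ℝ) : ℂ) = (Nat.card N : ℂ) * a := by
      rw [inv_mul_eq_iff_eq_mul₀ hcN] at ha
      exact ha
    exact_mod_cast h00
  have h3 : ∑ n : N, Complex.normSq (χ n) =
      ∑ h : H, if h ∈ N then Complex.normSq (χ h) else 0 :=
    sum_subgroup_eq N (fun h => Complex.normSq (χ h))
  have h4 : (∑ h : H, if h ∈ N then Complex.normSq (χ h) else 0) ≤
      ∑ h : H, Complex.normSq (χ h) := by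
    apply Finset.sum_le_sum
    intro h _
    split_ifs
    · exact le_rfl
    · exact Complex.normSq_nonneg _
  have hci : (Nat.card H : ℝ) = Nat.card N * N.index := by
    exact_mod_cast N.card_mul_index.symm
  have hpos : (0 : ℝ) < Nat.card N := by exact_mod_cast Nat.card_pos (α := N)
  constructor
  · have h5 : (Nat.card N : ℝ) * a ≤ Nat.card N * N.index := by
      rw [← h2, h3, ← hci, ← h1]
      exact h4
    exact_mod_cast le_of_mul_le_mul_left h5 hpos
  · intro hv
    have h5 : (∑ h : H, if h ∈ N then Complex.normSq (χ h) else 0) =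
        ∑ h : H, Complex.normSq (χ h) := by
      apply Finset.sum_congr rfl
      intro h _
      split_ifs with hh
      · rfl
      · rw [hv h hh]
        simp
    have h6 : (Nat.card N : ℝ) * a = Nat.card N * N.index := by
      rw [← h2, h3, h5, h1, hci]
    exact_mod_cast mul_left_cancel₀ hpos.ne' h6

/-- If `H/N` is abelian, `ϑ` is an irreducible character of `H`, and every linear character of
`H` trivial on `N` and on the support of `ϑ` is trivial, then the restriction of `ϑ` to `N` has
norm one. -/
theorem norm_restrict_eq_one {H : Type u} [Group H] [Fintype H] (N : Subgroup H) [hN : N.Normal]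
    [Fintype N] (hab : ∀ x y : H, x * y * x⁻¹ * y⁻¹ ∈ N) (ϑ : H → ℂ)
    (hϑ : IsIrrCharacter H ϑ)
    (hgen : ∀ lam : H →* ℂˣ, (∀ x ∈ N, lam x = 1) → (∀ h, ϑ h ≠ 0 → lam h = 1) → lam = 1) :
    classInner (fun n : N => ϑ n) (fun n : N => ϑ n) = 1 := by
  classical
  haveI : Fintype (IrrCharacter H) := Fintype.ofFinite _
  have hcH : (Nat.card H : ℂ) ≠ 0 := by exact_mod_cast (Nat.card_pos (α := H)).ne'
  have hcN : (Nat.card N : ℂ) ≠ 0 := by exact_mod_cast (Nat.card_pos (α := N)).ne'
  set Λ : Finset (IrrCharacter H) := Finset.univ.filter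
    (fun lam : IrrCharacter H => ∀ x ∈ N, (lam : H → ℂ) x = (lam : H → ℂ) 1) with hΛ
  let triv : IrrCharacter H := ⟨fun _ => 1, helper4.isIrrCharacter_one⟩
  have htriv : triv ∈ Λ := by
    rw [hΛ, Finset.mem_filter]
    exact ⟨Finset.mem_univ _, fun x _ => rfl⟩
  -- the sum of `[ϑ λ, ϑ]` over `Λ` is one
  have hS1 : ∑ lam ∈ Λ, classInner (ϑ * (lam : H → ℂ)) ϑ = 1 := by
    rw [Finset.sum_eq_single triv]
    · have : ϑ * (triv : H → ℂ) = ϑ := by
        funext h
        show ϑ h * 1 = ϑ h
        rw [mul_one]
      rw [this]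
      exact helper4.classInner_irr_self hϑ
    · intro lam hlam hne
      have hl := (Finset.mem_filter.1 hlam).2
      have hl1 : (lam : H → ℂ) 1 = 1 := helper19.linear_of_abelian_quot N hab lam lam.2 hl
      have hirr : IsIrrCharacter H (ϑ * (lam : H → ℂ)) :=
        helper19.isIrr_mul_linear ϑ lam hϑ lam.2 hl1
      apply helper4.classInner_irr_ne hirr hϑ
      intro heq
      apply hne
      obtain ⟨f, hf⟩ := helper82.exists_hom_of_linear
        (helper4.isCharacter_of_isIrrCharacter lam.2) hl1
      have hf1 : f = 1 := by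
        apply hgen f
        · intro x hx
          apply Units.ext
          rw [← hf x, hl x hx, hl1]
          rfl
        · intro h hh
          apply Units.ext
          rw [← hf h]
          have h1 := congrFun heq h
          have h2 : ϑ h * (lam : H → ℂ) h = ϑ h * 1 := by rw [mul_one]; exact h1
          exact mul_left_cancel₀ hh h2
      apply Subtype.ext
      funext h
      rw [hf h, hf1]
      rfl
    · intro h
      exact absurd htriv h
  -- the same sum is the norm of the restriction
  have hind := helper19.indFun_one_eq_sum_linear N hab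
  have hval : ∀ h : H, ∑ lam ∈ Λ, (lam : H → ℂ) h = if h ∈ N then (N.index : ℂ) else 0 := by
    intro h
    have h1 := congrFun hind h
    rw [Finset.sum_apply] at h1
    rw [← h1]
    split_ifs with hh
    · have h2 := helper19.indFun_invariant_apply N (fun _ => (1 : ℂ)) (fun _ _ => rfl) ⟨h, hh⟩
      rw [mul_one] at h2
      exact h2
    · exact helper19.indFun_normal_of_not_mem N _ h hh
  have hS2 : ∑ lam ∈ Λ, classInner (ϑ * (lam : H → ℂ)) ϑ =
      classInner (fun n : N => ϑ n) (fun n : N => ϑ n) := by
    unfold classInner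
    rw [← Finset.mul_sum, Finset.sum_comm]
    have h1 : ∀ h : H, ∑ lam ∈ Λ, (ϑ * (lam : H → ℂ)) h * conj (ϑ h) =
        if h ∈ N then (N.index : ℂ) * (ϑ h * conj (ϑ h)) else 0 := by
      intro h
      have h2 : ∀ lam ∈ Λ, (ϑ * (lam : H → ℂ)) h * conj (ϑ h) =
          (ϑ h * conj (ϑ h)) * (lam : H → ℂ) h := by
        intro lam _
        show ϑ h * (lam : H → ℂ) h * conj (ϑ h) = _
        ring
      rw [Finset.sum_congr rfl h2, ← Finset.mul_sum, hval h]
      split_ifs
      · ring
      · rw [mul_zero]
    rw [Finset.sum_congr rfl (fun h _ => h1 h),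
      ← sum_subgroup_eq N (fun h => (N.index : ℂ) * (ϑ h * conj (ϑ h))), ← Finset.mul_sum,
      ← mul_assoc]
    congr 1
    have hci : (Nat.card H : ℂ) = Nat.card N * N.index := by
      exact_mod_cast N.card_mul_index.symm
    have hi : (N.index : ℂ) ≠ 0 := by
      exact_mod_cast (Subgroup.index_ne_zero_of_finite (H := N))
    rw [hci]
    field_simp
  rw [← hS2, hS1]

/-- Two irreducible constituents of the restriction to `L` of an irreducible character of a
subgroup `K ≥ L` are conjugate under `K` (`L` normal in `G`). -/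
theorem exists_conj_of_constituent {G : Type u} [Group G] [Fintype G] (K L : Subgroup G)
    [hL : L.Normal] [Fintype K] [Fintype L] (hLK : L ≤ K) {ϑ : K → ℂ}
    (hϑ : IsIrrCharacter K ϑ) {φ ψ : L → ℂ} (hφ : IsIrrCharacter L φ)
    (hψ : IsIrrCharacter L ψ)
    (h1 : classInner (fun x : L => ϑ ⟨(x : G), hLK x.2⟩) φ ≠ 0)
    (h2 : classInner (fun x : L => ϑ ⟨(x : G), hLK x.2⟩) ψ ≠ 0) :
    ∃ k ∈ K, ψ = helper82.cconj L k φ := by
  classical
  haveI : Fintype (L.subgroupOf K) := Fintype.ofFinite _
  have hφ' := helper82.isIrrCharacter_subRes L K hLK hφ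
  have hψ' := helper82.isIrrCharacter_subRes L K hLK hψ
  have e1 : classInner (fun x : L.subgroupOf K => ϑ x) (helper82.subRes L K φ) ≠ 0 := by
    rw [← helper82.subRes_restrict L K hLK ϑ, helper82.classInner_subRes L K hLK]
    exact h1
  have e2 : classInner (fun x : L.subgroupOf K => ϑ x) (helper82.subRes L K ψ) ≠ 0 := by
    rw [← helper82.subRes_restrict L K hLK ϑ, helper82.classInner_subRes L K hLK]
    exact h2
  obtain ⟨x, hx⟩ := helper82.clifford_conj (L.subgroupOf K) hϑ hφ' hψ' e1 e2
  rw [helper82.cconj_subRes] at hx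
  exact ⟨x, x.2, subRes_injective L K hLK hx⟩

end Cfsg.Agent.Lib.helper5
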