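import Mathlib
import Cfsg.Prelude.Def_Characters

set_option autoImplicit false

/-!
Basic helper lemmas about complex representations of finite groups.
-/

namespace Cfsg.Agent.Lib.helper5

/-- An invariant submodule of an irreducible representation is `⊥` or `⊤`. -/
theorem irr_submodule_eq_bot_or_top {G V : Type*} [Monoid G] [AddCommGroup V] [Module ℂ V]
    (ρ : Representation ℂ G V) [ρ.IsIrreducible] (W : Submodule ℂ V)
    (hW : ∀ g v, v ∈ W → ρ g v ∈ W) : W = ⊥ ∨ W = ⊤ := by
  have h := IsSimpleOrder.eq_bot_or_eq_top (⟨W, fun g v hv => hW g v hv⟩ : Subrepresentation ρ)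
  rcases h with h | h
  · left; exact congrArg Subrepresentation.toSubmodule h
  · right; exact congrArg Subrepresentation.toSubmodule h

/-- An irreducible representation is on a nontrivial space. -/
theorem irr_nontrivial {G V : Type*} [Monoid G] [AddCommGroup V] [Module ℂ V]
    (ρ : Representation ℂ G V) [ρ.IsIrreducible] : Nontrivial V := by
  by_contra h
  rw [not_nontrivial_iff_subsingleton] at h
  have h1 : (⊥ : Subrepresentation ρ) ≠ ⊤ := bot_ne_top
  apply h1
  apply Subrepresentation.toSubmodule_injective
  exact Subsingleton.elim _ _

/-- The inner product of the restriction of a character to a subgroup with the trivial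
character is the dimension of the invariants. -/
theorem classInner_one_eq_finrank {G V : Type*} [Group G] [AddCommGroup V] [Module ℂ V]
    [FiniteDimensional ℂ V] (ρ : Representation ℂ G V) (K : Subgroup G) [Fintype K] :
    Cfsg.classInner (fun x : K => ρ.character x) (fun _ => 1) =
      (Module.finrank ℂ (Representation.invariants (ρ.comp K.subtype)) : ℂ) := by
  have hne : (Nat.card K : ℂ) ≠ 0 := by exact_mod_cast (Nat.card_pos (α := K)).ne'
  have hinv : Invertible (Nat.card K : ℂ) := invertibleOfNonzero hne
  rw [← Representation.card_inv_mul_sum_char_eq_finrank]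
  unfold Cfsg.classInner
  congr 1
  apply Finset.sum_congr rfl
  intro x _
  simp only [map_one, mul_one]
  rfl

/-- If every group element fixes a nonzero vector of an irreducible representation, the
representation is trivial of dimension one. -/
theorem irr_trivial_of_fixed {G V : Type*} [Group G] [AddCommGroup V] [Module ℂ V]
    [FiniteDimensional ℂ V] (ρ : Representation ℂ G V) [ρ.IsIrreducible] (v : V) (hv0 : v ≠ 0)
    (hv : ∀ g : G, ρ g v = v) : (∀ g : G, ρ g = LinearMap.id) ∧ Module.finrank ℂ V = 1 := by
  have hspan : (ℂ ∙ v) = ⊤ := by
    rcases irr_submodule_eq_bot_or_top ρ (ℂ ∙ v) (by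
      intro g w hw
      obtain ⟨c, rfl⟩ := Submodule.mem_span_singleton.1 hw
      rw [map_smul, hv g]
      exact Submodule.smul_mem _ _ (Submodule.mem_span_singleton_self v)) with h | h
    · exfalso
      apply hv0
      have : v ∈ (ℂ ∙ v) := Submodule.mem_span_singleton_self v
      rw [h] at this
      simpa using this
    · exact h
  constructor
  · intro g
    ext w
    have hw : w ∈ (ℂ ∙ v) := by rw [hspan]; trivial
    obtain ⟨c, rfl⟩ := Submodule.mem_span_singleton.1 hw
    simp [hv g]
  · rw [← finrank_top ℂ V, ← hspan]
    exact finrank_span_singleton hv0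

end Cfsg.Agent.Lib.helper5
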