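import Mathlib
import Cfsg.Prelude.Def_Characters
import Cfsg.Agent.Lib.helper5.Rep

set_option autoImplicit false

/-!
Irreducible subrepresentations, transport to coordinate spaces, Maschke consequences.
-/

namespace Cfsg.Agent.Lib.helper5

/-- Criterion for irreducibility in terms of invariant submodules. -/
theorem irreducible_of_forall_submodule {G V : Type*} [Monoid G] [AddCommGroup V] [Module ℂ V]
    (ρ : Representation ℂ G V) [Nontrivial V]
    (h : ∀ W : Submodule ℂ V, (∀ g v, v ∈ W → ρ g v ∈ W) → W = ⊥ ∨ W = ⊤) :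
    ρ.IsIrreducible := by
  have hnt : Nontrivial (Subrepresentation ρ) := by
    refine ⟨⟨⊥, ⊤, ?_⟩⟩
    intro hbt
    have h1 : (⊥ : Submodule ℂ V) = ⊤ := congrArg Subrepresentation.toSubmodule hbt
    exact bot_ne_top h1
  refine { eq_bot_or_eq_top := ?_ }
  intro W
  rcases h W.toSubmodule (fun g v hv => W.apply_mem_toSubmodule g hv) with h1 | h1
  · left
    exact Subrepresentation.toSubmodule_injective h1
  · right
    exact Subrepresentation.toSubmodule_injective h1

/-- Transport of a representation along a linear equivalence. -/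
noncomputable def transport {G V V' : Type*} [Monoid G] [AddCommGroup V] [Module ℂ V]
    [AddCommGroup V'] [Module ℂ V'] (ρ : Representation ℂ G V) (e : V ≃ₗ[ℂ] V') :
    Representation ℂ G V' where
  toFun g := e.toLinearMap ∘ₗ ρ g ∘ₗ e.symm.toLinearMap
  map_one' := by ext; simp
  map_mul' a b := by ext; simp

theorem transport_apply {G V V' : Type*} [Monoid G] [AddCommGroup V] [Module ℂ V]
    [AddCommGroup V'] [Module ℂ V'] (ρ : Representation ℂ G V) (e : V ≃ₗ[ℂ] V') (g : G) (w : V') :
    transport ρ e g w = e (ρ g (e.symm w)) := rfl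

theorem transport_character {G V V' : Type*} [Monoid G] [AddCommGroup V] [Module ℂ V]
    [AddCommGroup V'] [Module ℂ V'] (ρ : Representation ℂ G V)
    (e : V ≃ₗ[ℂ] V') : (transport ρ e).character = ρ.character := by
  funext g
  show LinearMap.trace ℂ V' (e.toLinearMap ∘ₗ ρ g ∘ₗ e.symm.toLinearMap) = LinearMap.trace ℂ V (ρ g)
  have := LinearMap.trace_conj' (ρ g) e
  rw [← this]
  rfl

theorem transport_irreducible {G V V' : Type*} [Monoid G] [AddCommGroup V] [Module ℂ V]
    [AddCommGroup V'] [Module ℂ V'] (ρ : Representation ℂ G V) [ρ.IsIrreducible]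
    (e : V ≃ₗ[ℂ] V') : (transport ρ e).IsIrreducible := by
  have hnt : Nontrivial V := irr_nontrivial ρ
  have hnt' : Nontrivial V' := e.symm.toEquiv.nontrivial
  apply irreducible_of_forall_submodule
  intro W' hW'
  have hW : ∀ g v, v ∈ W'.comap e.toLinearMap → ρ g v ∈ W'.comap e.toLinearMap := by
    intro g v hv
    rw [Submodule.mem_comap] at hv ⊢
    have := hW' g (e v) hv
    rw [transport_apply, LinearEquiv.symm_apply_apply] at this
    exact this
  rcases irr_submodule_eq_bot_or_top ρ _ hW with h | h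
  · left
    rw [eq_bot_iff]
    intro w hw
    have h1 : e.symm w ∈ W'.comap e.toLinearMap := by
      rw [Submodule.mem_comap]
      simpa using hw
    rw [h, Submodule.mem_bot] at h1
    rw [Submodule.mem_bot]
    simpa using h1
  · right
    rw [eq_top_iff]
    intro w _
    have h1 : e.symm w ∈ W'.comap e.toLinearMap := by rw [h]; trivial
    rw [Submodule.mem_comap] at h1
    simpa using h1

/-- The character of an irreducible representation on any finite-dimensional space is an
irreducible character in the sense of the Prelude. -/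
theorem isIrrCharacter_of_irreducible {G V : Type*} [Group G] [AddCommGroup V] [Module ℂ V]
    [FiniteDimensional ℂ V] (ρ : Representation ℂ G V) [ρ.IsIrreducible] :
    Cfsg.IsIrrCharacter G ρ.character :=
  ⟨Module.finrank ℂ V, transport ρ (Module.finBasis ℂ V).equivFun,
    transport_irreducible ρ _, transport_character ρ _⟩

/-- The character of a representation on any finite-dimensional space is a character in the
sense of the Prelude. -/
theorem isCharacter_of_rep {G V : Type*} [Group G] [AddCommGroup V] [Module ℂ V]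
    [FiniteDimensional ℂ V] (ρ : Representation ℂ G V) :
    Cfsg.IsCharacter G ρ.character :=
  ⟨Module.finrank ℂ V, transport ρ (Module.finBasis ℂ V).equivFun, transport_character ρ _⟩

/-- The representation on an invariant submodule. -/
noncomputable def subRep {G V : Type*} [Monoid G] [AddCommGroup V] [Module ℂ V]
    (ρ : Representation ℂ G V) (W : Submodule ℂ V) (hW : ∀ g v, v ∈ W → ρ g v ∈ W) :
    Representation ℂ G W :=
  (⟨W, fun g v hv => hW g v hv⟩ : Subrepresentation ρ).toRepresentation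

theorem subRep_apply {G V : Type*} [Monoid G] [AddCommGroup V] [Module ℂ V]
    (ρ : Representation ℂ G V) (W : Submodule ℂ V) (hW : ∀ g v, v ∈ W → ρ g v ∈ W) (g : G)
    (w : W) : ((subRep ρ W hW g w : W) : V) = ρ g (w : V) := rfl

/-- Every nonzero invariant submodule of a finite-dimensional representation contains a
minimal nonzero invariant submodule. -/
theorem exists_minimal_invariant {G V : Type*} [Monoid G] [AddCommGroup V] [Module ℂ V]
    [FiniteDimensional ℂ V] (ρ : Representation ℂ G V) (U : Submodule ℂ V) (hU0 : U ≠ ⊥)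
    (hU : ∀ g v, v ∈ U → ρ g v ∈ U) :
    ∃ W : Submodule ℂ V, W ≤ U ∧ W ≠ ⊥ ∧ (∀ g v, v ∈ W → ρ g v ∈ W) ∧
      ∀ W' : Submodule ℂ V, W' ≤ W → (∀ g v, v ∈ W' → ρ g v ∈ W') → W' = ⊥ ∨ W' = W := by
  classical
  let P : ℕ → Prop := fun n => ∃ W : Submodule ℂ V, W ≤ U ∧ W ≠ ⊥ ∧
    (∀ g v, v ∈ W → ρ g v ∈ W) ∧ Module.finrank ℂ W = n
  have hP : ∃ n, P n := ⟨Module.finrank ℂ U, U, le_refl _, hU0, hU, rfl⟩
  obtain ⟨W, hWU, hW0, hWinv, hWn⟩ := Nat.find_spec hP
  refine ⟨W, hWU, hW0, hWinv, ?_⟩
  intro W' hW'W hW'inv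
  by_cases h0 : W' = ⊥
  · exact Or.inl h0
  · right
    apply Submodule.eq_of_le_of_finrank_le hW'W
    rw [hWn]
    exact Nat.find_min' hP ⟨W', hW'W.trans hWU, h0, hW'inv, rfl⟩

/-- A minimal nonzero invariant submodule carries an irreducible representation. -/
theorem subRep_irreducible {G V : Type*} [Monoid G] [AddCommGroup V] [Module ℂ V]
    (ρ : Representation ℂ G V) (W : Submodule ℂ V) (hW0 : W ≠ ⊥)
    (hW : ∀ g v, v ∈ W → ρ g v ∈ W)
    (hmin : ∀ W' : Submodule ℂ V, W' ≤ W → (∀ g v, v ∈ W' → ρ g v ∈ W') → W' = ⊥ ∨ W' = W) :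
    (subRep ρ W hW).IsIrreducible := by
  have hnt : Nontrivial W := Submodule.nontrivial_iff_ne_bot.2 hW0
  apply irreducible_of_forall_submodule
  intro X hX
  have h1 : X.map W.subtype ≤ W := by
    rintro _ ⟨x, _, rfl⟩
    exact x.2
  have h2 : ∀ g v, v ∈ X.map W.subtype → ρ g v ∈ X.map W.subtype := by
    rintro g _ ⟨x, hx, rfl⟩
    exact ⟨subRep ρ W hW g x, hX g x hx, rfl⟩
  rcases hmin _ h1 h2 with h | h
  · left
    rw [eq_bot_iff]
    intro x hx
    have : (x : V) ∈ X.map W.subtype := ⟨x, hx, rfl⟩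
    rw [h, Submodule.mem_bot] at this
    rw [Submodule.mem_bot]
    exact Subtype.ext this
  · right
    rw [eq_top_iff]
    intro x _
    have : (x : V) ∈ X.map W.subtype := by rw [h]; exact x.2
    obtain ⟨y, hy, hyx⟩ := this
    have : y = x := Subtype.ext hyx
    rw [← this]; exact hy

/-- Maschke: an invariant submodule of a representation of a finite group has an invariant
complement. -/
theorem exists_invariant_compl {G V : Type*} [Group G] [Finite G] [AddCommGroup V] [Module ℂ V]
    (ρ : Representation ℂ G V) (U : Submodule ℂ V) (hU : ∀ g v, v ∈ U → ρ g v ∈ U) :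
    ∃ U' : Submodule ℂ V, (∀ g v, v ∈ U' → ρ g v ∈ U') ∧ U ⊓ U' = ⊥ ∧ U ⊔ U' = ⊤ := by
  have hne : NeZero (Nat.card G : ℂ) := ⟨by exact_mod_cast (Nat.card_pos (α := G)).ne'⟩
  obtain ⟨U', hU'⟩ := exists_isCompl (⟨U, fun g v hv => hU g v hv⟩ : Subrepresentation ρ)
  refine ⟨U'.toSubmodule, fun g v hv => U'.apply_mem_toSubmodule g hv, ?_, ?_⟩
  · have := hU'.inf_eq_bot
    exact congrArg Subrepresentation.toSubmodule this
  · have := hU'.sup_eq_top
    exact congrArg Subrepresentation.toSubmodule this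

/-- If an invariant submodule `U` contains every minimal nonzero invariant submodule, then
`U = ⊤`. -/
theorem eq_top_of_contains_minimal {G V : Type*} [Group G] [Finite G] [AddCommGroup V]
    [Module ℂ V] [FiniteDimensional ℂ V]
    (ρ : Representation ℂ G V) (U : Submodule ℂ V) (hU : ∀ g v, v ∈ U → ρ g v ∈ U)
    (h : ∀ W : Submodule ℂ V, W ≠ ⊥ → (∀ g v, v ∈ W → ρ g v ∈ W) →
      (∀ W' : Submodule ℂ V, W' ≤ W → (∀ g v, v ∈ W' → ρ g v ∈ W') → W' = ⊥ ∨ W' = W) → W ≤ U) :
    U = ⊤ := by
  obtain ⟨U', hU'inv, hinf, hsup⟩ := exists_invariant_compl ρ U hU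
  by_cases h0 : U' = ⊥
  · rw [h0, sup_bot_eq] at hsup
    exact hsup
  · exfalso
    obtain ⟨W, hWU', hW0, hWinv, hWmin⟩ := exists_minimal_invariant ρ U' h0 hU'inv
    have hWU := h W hW0 hWinv hWmin
    apply hW0
    rw [eq_bot_iff, ← hinf]
    exact le_inf hWU hWU'

end Cfsg.Agent.Lib.helper5
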