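import Mathlib
import Cfsg.Prelude.Def_Characters
import Cfsg.Prelude.Def_Blocks
import Cfsg.Agent.Lib.helper82.CliffordCorr
import Cfsg.Agent.Lib.helper82.Ito
import Cfsg.Agent.Lib.helper82.CharQuot
import Cfsg.Agent.Lib.helper4.Regular

/-!
# Degrees of irreducible characters of normal subgroups (helper5)

* `exists_irr_over`: every irreducible character `θ` of a normal subgroup `N` lies under an
  irreducible character `χ` of `G`, and `χ 1 = e * |G : I_G(θ)| * θ 1`.
* `comm_of_all_linear`: a finite group all of whose irreducible characters are linear is abelian.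
* `mem_of_coprime_orderOf`: an element of order prime to `p` lies in every normal subgroup of
  `p`-power index.
* `exists_normal_index_prime`: if `p` divides `|G : G'|` then `G` has a normal subgroup of
  index `p`.
-/

set_option autoImplicit false
set_option linter.style.haveILetI false

namespace Cfsg.Agent.Lib.helper5

open Cfsg
open Cfsg.Agent.Lib
open scoped ComplexConjugate

universe u

theorem classInner_conj_symm {G : Type u} [Group G] [Fintype G] (φ ψ : G → ℂ) :
    classInner φ ψ = conj (classInner ψ φ) := by
  unfold classInner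
  rw [map_mul, map_sum, map_inv₀, Complex.conj_natCast]
  congr 1
  apply Finset.sum_congr rfl
  intro g _
  rw [map_mul, Complex.conj_conj, mul_comm]

theorem classInner_symm_nat {G : Type u} [Group G] [Fintype G] (φ ψ : G → ℂ) (n : ℕ)
    (h : classInner φ ψ = n) : classInner ψ φ = n := by
  rw [classInner_conj_symm, h, Complex.conj_natCast]

/-- Every irreducible character of a normal subgroup lies under an irreducible character of the
group, with the Clifford degree formula. -/
theorem exists_irr_over {G : Type u} [Group G] [Fintype G] (N : Subgroup G) [N.Normal]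
    [Fintype N] {θ : N → ℂ} (hθ : IsIrrCharacter N θ) :
    ∃ χ : G → ℂ, IsIrrCharacter G χ ∧ ∃ e : ℕ, e ≠ 0 ∧
      classInner (fun n : N => χ n) θ = e ∧
      χ 1 = e * (helper82.inertia N θ).index * θ 1 := by
  classical
  haveI : Fintype (IrrCharacter N) := Fintype.ofFinite _
  haveI : Fintype (IrrCharacter G) := Fintype.ofFinite _
  have hind : IsCharacter G (indFun N θ) :=
    helper4.isCharacter_indFun N (helper4.isCharacter_of_isIrrCharacter hθ)
  obtain ⟨M, hM1, hM2, -⟩ := helper82.exists_nat_decomp hind
  have hne : indFun N θ 1 ≠ 0 := by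
    rw [helper4.indFun_one]
    obtain ⟨d, hd, hd1⟩ := helper4.exists_pos_nat_degree hθ
    rw [hd1]
    have : N.index ≠ 0 := Subgroup.index_ne_zero_of_finite
    exact mul_ne_zero (by exact_mod_cast this) (by exact_mod_cast hd.ne')
  obtain ⟨ψ, hψ⟩ : ∃ ψ : IrrCharacter G, M ψ ≠ 0 := by
    by_contra hall
    push Not at hall
    apply hne
    rw [hM2 1]
    simp [hall]
  have h1 : classInner (indFun N θ) (ψ : G → ℂ) = M ψ := hM1 ψ
  rw [helper4.frobenius_reciprocity N θ (helper4.isClassFunction_of_isIrrCharacter ψ.2)] at h1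
  have h2 : classInner (fun n : N => (ψ : G → ℂ) n) θ = M ψ := classInner_symm_nat _ _ _ h1
  exact ⟨ψ, ψ.2, M ψ, hψ, h2, helper82.clifford_degree N ψ.2 hθ (M ψ) h2 hψ⟩

/-- A finite group all of whose irreducible characters are linear is abelian. -/
theorem comm_of_all_linear {G : Type u} [Group G] [Finite G]
    (h : ∀ χ : IrrCharacter G, (χ : G → ℂ) 1 = 1) : ∀ a b : G, a * b = b * a := by
  classical
  haveI : Fintype G := Fintype.ofFinite G
  haveI : Fintype (IrrCharacter G) := Fintype.ofFinite _
  have h1 := helper4.sum_irr_degree_sq (G := G)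
  have h2 : Nat.card (IrrCharacter G) = Nat.card G := by
    have h0 : ∑ χ : IrrCharacter G, ((χ : G → ℂ) 1) ^ 2 = (Fintype.card (IrrCharacter G) : ℂ) := by
      simp [h]
    rw [h0] at h1
    rw [Nat.card_eq_fintype_card (α := IrrCharacter G)]
    exact_mod_cast h1
  have h3 := helper82.card_linear_irr (G := G)
  have h4 : Nat.card {χ : IrrCharacter G // (χ : G → ℂ) 1 = 1} = Nat.card (IrrCharacter G) :=
    Nat.card_congr (Equiv.subtypeUnivEquiv h)
  have h5 : (commutator G).index = Nat.card G := by rw [← h3, h4, h2]
  have h6 : commutator G = ⊥ := by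
    have h7 := (commutator G).card_mul_index
    rw [h5] at h7
    have hpos : 0 < Nat.card G := Nat.card_pos
    have h8 : Nat.card (commutator G) = 1 := by
      have : Nat.card (commutator G) * Nat.card G = 1 * Nat.card G := by rw [h7, one_mul]
      exact Nat.eq_of_mul_eq_mul_right hpos this
    exact Subgroup.card_eq_one.1 h8
  have h9 : Subgroup.center G = ⊤ := (commutator_eq_bot_iff_center_eq_top G).1 h6
  intro a b
  have h10 : b ∈ Subgroup.center G := h9 ▸ Subgroup.mem_top b
  exact Subgroup.mem_center_iff.1 h10 a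

/-- An element of order prime to `p` lies in every normal subgroup of `p`-power index. -/
theorem mem_of_coprime_orderOf {H : Type*} [Group H] [Finite H] (K : Subgroup H) [K.Normal]
    {p k : ℕ} (hK : K.index = p ^ k) {x : H} (hx : (orderOf x).Coprime p) : x ∈ K := by
  rw [← QuotientGroup.eq_one_iff]
  have h1 : (QuotientGroup.mk x : H ⧸ K) ^ orderOf x = 1 := by
    rw [← QuotientGroup.mk_pow, pow_orderOf_eq_one]
    rfl
  have h2 : (QuotientGroup.mk x : H ⧸ K) ^ (p ^ k) = 1 := by
    rw [← hK, Subgroup.index_eq_card]
    exact pow_card_eq_one'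
  have h3 := pow_gcd_eq_one.2 ⟨h1, h2⟩
  rwa [Nat.Coprime.pow_right k hx, pow_one] at h3

/-- If `p` divides `|G : G'|` then `G` has a normal subgroup of index `p`. -/
theorem exists_normal_index_prime {G : Type*} [Group G] [Finite G] {p : ℕ} (hp : p.Prime)
    (h : p ∣ (commutator G).index) : ∃ N : Subgroup G, N.Normal ∧ N.index = p := by
  haveI : Fact p.Prime := ⟨hp⟩
  have hQcard : Nat.card (Abelianization G) = (commutator G).index :=
    (Subgroup.index_eq_card _).symm
  obtain ⟨x, hx⟩ := exists_prime_orderOf_dvd_card' (G := Abelianization G) p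
    (by rw [hQcard]; exact h)
  have hpos : Nat.card (Abelianization G) ≠ 0 := Nat.card_pos.ne'
  obtain ⟨v, m, hm, hmv⟩ : ∃ v m : ℕ, ¬ p ∣ m ∧ m * p ^ v = Nat.card (Abelianization G) :=
    ⟨(Nat.card (Abelianization G)).factorization p,
      Nat.card (Abelianization G) / p ^ (Nat.card (Abelianization G)).factorization p,
      Nat.not_dvd_ordCompl hp hpos, by rw [mul_comm]; exact Nat.ordProj_mul_ordCompl_eq_self _ p⟩
  let f : Abelianization G →* Abelianization G := powMonoidHom m
  have hS : IsPGroup p f.range := by
    rintro ⟨y, z, rfl⟩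
    refine ⟨v, Subtype.ext ?_⟩
    show (f z) ^ p ^ v = 1
    rw [powMonoidHom_apply, ← pow_mul, hmv]
    exact pow_card_eq_one'
  have hfx : f x ≠ 1 := by
    rw [powMonoidHom_apply]
    intro h1
    have := orderOf_dvd_of_pow_eq_one h1
    rw [hx] at this
    exact hm this
  obtain ⟨a, ha⟩ := hS.exists_card_eq
  have ha0 : a ≠ 0 := by
    rintro rfl
    rw [pow_zero] at ha
    have hbot : f.range = ⊥ := Subgroup.card_eq_one.1 ha
    have : f x ∈ f.range := ⟨x, rfl⟩
    rw [hbot, Subgroup.mem_bot] at this
    exact hfx this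
  obtain ⟨K, hK⟩ := Sylow.exists_subgroup_card_pow_prime p (G := f.range) (n := a - 1)
    (by rw [ha]; exact pow_dvd_pow p (Nat.sub_le a 1))
  have hKi : K.index = p := by
    have h1 := K.card_mul_index
    rw [hK, ha] at h1
    have h2 : p ^ a = p ^ (a - 1) * p := by
      rw [← pow_succ]
      congr 1
      omega
    rw [h2] at h1
    exact Nat.eq_of_mul_eq_mul_left (pow_pos hp.pos _) h1
  let g : G →* f.range := f.rangeRestrict.comp Abelianization.of
  have hg : Function.Surjective g :=
    f.rangeRestrict_surjective.comp (QuotientGroup.mk_surjective)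
  haveI : K.Normal := Subgroup.normal_of_isMulCommutative K
  refine ⟨K.comap g, Subgroup.normal_comap g, ?_⟩
  rw [Subgroup.index_comap_of_surjective K hg, hKi]

end Cfsg.Agent.Lib.helper5
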