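import Mathlib

set_option autoImplicit false

/-!
Common eigenvectors of commuting families of endomorphisms over `ℂ`.
-/

namespace Cfsg.Agent.Lib.helper5

/-- A commuting family of endomorphisms of a nonzero finite-dimensional complex vector space
has a common eigenvector. More precisely there is a nonzero invariant subspace on which every
member acts as a scalar. -/
theorem exists_common_scalar_submodule {V : Type*} [AddCommGroup V] [Module ℂ V]
    [FiniteDimensional ℂ V] [Nontrivial V]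
    (S : Set (Module.End ℂ V)) (hS : ∀ f ∈ S, ∀ g ∈ S, f * g = g * f) :
    ∃ W : Submodule ℂ V, W ≠ ⊥ ∧ (∀ f ∈ S, ∀ w ∈ W, f w ∈ W) ∧
      ∀ f ∈ S, ∃ c : ℂ, ∀ w ∈ W, f w = c • w := by
  classical
  let P : ℕ → Prop := fun n => ∃ W : Submodule ℂ V, W ≠ ⊥ ∧ (∀ f ∈ S, ∀ w ∈ W, f w ∈ W) ∧
    Module.finrank ℂ W = n
  have hP : ∃ n, P n :=
    ⟨Module.finrank ℂ V, ⊤, top_ne_bot, fun _ _ _ _ => trivial, finrank_top ℂ V⟩
  obtain ⟨W, hW0, hWinv, hWn⟩ := Nat.find_spec hP
  have hmin : ∀ W' : Submodule ℂ V, W' ≠ ⊥ → (∀ f ∈ S, ∀ w ∈ W', f w ∈ W') →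
      Module.finrank ℂ W ≤ Module.finrank ℂ W' := by
    intro W' h0 hinv
    rw [hWn]
    exact Nat.find_min' hP ⟨W', h0, hinv, rfl⟩
  refine ⟨W, hW0, hWinv, ?_⟩
  intro f hf
  have hnt : Nontrivial W := Submodule.nontrivial_iff_ne_bot.2 hW0
  let f' : Module.End ℂ W := f.restrict (hWinv f hf)
  obtain ⟨c, hc⟩ := Module.End.exists_eigenvalue f'
  obtain ⟨w0, hw0⟩ := hc.exists_hasEigenvector
  refine ⟨c, ?_⟩
  let E : Submodule ℂ V := W ⊓ LinearMap.ker (f - c • (1 : Module.End ℂ V))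
  have hE0 : E ≠ ⊥ := by
    intro h
    have : (w0 : V) ∈ E := by
      refine Submodule.mem_inf.2 ⟨w0.2, ?_⟩
      rw [LinearMap.mem_ker]
      have h1 := hw0.apply_eq_smul
      have h2 : f (w0 : V) = c • (w0 : V) := congrArg Subtype.val h1
      simp [h2]
    rw [h] at this
    exact hw0.2 (Subtype.ext (by simpa using this))
  have hEinv : ∀ g ∈ S, ∀ w ∈ E, g w ∈ E := by
    intro g hg w hw
    refine Submodule.mem_inf.2 ⟨hWinv g hg w (Submodule.mem_inf.1 hw).1, ?_⟩
    have h1 := (Submodule.mem_inf.1 hw).2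
    rw [LinearMap.mem_ker] at h1 ⊢
    have hcomm : f (g w) = g (f w) := by
      have := hS f hf g hg
      exact congrArg (fun φ : Module.End ℂ V => φ w) this
    simp only [LinearMap.sub_apply, LinearMap.smul_apply, Module.End.one_apply] at h1 ⊢
    rw [hcomm, ← map_smul, ← map_sub, h1, map_zero]
  have hEW : E = W := by
    apply Submodule.eq_of_le_of_finrank_le inf_le_left
    exact hmin E hE0 hEinv
  intro w hw
  have : w ∈ E := by rw [hEW]; exact hw
  have h1 := (Submodule.mem_inf.1 this).2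
  rw [LinearMap.mem_ker] at h1
  simp only [LinearMap.sub_apply, LinearMap.smul_apply, Module.End.one_apply] at h1
  exact sub_eq_zero.1 h1

theorem exists_common_eigenvector {V : Type*} [AddCommGroup V] [Module ℂ V]
    [FiniteDimensional ℂ V] [Nontrivial V]
    (S : Set (Module.End ℂ V)) (hS : ∀ f ∈ S, ∀ g ∈ S, f * g = g * f) :
    ∃ v : V, v ≠ 0 ∧ ∀ f ∈ S, ∃ c : ℂ, f v = c • v := by
  obtain ⟨W, hW0, _, hscalar⟩ := exists_common_scalar_submodule S hS
  obtain ⟨v, hv, hv0⟩ := (Submodule.ne_bot_iff W).1 hW0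
  exact ⟨v, hv0, fun f hf => let ⟨c, hc⟩ := hscalar f hf; ⟨c, hc v hv⟩⟩

end Cfsg.Agent.Lib.helper5
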