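import Mathlib

/-! S4701 pieces Q4a (`quot_step`) and Q4c (`index_step`) of helper21's split. -/

set_option autoImplicit false

namespace Cfsg.Agent.Lib.helper5

/-- a nontrivial subgroup has at least two elements. -/
theorem h5brp_two_le_card {G : Type*} [Group G] [Finite G] (A : Subgroup G) (hA : A ≠ ⊥) :
    2 ≤ Nat.card A := by
  have h1 : Nat.card A ≠ 1 := fun h => hA (Subgroup.card_eq_one.1 h)
  have h2 : 0 < Nat.card A := Nat.card_pos
  omega

end Cfsg.Agent.Lib.helper5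

namespace Cfsg.Agent.Lib.helper21.BRP

/-- Q4a -/
theorem quot_step {G : Type*} [Group G] [Finite G] (p : ℕ)
    (hbig : Nat.card G < p ^ 3) (A : Subgroup G) [A.Normal] (hA : A ≠ ⊥)
    (Z : Subgroup (G ⧸ A)) [Z.Normal] (hZ : Nat.card Z ≤ 2)
    (hs : IsSimpleGroup ((G ⧸ A) ⧸ Z))
    (hsize : p ^ 3 < 3 * Nat.card ((G ⧸ A) ⧸ Z)) :
    Nat.card A = 2 ∧ IsSimpleGroup (G ⧸ A) := by
  have h1 : Nat.card G = Nat.card (G ⧸ A) * Nat.card A :=
    Subgroup.card_eq_card_quotient_mul_card_subgroup A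
  have h2 : Nat.card (G ⧸ A) = Nat.card ((G ⧸ A) ⧸ Z) * Nat.card Z :=
    Subgroup.card_eq_card_quotient_mul_card_subgroup Z
  have hA2 : 2 ≤ Nat.card A := Cfsg.Agent.Lib.helper5.h5brp_two_le_card A hA
  have hZ1 : 0 < Nat.card Z := Nat.card_pos
  have hh : 0 < Nat.card ((G ⧸ A) ⧸ Z) := Nat.card_pos
  rw [h1, h2] at hbig
  have h3 : Nat.card ((G ⧸ A) ⧸ Z) * (Nat.card Z * Nat.card A)
      < Nat.card ((G ⧸ A) ⧸ Z) * 3 := by
    calc Nat.card ((G ⧸ A) ⧸ Z) * (Nat.card Z * Nat.card A)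
        = Nat.card ((G ⧸ A) ⧸ Z) * Nat.card Z * Nat.card A := by ring
      _ < p ^ 3 := hbig
      _ < 3 * Nat.card ((G ⧸ A) ⧸ Z) := hsize
      _ = Nat.card ((G ⧸ A) ⧸ Z) * 3 := by ring
  have h4 : Nat.card Z * Nat.card A < 3 := Nat.lt_of_mul_lt_mul_left h3
  have hZone : Nat.card Z = 1 := by
    by_contra hne
    have h5 : 2 ≤ Nat.card Z := by omega
    nlinarith
  have hAtwo : Nat.card A = 2 := by
    rw [hZone, one_mul] at h4
    omega
  refine ⟨hAtwo, ?_⟩
  have hZbot : Z = ⊥ := Subgroup.card_eq_one.1 hZone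
  subst hZbot
  exact (QuotientGroup.quotientBot (G := G ⧸ A)).symm.isSimpleGroup

/-- Q4c -/
theorem index_step {G : Type*} [Group G] [Finite G] (hperf : commutator G = ⊤) (p : ℕ)
    (hbig : Nat.card G < p ^ 3) (A : Subgroup G) [A.Normal] (hA : A ≠ ⊤)
    (Z : Subgroup A) [Z.Normal] (hsize : p ^ 3 < 3 * Nat.card (A ⧸ Z)) : False := by
  have h1 : A.index * Nat.card A = Nat.card G := Subgroup.index_mul_card A
  have h2 : Nat.card A = Nat.card (A ⧸ Z) * Nat.card Z :=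
    Subgroup.card_eq_card_quotient_mul_card_subgroup Z
  have hZ1 : 0 < Nat.card Z := Nat.card_pos
  have hApos : 0 < Nat.card A := Nat.card_pos
  have h3 : Nat.card (A ⧸ Z) ≤ Nat.card A := by
    rw [h2]
    exact Nat.le_mul_of_pos_right _ hZ1
  have h4 : A.index * Nat.card A < 3 * Nat.card A := by
    calc A.index * Nat.card A = Nat.card G := h1
      _ < p ^ 3 := hbig
      _ < 3 * Nat.card (A ⧸ Z) := hsize
      _ ≤ 3 * Nat.card A := Nat.mul_le_mul_left 3 h3
  have h5 : A.index < 3 := Nat.lt_of_mul_lt_mul_right h4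
  have h6 : A.index ≠ 1 := fun h => hA (Subgroup.index_eq_one.1 h)
  have h7 : A.index ≠ 0 := Subgroup.index_ne_zero_of_finite
  have h8 : Nat.card (G ⧸ A) = 2 := by
    rw [← Subgroup.index_eq_card]
    omega
  have : Fact (Nat.Prime 2) := ⟨Nat.prime_two⟩
  have hcyc : IsCyclic (G ⧸ A) := isCyclic_of_prime_card h8
  let _i : CommGroup (G ⧸ A) := hcyc.commGroup
  have h9 : commutator G ≤ (QuotientGroup.mk' A).ker :=
    Abelianization.commutator_subset_ker (QuotientGroup.mk' A)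
  rw [hperf, QuotientGroup.ker_mk'] at h9
  exact hA (top_le_iff.1 h9)

end Cfsg.Agent.Lib.helper21.BRP
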