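import Mathlib

/-! S5972 piece ORTHM (helper24's split): from a symplectic model `(V, ω, a)` with `a` of odd
prime order without fixed vectors to an orthogonal one. -/

set_option autoImplicit false
set_option linter.unusedSectionVars false
set_option linter.unusedVariables false

namespace Cfsg.Agent.Lib.helper5

open Module

universe u

section stsaux

variable {F : Type u} [Field F] {V : Type u} [AddCommGroup V] [Module F V]

/-- an alternating form is skew. -/
theorem h5sts_skew (ω : V →ₗ[F] V →ₗ[F] F) (halt : ∀ v, ω v v = 0) (u v : V) :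
    ω u v = - ω v u := by
  have h := halt (u + v)
  simp only [map_add, LinearMap.add_apply, halt] at h
  linear_combination h

/-- `a - b` is injective when `a b = 1`, `a ^ r = 1` (`r` odd) and `a` has no fixed vectors. -/
theorem h5sts_inj (r : ℕ) (hr : Odd r) (a b : Module.End F V) (habv : ∀ v, a (b v) = v)
    (har : a ^ r = 1) (hfix : ∀ v, a v = v → v = 0) : Function.Injective (a - b) := by
  rw [← LinearMap.ker_eq_bot, LinearMap.ker_eq_bot']
  intro u hu
  have h3 : a u = b u := by
    have h0 : a u - b u = 0 := hu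
    exact sub_eq_zero.1 h0
  have h4 : a (a u) = u := by rw [h3, habv]
  obtain ⟨j, hj⟩ := hr
  have h5 : ∀ n : ℕ, (a ^ (2 * n)) u = u := by
    intro n
    induction n with
    | zero => simp
    | succ n ih =>
      have e : 2 * (n + 1) = 2 * n + 1 + 1 := by ring
      rw [e, pow_succ, pow_succ, Module.End.mul_apply, Module.End.mul_apply, h4, ih]
  have h6 : a u = u := by
    have h7 := congrArg (fun f : Module.End F V => f u) har
    simp only [Module.End.one_apply] at h7
    rw [hj, pow_succ', Module.End.mul_apply, h5] at h7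
    exact h7
  exact hfix u h6

end stsaux

end Cfsg.Agent.Lib.helper5

namespace Cfsg.Agent.Lib.helper24

open Module

universe u

section stsgeneric

variable {F : Type u} [Field F] [Fintype F]

/-- From a symplectic model `(V, ω, a)` with `a` of odd prime order `r` without fixed vectors to
an orthogonal one: on `V' = V × F^k` take `β((u,c),(u',c')) = ω((a - a⁻¹)⁻¹ u, u') + c ⬝ c'` and
`T = a × 1`.  Invariant `β`-singular subspaces of `[V', T]` give invariant totally isotropic
subspaces of `V` of the same dimension. -/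
theorem sts_orth_model (h2 : (2 : F) ≠ 0) (r : ℕ) (hr : r.Prime) (hr2 : r ≠ 2)
    {V : Type u} [AddCommGroup V] [Module F V] [FiniteDimensional F V]
    (ω : V →ₗ[F] V →ₗ[F] F) (a b : Module.End F V)
    (halt : ∀ v, ω v v = 0) (hnd : ∀ v, (∀ w, ω v w = 0) → v = 0)
    (hiso : ∀ v w, ω (a v) (a w) = ω v w) (hab : a * b = 1) (har : a ^ r = 1)
    (hfix : ∀ v, a v = v → v = 0) (k : ℕ) :
    ∃ (V' : Type u) (_ : AddCommGroup V') (_ : Module F V') (_ : FiniteDimensional F V')
      (β : V' →ₗ[F] V' →ₗ[F] F) (T : Module.End F V'),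
      (∀ u v, β u v = β v u) ∧ (∀ v, (∀ w, β v w = 0) → v = 0) ∧
      (∀ v w, β (T v) (T w) = β v w) ∧ T ^ r = 1 ∧
      finrank F V' = finrank F V + k ∧
      finrank F (LinearMap.ker (T - 1)) = k ∧
      ∀ X : Submodule F V', X ≤ LinearMap.range (T - 1) → (∀ x ∈ X, β x x = 0) →
        (∀ x ∈ X, T x ∈ X) →
        ∃ W : Submodule F V, (∀ u ∈ W, ∀ v ∈ W, ω u v = 0) ∧ (∀ w ∈ W, a w ∈ W) ∧
          finrank F W = finrank F X := by
  classical
  have hodd : Odd r := hr.odd_of_ne_two hr2
  have hba : b * a = 1 := mul_eq_one_comm.1 hab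
  have habv : ∀ v, a (b v) = v := fun v => by
    have h0 := congrArg (fun f : Module.End F V => f v) hab
    simpa using h0
  have hbav : ∀ v, b (a v) = v := fun v => by
    have h0 := congrArg (fun f : Module.End F V => f v) hba
    simpa using h0
  have hskew := Cfsg.Agent.Lib.helper5.h5sts_skew ω halt
  have h1 : ∀ u v, ω (a u) v = ω u (b v) := by
    intro u v
    rw [← hiso u (b v), habv]
  have h1' : ∀ u v, ω (b u) v = ω u (a v) := by
    intro u v
    rw [← hiso (b u) v, habv]
  have hS : ∀ u v, ω ((a - b) u) v = - ω u ((a - b) v) := by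
    intro u v
    simp only [LinearMap.sub_apply, map_sub, h1, h1']
    ring
  have hinj := Cfsg.Agent.Lib.helper5.h5sts_inj r hodd a b habv har hfix
  obtain ⟨Se, hSe⟩ : ∃ Se : V ≃ₗ[F] V, ∀ u, Se u = (a - b) u :=
    ⟨LinearEquiv.ofInjectiveEndo (a - b) hinj, fun u => rfl⟩
  have hSs : ∀ u, (a - b) (Se.symm u) = u := fun u => by rw [← hSe, Se.apply_symm_apply]
  have hsS : ∀ u, Se.symm ((a - b) u) = u := fun u => by rw [← hSe, Se.symm_apply_apply]
  have hcomm : ∀ u, (a - b) (a u) = a ((a - b) u) := by
    intro u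
    simp only [LinearMap.sub_apply, map_sub, habv, hbav]
  have hSa : ∀ u, Se.symm (a u) = a (Se.symm u) := by
    intro u
    apply hinj
    rw [hSs, hcomm, hSs]
  -- the symmetric form on `V`
  obtain ⟨β₀, hβ₀⟩ : ∃ β₀ : V →ₗ[F] V →ₗ[F] F, ∀ u v, β₀ u v = ω (Se.symm u) v :=
    ⟨ω.comp (Se.symm : V →ₗ[F] V), fun u v => rfl⟩
  have hβsymm : ∀ u v, β₀ u v = β₀ v u := by
    intro u v
    rw [hβ₀, hβ₀]
    calc ω (Se.symm u) v = ω (Se.symm u) ((a - b) (Se.symm v)) := by rw [hSs]
      _ = - ω ((a - b) (Se.symm u)) (Se.symm v) := by rw [hS, neg_neg]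
      _ = - ω u (Se.symm v) := by rw [hSs]
      _ = ω (Se.symm v) u := by rw [hskew u, neg_neg]
  have hβnd : ∀ u, (∀ w, β₀ u w = 0) → u = 0 := by
    intro u hu
    have h0 : Se.symm u = 0 := hnd _ (fun w => by rw [← hβ₀]; exact hu w)
    exact Se.symm.map_eq_zero_iff.1 h0
  have hβinv : ∀ u v, β₀ (a u) (a v) = β₀ u v := by
    intro u v
    rw [hβ₀, hβ₀, hSa, hiso]
  have hβS : ∀ u v, β₀ ((a - b) u) v = ω u v := by
    intro u v
    rw [hβ₀, hsS]
  -- the form on `V × F^k`
  obtain ⟨β, hβ⟩ : ∃ β : (V × (Fin k → F)) →ₗ[F] (V × (Fin k → F)) →ₗ[F] F,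
      ∀ x y, β x y = β₀ x.1 y.1 + dotProduct x.2 y.2 := by
    refine ⟨LinearMap.mk₂ F (fun x y => β₀ x.1 y.1 + dotProduct x.2 y.2) ?_ ?_ ?_ ?_,
      fun x y => rfl⟩
    · intro m₁ m₂ n
      simp only [Prod.fst_add, Prod.snd_add, map_add, LinearMap.add_apply, add_dotProduct]
      ring
    · intro c m n
      simp only [Prod.smul_fst, Prod.smul_snd, map_smul, LinearMap.smul_apply, smul_dotProduct,
        smul_eq_mul]
      ring
    · intro m n₁ n₂
      simp only [Prod.fst_add, Prod.snd_add, map_add, dotProduct_add]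
      ring
    · intro c m n
      simp only [Prod.smul_fst, Prod.smul_snd, map_smul, dotProduct_smul, smul_eq_mul]
      ring
  obtain ⟨T, hT⟩ : ∃ T : Module.End F (V × (Fin k → F)), ∀ x, T x = (a x.1, x.2) :=
    ⟨LinearMap.prodMap a LinearMap.id, fun x => rfl⟩
  have hTpow : ∀ n : ℕ, ∀ x, (T ^ n) x = ((a ^ n) x.1, x.2) := by
    intro n
    induction n with
    | zero => intro x; simp
    | succ n ih =>
      intro x
      rw [pow_succ, Module.End.mul_apply, hT, ih, pow_succ, Module.End.mul_apply]
  have hT1 : ∀ x, (T - 1) x = (a x.1 - x.1, 0) := by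
    intro x
    rw [LinearMap.sub_apply, hT, Module.End.one_apply]
    ext <;> simp
  refine ⟨V × (Fin k → F), inferInstance, inferInstance, inferInstance, β, T, ?_, ?_, ?_, ?_, ?_,
    ?_, ?_⟩
  · intro u v
    rw [hβ, hβ, hβsymm, dotProduct_comm]
  · intro v hv
    have hv1 : v.1 = 0 := by
      apply hβnd
      intro w
      have h0 := hv (w, 0)
      rw [hβ] at h0
      simpa using h0
    have hv2 : v.2 = 0 := by
      funext i
      have h0 := hv (0, Pi.single i 1)
      rw [hβ] at h0
      simpa using h0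
    exact Prod.ext hv1 hv2
  · intro v w
    rw [hβ, hβ, hT, hT, hβinv]
  · apply LinearMap.ext
    intro x
    rw [hTpow, har]
    rfl
  · rw [Module.finrank_prod, Module.finrank_fin_fun]
  · have hker : LinearMap.ker (T - 1) = LinearMap.range (LinearMap.inr F V (Fin k → F)) := by
      ext x
      rw [LinearMap.mem_ker, hT1, LinearMap.mem_range]
      constructor
      · intro hx
        have hx1 : a x.1 - x.1 = 0 := congrArg Prod.fst hx
        have hx0 : x.1 = 0 := hfix _ (sub_eq_zero.1 hx1)
        exact ⟨x.2, Prod.ext (by simp [hx0]) (by simp)⟩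
      · rintro ⟨c, rfl⟩
        simp
    rw [hker, LinearMap.finrank_range_of_inj LinearMap.inr_injective, Module.finrank_fin_fun]
  · intro X hXr hXq hXT
    have hX2 : ∀ x ∈ X, x.2 = 0 := by
      intro x hx
      obtain ⟨z, hz⟩ := hXr hx
      rw [hT1] at hz
      rw [← hz]
    have hWmem : ∀ w ∈ X.map (LinearMap.fst F V (Fin k → F)), ((w, 0) : V × (Fin k → F)) ∈ X := by
      rintro w ⟨x, hx, rfl⟩
      have h0 : ((LinearMap.fst F V (Fin k → F)) x, (0 : Fin k → F)) = x :=
        Prod.ext rfl (hX2 x hx).symm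
      rw [h0]
      exact hx
    have hq : ∀ w ∈ X.map (LinearMap.fst F V (Fin k → F)), β₀ w w = 0 := by
      intro w hw
      have h0 := hXq _ (hWmem w hw)
      rw [hβ] at h0
      simpa using h0
    have hpol : ∀ u ∈ X.map (LinearMap.fst F V (Fin k → F)),
        ∀ v ∈ X.map (LinearMap.fst F V (Fin k → F)), β₀ u v = 0 := by
      intro u hu v hv
      have h0 := hq (u + v) (Submodule.add_mem _ hu hv)
      simp only [map_add, LinearMap.add_apply, hq u hu, hq v hv, hβsymm v u] at h0
      have h3 : (2 : F) * β₀ u v = 0 := by linear_combination h0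
      rcases mul_eq_zero.1 h3 with h4 | h4
      · exact absurd h4 h2
      · exact h4
    have haW : ∀ w ∈ X.map (LinearMap.fst F V (Fin k → F)),
        a w ∈ X.map (LinearMap.fst F V (Fin k → F)) := by
      intro w hw
      have h0 := hXT _ (hWmem w hw)
      rw [hT] at h0
      exact ⟨_, h0, rfl⟩
    have hapow : ∀ n : ℕ, ∀ w ∈ X.map (LinearMap.fst F V (Fin k → F)),
        (a ^ n) w ∈ X.map (LinearMap.fst F V (Fin k → F)) := by
      intro n
      induction n with
      | zero => intro w hw; simpa using hw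
      | succ n ih =>
        intro w hw
        rw [pow_succ', Module.End.mul_apply]
        exact haW _ (ih w hw)
    have hbpow : ∀ w, b w = (a ^ (r - 1)) w := by
      intro w
      have h0 : a ((a ^ (r - 1)) w) = w := by
        have h3 : a * a ^ (r - 1) = 1 := by
          rw [← pow_succ', Nat.sub_add_cancel hr.one_le, har]
        have h4 := congrArg (fun f : Module.End F V => f w) h3
        simpa using h4
      have h5 : b (a ((a ^ (r - 1)) w)) = b w := by rw [h0]
      rw [hbav] at h5
      exact h5.symm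
    have hbW : ∀ w ∈ X.map (LinearMap.fst F V (Fin k → F)),
        b w ∈ X.map (LinearMap.fst F V (Fin k → F)) := by
      intro w hw
      rw [hbpow]
      exact hapow _ w hw
    refine ⟨X.map (LinearMap.fst F V (Fin k → F)), ?_, haW, ?_⟩
    · intro u hu v hv
      rw [← hβS]
      apply hpol _ _ v hv
      rw [LinearMap.sub_apply]
      exact Submodule.sub_mem _ (haW u hu) (hbW u hu)
    · have hfinj : Function.Injective ((LinearMap.fst F V (Fin k → F)).comp X.subtype) := by
        intro x x' hxx
        apply Subtype.ext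
        exact Prod.ext hxx ((hX2 _ x.2).trans (hX2 _ x'.2).symm)
      have hrange : LinearMap.range ((LinearMap.fst F V (Fin k → F)).comp X.subtype)
          = X.map (LinearMap.fst F V (Fin k → F)) := by
        rw [LinearMap.range_comp, Submodule.range_subtype]
      rw [← hrange, LinearMap.finrank_range_of_inj hfinj]

end stsgeneric

end Cfsg.Agent.Lib.helper24
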