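import Mathlib
import Cfsg.Agent.Lib.helper68.HallPet

/-!
# S5238 block G, piece K9A (helper5): the lower central series of a subgroup inside `gam G j`
-/

set_option autoImplicit false

namespace Cfsg.Agent.Lib.helper65.PearlG

open Cfsg.Agent.Lib.helper68

open scoped commutatorElement

variable {G : Type*} [Group G] [Finite G]

/-- K9a (M). Lower central series of a subgroup inside `gam G j`: induction on `k`
(`gam ↥T (k+1) = ⁅gam ↥T k, ⊤⁆`, `Subgroup.commutator_le`, `com_mem` / `gam_comm_le`). -/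
theorem pg_lcs_sub_mul (T : Subgroup G) (j : ℕ) (h : T ≤ gam G j) (k : ℕ) (hk : 1 ≤ k) (a : ↥T)
    (ha : a ∈ gam ↥T k) : (a : G) ∈ gam G (k * j) := by
  have key : ∀ k : ℕ, gam ↥T (k + 1) ≤ (gam G ((k + 1) * j)).comap T.subtype := by
    intro k
    induction k with
    | zero =>
      intro a _
      rw [Subgroup.mem_comap]
      simp only [zero_add, one_mul]
      exact h a.2
    | succ k ih =>
      have e : gam ↥T (k + 1 + 1) = ⁅gam ↥T (k + 1), (⊤ : Subgroup ↥T)⁆ := rfl
      rw [e, Subgroup.commutator_le]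
      intro g₁ hg₁ g₂ _
      rw [Subgroup.mem_comap]
      have h1 : (g₁ : G) ∈ gam G ((k + 1) * j) := ih hg₁
      have h2 : (g₂ : G) ∈ gam G j := h g₂.2
      have h3 : ⁅(g₁ : G), (g₂ : G)⁆ ∈ gam G ((k + 1) * j + j) :=
        gam_comm_le _ _ (Subgroup.commutator_mem_commutator h1 h2)
      have e2 : (k + 1 + 1) * j = (k + 1) * j + j := by ring
      rw [e2]
      exact h3
  obtain ⟨k', rfl⟩ : ∃ k', k = k' + 1 := ⟨k - 1, by omega⟩
  exact key k' ha

end Cfsg.Agent.Lib.helper65.PearlG
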