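import Mathlib
import Cfsg.Agent.S1470
import Cfsg.Agent.S1471

/-!
Transfer of the arithmetic conclusion of Bender–Glauberman, Appendix C, from an arbitrary field
with `p ^ q` elements (with the norm written as a power map) to `GaloisField p q`.
-/

set_option autoImplicit false

namespace Cfsg.Agent.Lib.helper5

theorem appC_norm_eq_one_iff (p q : ℕ) [Fact p.Prime] (hq0 : q ≠ 0) (x : GaloisField p q) :
    Algebra.norm (ZMod p) x = 1 ↔ x ^ ((p ^ q - 1) / (p - 1)) = 1 := by
  have h := FiniteField.algebraMap_norm_eq_pow (K := ZMod p) (K' := GaloisField p q) (x := x)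
  rw [GaloisField.card p q hq0, Nat.card_zmod] at h
  rw [← h]
  constructor
  · intro h1
    rw [h1, map_one]
  · intro h1
    exact (algebraMap (ZMod p) (GaloisField p q)).injective (by rw [h1, map_one])

theorem appC_final_transfer (p q : ℕ) [Fact p.Prime] [Fact q.Prime] (hp : p ≠ 2) (hq : q ≠ 2)
    (hA : Nat.Coprime ((p ^ q - 1) / (p - 1)) (p - 1))
    (F : Type*) [Field F] [Fintype F] (hF : Fintype.card F = p ^ q)
    (hinv : ∀ a : F, a ^ ((p ^ q - 1) / (p - 1)) = 1 → (2 - a) ^ ((p ^ q - 1) / (p - 1)) = 1 →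
      (2 - a⁻¹) ^ ((p ^ q - 1) / (p - 1)) = 1) : p ≤ q := by
  have hq0 : q ≠ 0 := (Fact.out : q.Prime).ne_zero
  have : Fintype (GaloisField p q) := Fintype.ofFinite _
  have hcard : Fintype.card F = Fintype.card (GaloisField p q) := by
    rw [hF, Fintype.card_eq_nat_card, GaloisField.card p q hq0]
  let e : F ≃+* GaloisField p q := FiniteField.ringEquivOfCardEq hcard
  refine Cfsg.Agent.S1470.result p q hp hq hA ?_ (Cfsg.Agent.S1471.result p q hp hq hA)
  intro a ha
  have e2 : e 2 = 2 := by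
    rw [show (2 : F) = 1 + 1 by norm_num, map_add, map_one]
    norm_num
  have e2' : e.symm 2 = 2 := by
    rw [← e2, RingEquiv.symm_apply_apply]
  obtain ⟨ha1, ha2⟩ := ha
  refine ⟨?_, ?_⟩
  · rw [appC_norm_eq_one_iff p q hq0] at ha1 ⊢
    rw [inv_pow, ha1, inv_one]
  · rw [appC_norm_eq_one_iff p q hq0] at ha1 ha2 ⊢
    have h := hinv (e.symm a) (by rw [← map_pow, ha1, map_one]) (by
      have h2 : (2 : F) - e.symm a = e.symm (2 - a) := by
        rw [map_sub, e2']
      rw [h2, ← map_pow, ha2, map_one])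
    have h' : e ((2 - (e.symm a)⁻¹) ^ ((p ^ q - 1) / (p - 1))) = 1 := by rw [h, map_one]
    rw [map_pow, map_sub, map_inv₀, e2, RingEquiv.apply_symm_apply] at h'
    exact h'

end Cfsg.Agent.Lib.helper5
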