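import Mathlib
import Cfsg.Agent.Lib.helper42.AICDefs
import Cfsg.Agent.Lib.helper18.AIC_QB2

/-! S2202 pieces QK1 - QK4 (helper42's split): transfer of `KEq`, `NCyc`, `NNor`, `KTI` along the
quotient by an odd normal subgroup centralizing all Sylow 2-subgroups. -/

set_option autoImplicit false

open Cfsg.Agent.Lib.helper42.AIC

namespace Cfsg.Agent.Lib.helper5.AIC

theorem h5_odd_quot {G : Type*} [Group G] [Finite G] (Z : Subgroup G) [Z.Normal]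
    (hZo : ∀ z ∈ Z, Odd (orderOf z)) (x : G) :
    Odd (orderOf (QuotientGroup.mk' Z x)) ↔ Odd (orderOf x) := by
  constructor
  · intro hm
    have hxm : x ^ orderOf (QuotientGroup.mk' Z x) ∈ Z := by
      apply (QuotientGroup.eq_one_iff _).1
      have h0 : QuotientGroup.mk' Z (x ^ orderOf (QuotientGroup.mk' Z x)) = 1 := by
        rw [map_pow, pow_orderOf_eq_one]
      exact h0
    have hk := hZo _ hxm
    have h1 : x ^ (orderOf (QuotientGroup.mk' Z x) *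
        orderOf (x ^ orderOf (QuotientGroup.mk' Z x))) = 1 := by
      rw [pow_mul, pow_orderOf_eq_one]
    exact Odd.of_dvd_nat (hm.mul hk) (orderOf_dvd_of_pow_eq_one h1)
  · intro hx
    exact Odd.of_dvd_nat hx (orderOf_map_dvd _ x)

theorem h5_cp_quot {G : Type*} [Group G] [Finite G] (Z : Subgroup G) [Z.Normal]
    (hZo : ∀ z ∈ Z, Odd (orderOf z)) (hZc : ∀ z ∈ Z, ∀ P : Sylow 2 G, z ∈ CP P)
    (P : Sylow 2 G) (x : G) :
    (QuotientGroup.mk' Z x) ∈ Subgroup.centralizer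
      ((((P : Subgroup G).map (QuotientGroup.mk' Z) : Subgroup (G ⧸ Z))) : Set (G ⧸ Z)) ↔
      x ∈ CP P := by
  constructor
  · intro hx
    rw [Subgroup.mem_centralizer_iff] at hx ⊢
    intro s hs
    have h1 := hx (QuotientGroup.mk' Z s) (Subgroup.mem_map_of_mem _ hs)
    have hz : (x * s)⁻¹ * (s * x) ∈ Z := by
      apply (QuotientGroup.eq_one_iff _).1
      have h0 : QuotientGroup.mk' Z ((x * s)⁻¹ * (s * x)) = 1 := by
        rw [map_mul, map_inv, map_mul, map_mul, h1, inv_mul_cancel]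
      exact h0
    have hzs : s * ((x * s)⁻¹ * (s * x)) = (x * s)⁻¹ * (s * x) * s :=
      (Subgroup.mem_centralizer_iff.1 (hZc _ hz P)) s hs
    obtain ⟨k, hk⟩ := Cfsg.Agent.Lib.helper18.AIC.qb2_two_pow P s hs
    have hzo := hZo _ hz
    have h2 : x⁻¹ * s * x⁻¹⁻¹ = s * ((x * s)⁻¹ * (s * x)) := by group
    generalize (x * s)⁻¹ * (s * x) = z at hz hzs hzo h2
    have h3 : (s * z) ^ (2 ^ k) = 1 := by
      rw [← h2, conj_pow, hk]
      group
    have hcomm : Commute s z := hzs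
    rw [hcomm.mul_pow, hk, one_mul] at h3
    have hz1 : z = 1 := Cfsg.Agent.Lib.helper18.AIC.qb2_odd_two z hzo k h3
    rw [hz1, mul_one] at h2
    calc s * x = x * (x⁻¹ * s * x⁻¹⁻¹) := by group
      _ = x * s := by rw [h2]
  · intro hx
    rw [Subgroup.mem_centralizer_iff] at hx ⊢
    intro y hy
    obtain ⟨s, hs, rfl⟩ := Subgroup.mem_map.1 hy
    rw [← map_mul, ← map_mul, hx s hs]

/-- QK1 -/
theorem keq_of_quot {G : Type*} [Group G] [Finite G] (Z : Subgroup G) [Z.Normal]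
    (hZo : ∀ z ∈ Z, Odd (orderOf z)) (hZc : ∀ z ∈ Z, ∀ P : Sylow 2 G, z ∈ CP P)
    (h : KEq (G ⧸ Z)) : KEq G := by
  obtain ⟨φ, -, hcoe, -, -, -⟩ := Cfsg.Agent.Lib.helper18.AIC.sylow_quot Z hZo hZc
  intro P Q x hxo hxP
  have h1 : QuotientGroup.mk' Z x ∈ CP (φ P) := by
    show _ ∈ Subgroup.centralizer (((φ P : Sylow 2 (G ⧸ Z)) : Subgroup (G ⧸ Z)) : Set (G ⧸ Z))
    rw [hcoe P]
    exact (h5_cp_quot Z hZo hZc P x).2 hxP
  have h2 : QuotientGroup.mk' Z x ∈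
      Subgroup.centralizer (((φ Q : Sylow 2 (G ⧸ Z)) : Subgroup (G ⧸ Z)) : Set (G ⧸ Z)) :=
    h (φ P) (φ Q) _ ((h5_odd_quot Z hZo x).2 hxo) h1
  rw [hcoe Q] at h2
  exact (h5_cp_quot Z hZo hZc Q x).1 h2

/-- QK2 -/
theorem ncyc_quot {G : Type*} [Group G] [Finite G] (hnc : NCyc G) (Z : Subgroup G) [Z.Normal]
    (hZo : ∀ z ∈ Z, Odd (orderOf z)) (hZc : ∀ z ∈ Z, ∀ P : Sylow 2 G, z ∈ CP P) :
    NCyc (G ⧸ Z) := by
  obtain ⟨φ, hbij, -, -, -, hcyc⟩ := Cfsg.Agent.Lib.helper18.AIC.sylow_quot Z hZo hZc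
  intro P' hP'
  obtain ⟨P, rfl⟩ := hbij.2 P'
  exact hnc P (hcyc P hP')

/-- QK3 -/
theorem nnor_quot {G : Type*} [Group G] [Finite G] (hnn : NNor G) (Z : Subgroup G) [Z.Normal]
    (hZo : ∀ z ∈ Z, Odd (orderOf z)) (hZc : ∀ z ∈ Z, ∀ P : Sylow 2 G, z ∈ CP P) :
    NNor (G ⧸ Z) := by
  obtain ⟨φ, hbij, -, hequiv, -, -⟩ := Cfsg.Agent.Lib.helper18.AIC.sylow_quot Z hZo hZc
  intro P' hP'
  obtain ⟨P, rfl⟩ := hbij.2 P'
  apply hnn P
  rw [← Subgroup.normalizer_eq_top_iff, eq_top_iff]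
  intro g _
  have h1 : φ (g • P) = φ P := by
    rw [hequiv]
    have := hP'
    exact Sylow.smul_eq_of_normal
  exact Sylow.smul_eq_iff_mem_normalizer.1 (hbij.1 h1)

/-- QK4 -/
theorem kti_quot {G : Type*} [Group G] [Finite G] (hE : KEq G) (Z : Subgroup G) [Z.Normal]
    (hZ : IsKsub Z) : KTI (G ⧸ Z) := by
  have hZo : ∀ z ∈ Z, Odd (orderOf z) := fun z hz => ((hZ z).1 hz).1
  have hZc : ∀ z ∈ Z, ∀ P : Sylow 2 G, z ∈ CP P := fun z hz => ((hZ z).1 hz).2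
  obtain ⟨φ, hbij, hcoe, -, -, -⟩ := Cfsg.Agent.Lib.helper18.AIC.sylow_quot Z hZo hZc
  intro P' Q' _ x' hxo hxP' _
  obtain ⟨P, rfl⟩ := hbij.2 P'
  obtain ⟨x, rfl⟩ := QuotientGroup.mk'_surjective Z x'
  have hxo' : Odd (orderOf x) := (h5_odd_quot Z hZo x).1 hxo
  have hxP : x ∈ CP P := by
    apply (h5_cp_quot Z hZo hZc P x).1
    rw [← hcoe P]
    exact hxP'
  have hxZ : x ∈ Z := (hZ x).2 ⟨hxo', fun R => hE P R x hxo' hxP⟩
  exact (QuotientGroup.eq_one_iff x).2 hxZ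

end Cfsg.Agent.Lib.helper5.AIC
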