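import Mathlib
import Cfsg.Agent.Lib.helper42.AICDefs

/-! S2202 piece E0b (helper42's split): in a CIT group all `K_P` are trivial, hence coincide. -/

set_option autoImplicit false

open Cfsg.Agent.Lib.helper42.AIC

namespace Cfsg.Agent.Lib.helper5.AIC

/-- a non-identity element of a Sylow 2-subgroup has an involution among its powers. -/
theorem h5_exists_pow_inv {G : Type*} [Group G] [Finite G] (P : Sylow 2 G) {x : G}
    (hxP : x ∈ (P : Subgroup G)) (hx : x ≠ 1) : ∃ n : ℕ, orderOf (x ^ n) = 2 := by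
  obtain ⟨k, hk⟩ := (IsPGroup.iff_orderOf.1 P.isPGroup') ⟨x, hxP⟩
  have hk' : orderOf x = 2 ^ k := by
    rw [← Subgroup.orderOf_coe] at hk
    exact hk
  have hk0 : k ≠ 0 := by
    rintro rfl
    rw [pow_zero, orderOf_eq_one_iff] at hk'
    exact hx hk'
  obtain ⟨j, rfl⟩ := Nat.exists_eq_succ_of_ne_zero hk0
  refine ⟨2 ^ j, ?_⟩
  have hpos : 0 < 2 ^ j := Nat.pos_of_ne_zero (by positivity)
  have h1 : orderOf (x ^ 2 ^ j) = orderOf x / Nat.gcd (orderOf x) (2 ^ j) := orderOf_pow x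
  rw [h1, hk', Nat.gcd_eq_right (pow_dvd_pow 2 (Nat.le_succ j)), pow_succ,
    Nat.mul_div_cancel_left _ hpos]

/-- E0b -/
theorem keq_of_cith {G : Type*} [Group G] [Finite G] (hC : CITH G) (hnc : NCyc G) : KEq G := by
  intro P Q x hxo hxP
  have hne : ∃ y ∈ (P : Subgroup G), y ≠ 1 := by
    by_contra hcon
    push_neg at hcon
    have hsub : Subsingleton ↥(P : Subgroup G) :=
      ⟨fun a b => Subtype.ext ((hcon a a.2).trans (hcon b b.2).symm)⟩
    exact hnc P isCyclic_of_subsingleton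
  obtain ⟨y, hyP, hy1⟩ := hne
  obtain ⟨n, hn⟩ := h5_exists_pow_inv P hyP hy1
  have htP : y ^ n ∈ (P : Subgroup G) := Subgroup.pow_mem _ hyP n
  have hxc : x ∈ Subgroup.centralizer ({y ^ n} : Set G) := by
    rw [Subgroup.mem_centralizer_iff]
    intro z hz
    rw [Set.mem_singleton_iff.1 hz]
    exact (Subgroup.mem_centralizer_iff.1 hxP) _ htP
  have hx2 : x ^ 2 = 1 := (hC _ hn).2 x hxc
  have hd : orderOf x ∣ 2 := orderOf_dvd_of_pow_eq_one hx2
  have h1 : orderOf x = 1 := by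
    rcases (Nat.dvd_prime Nat.prime_two).1 hd with h | h
    · exact h
    · rw [h] at hxo
      exact absurd hxo (by decide)
  rw [orderOf_eq_one_iff.1 h1]
  exact Subgroup.one_mem _

end Cfsg.Agent.Lib.helper5.AIC
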