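import Mathlib
import Cfsg.Prelude.Def_LieTypeChar
import Cfsg.Agent.Lib.helper44.LODefs
import Cfsg.Agent.Lib.helper6.LOARITH

/-!
# S2363 pieces F4, E7, E8 (arithmetic cores, helper5)
-/

set_option autoImplicit false

namespace Cfsg.Agent.Lib.helper44.LO

open Cfsg

/-- A product of factors `q ^ k - 1` (`k ≠ 0`, `p ∣ q`, `q ≥ 2`) is prime to `p`, positive and at
most `q ^ (sum of the k)`. -/
theorem h5_lo_prod (p q : ℕ) (hp : p.Prime) (hpq : p ∣ q) (hq2 : 2 ≤ q) (ks : List ℕ)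
    (hks : ∀ k ∈ ks, k ≠ 0) :
    ¬ p ∣ (ks.map (fun k => q ^ k - 1)).prod ∧ 0 < (ks.map (fun k => q ^ k - 1)).prod ∧
      (ks.map (fun k => q ^ k - 1)).prod ≤ q ^ ks.sum := by
  induction ks with
  | nil => simp [hp.one_lt.ne']
  | cons k ks ih =>
    have hk : k ≠ 0 := hks k (by simp)
    obtain ⟨h1, h2, h3⟩ := ih (fun j hj => hks j (by simp [hj]))
    have hq1 : 1 ≤ q ^ k := Nat.one_le_pow _ _ (by omega)
    have hqk : 2 ≤ q ^ k := le_trans hq2 (Nat.le_self_pow hk q)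
    have hnd : ¬ p ∣ q ^ k - 1 := by
      intro hd
      have h1 : p ∣ q ^ k := dvd_trans hpq (dvd_pow_self q hk)
      have h2 : q ^ k - 1 + 1 = q ^ k := Nat.sub_add_cancel hq1
      rw [← h2] at h1
      exact hp.one_lt.ne' (Nat.dvd_one.mp ((Nat.dvd_add_right hd).mp h1))
    simp only [List.map_cons, List.prod_cons, List.sum_cons]
    refine ⟨?_, ?_, ?_⟩
    · intro h
      rcases (Nat.Prime.dvd_mul hp).mp h with h | h
      · exact hnd h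
      · exact h1 h
    · exact Nat.mul_pos (by omega) h2
    · rw [pow_add]
      exact Nat.mul_le_mul (Nat.sub_le _ _) h3

/-- Strict version for a nonempty list. -/
theorem h5_lo_prod_lt (p q : ℕ) (hp : p.Prime) (hpq : p ∣ q) (hq2 : 2 ≤ q) (k : ℕ) (ks : List ℕ)
    (hks : ∀ j ∈ k :: ks, j ≠ 0) :
    ((k :: ks).map (fun k => q ^ k - 1)).prod < q ^ (k :: ks).sum := by
  have hk : k ≠ 0 := hks k (by simp)
  obtain ⟨-, h2, h3⟩ := h5_lo_prod p q hp hpq hq2 ks (fun j hj => hks j (by simp [hj]))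
  have hq1 : 1 ≤ q ^ k := Nat.one_le_pow _ _ (by omega)
  simp only [List.map_cons, List.prod_cons, List.sum_cons]
  rw [pow_add]
  calc (q ^ k - 1) * (ks.map (fun k => q ^ k - 1)).prod
      < q ^ k * (ks.map (fun k => q ^ k - 1)).prod :=
        Nat.mul_lt_mul_of_pos_right (Nat.sub_lt hq1 Nat.one_pos) h2
    _ ≤ q ^ k * q ^ ks.sum := Nat.mul_le_mul_left _ h3

/-- General core: `c * n = q ^ N * ∏ (q ^ k - 1)` with `c ∣ q - 1`, `c ≠ 0`. -/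
theorem h5_lo_chev_core (p : ℕ) (hp : p.Prime) (f : ℕ) (hf : 1 ≤ f) (c n N : ℕ) (k : ℕ)
    (ks : List ℕ) (hks : ∀ j ∈ k :: ks, j ≠ 0) (hc0 : c ≠ 0) (hcd : c ∣ p ^ f - 1)
    (hn : c * n = (p ^ f) ^ N * ((k :: ks).map (fun k => (p ^ f) ^ k - 1)).prod)
    (h1 : (k :: ks).sum ≤ 2 * N) (h2 : 3 * (k :: ks).sum ≤ 5 * N) : LOGood p n := by
  have hpq : p ∣ p ^ f := dvd_pow_self p (by omega)
  have hq2 : 2 ≤ p ^ f := by
    calc 2 ≤ p := hp.two_le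
      _ = p ^ 1 := (pow_one p).symm
      _ ≤ p ^ f := Nat.pow_le_pow_right hp.pos hf
  obtain ⟨ha, -, -⟩ := h5_lo_prod p (p ^ f) hp hpq hq2 (k :: ks) hks
  have hlt := h5_lo_prod_lt p (p ^ f) hp hpq hq2 k ks hks
  have hcp : ¬ p ∣ c := by
    intro h
    have h3 : p ∣ p ^ f - 1 := dvd_trans h hcd
    have h4 : p ^ f - 1 + 1 = p ^ f := Nat.sub_add_cancel (by omega)
    rw [← h4] at hpq
    exact hp.one_lt.ne' (Nat.dvd_one.mp ((Nat.dvd_add_right h3).mp hpq))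
  refine lo_good hp f hf c n N _ (k :: ks).sum hn hcp ha ?_ h1 h2
  calc ((k :: ks).map (fun k => (p ^ f) ^ k - 1)).prod < (p ^ f) ^ (k :: ks).sum := hlt
    _ = 1 * (p ^ f) ^ (k :: ks).sum := (one_mul _).symm
    _ ≤ c * (p ^ f) ^ (k :: ks).sum := Nat.mul_le_mul_right _ (Nat.pos_of_ne_zero hc0)

/-- F4 core. -/
theorem h5_lo_f4_core (p : ℕ) (hp : p.Prime) (f : ℕ) (hf : 1 ≤ f) (n : ℕ)
    (hn : n = (p ^ f) ^ 24 * ((p ^ f) ^ 2 - 1) * ((p ^ f) ^ 6 - 1) * ((p ^ f) ^ 8 - 1) *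
      ((p ^ f) ^ 12 - 1)) : LOGood p n := by
  refine h5_lo_chev_core p hp f hf 1 n 24 2 [6, 8, 12] (by decide) one_ne_zero (one_dvd _) ?_
    (by decide) (by decide)
  rw [hn]
  simp only [List.map_cons, List.map_nil, List.prod_cons, List.prod_nil]
  ring

/-- E7 core. -/
theorem h5_lo_e7_core (p : ℕ) (hp : p.Prime) (f : ℕ) (hf : 1 ≤ f) (n : ℕ)
    (hn : Nat.gcd 2 (p ^ f - 1) * n = (p ^ f) ^ 63 * ((p ^ f) ^ 2 - 1) * ((p ^ f) ^ 6 - 1) *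
      ((p ^ f) ^ 8 - 1) * ((p ^ f) ^ 10 - 1) * ((p ^ f) ^ 12 - 1) * ((p ^ f) ^ 14 - 1) *
      ((p ^ f) ^ 18 - 1)) : LOGood p n := by
  refine h5_lo_chev_core p hp f hf (Nat.gcd 2 (p ^ f - 1)) n 63 2 [6, 8, 10, 12, 14, 18] (by decide)
    (Nat.gcd_pos_of_pos_left _ (by norm_num)).ne' (Nat.gcd_dvd_right _ _) ?_ (by decide) (by decide)
  rw [hn]
  simp only [List.map_cons, List.map_nil, List.prod_cons, List.prod_nil]
  ring

/-- E8 core. -/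
theorem h5_lo_e8_core (p : ℕ) (hp : p.Prime) (f : ℕ) (hf : 1 ≤ f) (n : ℕ)
    (hn : n = (p ^ f) ^ 120 * ((p ^ f) ^ 2 - 1) * ((p ^ f) ^ 8 - 1) * ((p ^ f) ^ 12 - 1) *
      ((p ^ f) ^ 14 - 1) * ((p ^ f) ^ 18 - 1) * ((p ^ f) ^ 20 - 1) * ((p ^ f) ^ 24 - 1) *
      ((p ^ f) ^ 30 - 1)) : LOGood p n := by
  refine h5_lo_chev_core p hp f hf 1 n 120 2 [8, 12, 14, 18, 20, 24, 30] (by decide) one_ne_zero
    (one_dvd _) ?_ (by decide) (by decide)
  rw [hn]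
  simp only [List.map_cons, List.map_nil, List.prod_cons, List.prod_nil]
  ring

/-- G2 core. -/
theorem h5_lo_g2_core (p : ℕ) (hp : p.Prime) (f : ℕ) (hf : 1 ≤ f) (n : ℕ)
    (hn : n = (p ^ f) ^ 6 * ((p ^ f) ^ 2 - 1) * ((p ^ f) ^ 6 - 1)) : LOGood p n := by
  refine h5_lo_chev_core p hp f hf 1 n 6 2 [6] (by decide) one_ne_zero (one_dvd _) ?_
    (by decide) (by decide)
  rw [hn]
  simp only [List.map_cons, List.map_nil, List.prod_cons, List.prod_nil]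
  ring

end Cfsg.Agent.Lib.helper44.LO
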