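import Cfsg.Agent.S1059
import Cfsg.Agent.Lib.helper5.LOChevCore

/-!
# S2363 piece G2 (racer copy by helper5)
-/

set_option autoImplicit false

namespace Cfsg.Agent.Lib.helper44.LO

open Cfsg

/-- G2. -/
theorem h5_lo_g2 {F : Type} [Field F] [Fintype F] (p : ℕ) (hp : p.Prime) [CharP F p] :
    LOGood p (Nat.card ↥(Cfsg.Lie.chevG2.group F)) := by
  have : Fact p.Prime := ⟨hp⟩
  obtain ⟨f, -, hf⟩ := FiniteField.card F p
  exact h5_lo_g2_core p hp f f.pos _ (Cfsg.Agent.S1059.result hf)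

end Cfsg.Agent.Lib.helper44.LO
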