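import Mathlib
import Cfsg.Prelude.Def_LieTypeChar
import Cfsg.Agent.Lib.helper44.LODefs
import Cfsg.Agent.Lib.helper6.LOARITH

/-!
# S2363 piece TD4 (core, helper5): the order formula of `³D₄(q)` gives `LOGood`
-/

set_option autoImplicit false

namespace Cfsg.Agent.Lib.helper44.LO

open Cfsg

/-- In a finite field of characteristic `p` whose order is `q ^ k` (`k ≥ 1`, `q` a prime power),
`q` is a power `p ^ f` with `f ≥ 1`. -/
theorem h5_lo_q_pow {K : Type} [Field K] [Fintype K] (p : ℕ) (hp : p.Prime) [CharP K p] (q : ℕ)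
    (hq : IsPrimePow q) (k : ℕ) (hk : k ≠ 0) (hK : Fintype.card K = q ^ k) :
    ∃ f : ℕ, 1 ≤ f ∧ q = p ^ f := by
  obtain ⟨r, f, hr, hf, rfl⟩ := hq
  have hr' : r.Prime := hr.nat_prime
  refine ⟨f, hf, ?_⟩
  haveI : Fact p.Prime := ⟨hp⟩
  have hpK : p ∣ Fintype.card K := by
    obtain ⟨n, hn⟩ := FiniteField.card K p
    rw [hn.2]
    exact dvd_pow_self p (PNat.ne_zero n)
  rw [hK] at hpK
  have h1 : p ∣ r := hp.dvd_of_dvd_pow (hp.dvd_of_dvd_pow hpK)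
  rw [(Nat.prime_dvd_prime_iff_eq hp hr').mp h1]

/-- TD4 core: arithmetic only. -/
theorem h5_lo_td4_core (p : ℕ) (hp : p.Prime) (f : ℕ) (hf : 1 ≤ f) (n : ℕ)
    (hn : n = (p ^ f) ^ 12 * ((p ^ f) ^ 2 - 1) * ((p ^ f) ^ 6 - 1) *
      ((p ^ f) ^ 8 + (p ^ f) ^ 4 + 1)) : LOGood p n := by
  set q := p ^ f with hqdef
  have hpq : p ∣ q := dvd_pow_self p (by omega)
  have hq2 : 2 ≤ q := by
    calc 2 ≤ p := hp.two_le
      _ = p ^ 1 := (pow_one p).symm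
      _ ≤ p ^ f := Nat.pow_le_pow_right hp.pos hf
  have hq1 : ∀ k : ℕ, 1 ≤ q ^ k := fun k => Nat.one_le_pow _ _ (by omega)
  have hnd : ∀ k : ℕ, k ≠ 0 → ¬ p ∣ q ^ k - 1 := by
    intro k hk hd
    have h1 : p ∣ q ^ k := dvd_trans hpq (dvd_pow_self q hk)
    have h2 : q ^ k - 1 + 1 = q ^ k := Nat.sub_add_cancel (hq1 k)
    rw [← h2] at h1
    exact hp.one_lt.ne' (Nat.dvd_one.mp ((Nat.dvd_add_right hd).mp h1))
  have hnd3 : ¬ p ∣ q ^ 8 + q ^ 4 + 1 := by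
    intro hd
    have h1 : p ∣ q ^ 8 + q ^ 4 :=
      dvd_add (dvd_trans hpq (dvd_pow_self q (by norm_num)))
        (dvd_trans hpq (dvd_pow_self q (by norm_num)))
    exact hp.one_lt.ne' (Nat.dvd_one.mp ((Nat.dvd_add_right h1).mp hd))
  refine lo_good hp f hf 1 n 12 ((q ^ 2 - 1) * (q ^ 6 - 1) * (q ^ 8 + q ^ 4 + 1)) 16 ?_ ?_ ?_ ?_
    (by norm_num) (by norm_num)
  · rw [hn]; ring
  · intro h
    exact hp.one_lt.ne' (Nat.dvd_one.mp h)
  · intro h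
    rcases (Nat.Prime.dvd_mul hp).mp h with h | h
    · rcases (Nat.Prime.dvd_mul hp).mp h with h | h
      · exact hnd 2 (by norm_num) h
      · exact hnd 6 (by norm_num) h
    · exact hnd3 h
  · rw [one_mul]
    have ha : (q ^ 2 - 1) * (q ^ 8 + q ^ 4 + 1) < q ^ 10 := by
      obtain ⟨a, ha⟩ : ∃ a, q ^ 2 = a + 1 := ⟨q ^ 2 - 1, (Nat.sub_add_cancel (hq1 2)).symm⟩
      have e10 : q ^ 10 = (q ^ 2) ^ 5 := by ring
      have e8 : q ^ 8 = (q ^ 2) ^ 4 := by ring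
      have e4 : q ^ 4 = (q ^ 2) ^ 2 := by ring
      have ha1 : 3 ≤ a := by nlinarith
      rw [e10, e8, e4, ha, Nat.add_sub_cancel]
      nlinarith [pow_pos (show 0 < a by omega) 2, pow_pos (show 0 < a by omega) 3,
        pow_pos (show 0 < a by omega) 4]
    have hb : q ^ 6 - 1 < q ^ 6 := Nat.sub_lt (hq1 6) Nat.one_pos
    have hb' : 0 < q ^ 6 - 1 := by
      have : 2 ^ 6 ≤ q ^ 6 := Nat.pow_le_pow_left hq2 6
      omega
    calc (q ^ 2 - 1) * (q ^ 6 - 1) * (q ^ 8 + q ^ 4 + 1)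
        = ((q ^ 2 - 1) * (q ^ 8 + q ^ 4 + 1)) * (q ^ 6 - 1) := by ring
      _ < q ^ 10 * (q ^ 6 - 1) := Nat.mul_lt_mul_of_pos_right ha hb'
      _ ≤ q ^ 10 * q ^ 6 := Nat.mul_le_mul_left _ hb.le
      _ = q ^ 16 := by ring

end Cfsg.Agent.Lib.helper44.LO
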