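import Cfsg.Agent.S1067
import Cfsg.Agent.Lib.helper5.LOTD4core

/-!
# S2363 piece TD4 (racer copy by helper5): `³D₄(q)` satisfies `LOGood`
-/

set_option autoImplicit false

namespace Cfsg.Agent.Lib.helper44.LO

open Cfsg

/-- TD4. -/
theorem h5_lo_td4 {K : Type} [Field K] [Fintype K] (p : ℕ) (hp : p.Prime) [CharP K p] (q : ℕ) (hq : IsPrimePow q)
    (hK : Fintype.card K = q ^ 3) : LOGood p (Nat.card ↥(Cfsg.Lie.twistedD4 K q)) := by
  obtain ⟨f, hf, rfl⟩ := h5_lo_q_pow p hp q hq 3 (by norm_num) hK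
  exact h5_lo_td4_core p hp f hf _ (Cfsg.Agent.S1067.result hq hK)

end Cfsg.Agent.Lib.helper44.LO
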