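import Mathlib

/-!
# A local certificate of non-solvability (helper5)

Two 3-cycles whose supports share exactly one point generate a non-solvable group (a copy of `A₅`).
Forms: `h5_not_solvable_of_pair` (abstract identity), `h5_not_solvable_of_three_cycles` (subgroup of
`Equiv.Perm α`), `h5_not_solvable_of_hom` (any group with a homomorphism to `Equiv.Perm α`).
-/

set_option autoImplicit false

namespace Cfsg.Agent.Lib.helper5.A5Cert

open Equiv
open scoped commutatorElement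

/-- Abstract certificate: `x` and `y` are both conjugate (by words in `x`, `y`) to their
commutator. -/
theorem h5_not_solvable_of_pair {G : Type*} [Group G] (x y : G) (hx : x ≠ 1)
    (h₁ : x = (x⁻¹ * y⁻¹ * x) * ⁅x, y⁆ * (x⁻¹ * y⁻¹ * x)⁻¹)
    (h₂ : y = (y⁻¹ * x⁻¹ * y) * ⁅y, x⁆ * (y⁻¹ * x⁻¹ * y)⁻¹) : ¬ Group.IsSolvable G := by
  have key : ∀ n : ℕ, x ∈ derivedSeries G n ∧ y ∈ derivedSeries G n := by
    intro n
    induction n with
    | zero => exact ⟨Subgroup.mem_top x, Subgroup.mem_top y⟩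
    | succ n ih =>
      have hn : (derivedSeries G (n + 1)).Normal := derivedSeries_normal G (n + 1)
      have hc₁ : ⁅x, y⁆ ∈ derivedSeries G (n + 1) := Subgroup.commutator_mem_commutator ih.1 ih.2
      have hc₂ : ⁅y, x⁆ ∈ derivedSeries G (n + 1) := Subgroup.commutator_mem_commutator ih.2 ih.1
      constructor
      · have := hn.conj_mem _ hc₁ (x⁻¹ * y⁻¹ * x)
        rwa [← h₁] at this
      · have := hn.conj_mem _ hc₂ (y⁻¹ * x⁻¹ * y)
        rwa [← h₂] at this
  exact not_isSolvable_of_mem_derivedSeries hx fun n => (key n).1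

/-- The word identity for `σ = (a b c)`, `τ = (a d e)`. -/
theorem h5_three_cycle_word {α : Type*} (σ τ : Perm α) (a b c d e : α)
    (hσa : σ a = b) (hσb : σ b = c) (hσc : σ c = a) (hσd : σ d = d) (hσe : σ e = e)
    (hσx : ∀ x, x ≠ a → x ≠ b → x ≠ c → σ x = x)
    (hτa : τ a = d) (hτd : τ d = e) (hτe : τ e = a) (hτb : τ b = b) (hτc : τ c = c)
    (hτx : ∀ x, x ≠ a → x ≠ d → x ≠ e → τ x = x) :
    σ = (σ⁻¹ * τ⁻¹ * σ) * ⁅σ, τ⁆ * (σ⁻¹ * τ⁻¹ * σ)⁻¹ := by
  have iσb : σ⁻¹ b = a := Perm.inv_eq_iff_eq.mpr hσa.symm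
  have iσc : σ⁻¹ c = b := Perm.inv_eq_iff_eq.mpr hσb.symm
  have iσa : σ⁻¹ a = c := Perm.inv_eq_iff_eq.mpr hσc.symm
  have iσd : σ⁻¹ d = d := Perm.inv_eq_iff_eq.mpr hσd.symm
  have iσe : σ⁻¹ e = e := Perm.inv_eq_iff_eq.mpr hσe.symm
  have iτd : τ⁻¹ d = a := Perm.inv_eq_iff_eq.mpr hτa.symm
  have iτe : τ⁻¹ e = d := Perm.inv_eq_iff_eq.mpr hτd.symm
  have iτa : τ⁻¹ a = e := Perm.inv_eq_iff_eq.mpr hτe.symm
  have iτb : τ⁻¹ b = b := Perm.inv_eq_iff_eq.mpr hτb.symm
  have iτc : τ⁻¹ c = c := Perm.inv_eq_iff_eq.mpr hτc.symm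
  have hw : (σ⁻¹ * τ⁻¹ * σ) * ⁅σ, τ⁆ * (σ⁻¹ * τ⁻¹ * σ)⁻¹ =
      σ⁻¹ * τ⁻¹ * σ * σ * τ * σ⁻¹ * τ⁻¹ * σ⁻¹ * τ * σ := by
    rw [commutatorElement_def]; group
  rw [hw]
  ext x
  by_cases hxa : x = a
  · subst hxa
    simp only [Perm.mul_apply, hσa, hτb, iσb, iτa, iσe, hτe, hσb, iτc, iσc]
  by_cases hxb : x = b
  · subst hxb
    simp only [Perm.mul_apply, hσb, hτc, iσc, iτb, iσb, hτa, hσd, iτd, iσa]
  by_cases hxc : x = c
  · subst hxc
    simp only [Perm.mul_apply, hσc, hτa, iσd, iτd, iσa, hτc, hσa, iτb, iσb]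
  by_cases hxd : x = d
  · subst hxd
    simp only [Perm.mul_apply, hσd, hτd, iσe, iτe, iσd, hσe]
  by_cases hxe : x = e
  · subst hxe
    simp only [Perm.mul_apply, hσe, hτe, iσa, iτc, iσc, hτb, hσb, hσc, iτa, iσe]
  · have h1 : σ x = x := by
      by_cases h : x = d
      · exact absurd h hxd
      · exact hσx x hxa hxb hxc
    have h2 : τ x = x := hτx x hxa hxd hxe
    have h3 : σ⁻¹ x = x := Perm.inv_eq_iff_eq.mpr h1.symm
    have h4 : τ⁻¹ x = x := Perm.inv_eq_iff_eq.mpr h2.symm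
    simp only [Perm.mul_apply, h1, h2, h3, h4]

/-- Two 3-cycles sharing exactly one point, in concrete form. -/
theorem h5_not_solvable_of_points {α : Type*} (H : Subgroup (Perm α)) (σ τ : Perm α)
    (hσH : σ ∈ H) (hτH : τ ∈ H) (a b c d e : α) (hab : a ≠ b)
    (hσa : σ a = b) (hσb : σ b = c) (hσc : σ c = a) (hσd : σ d = d) (hσe : σ e = e)
    (hσx : ∀ x, x ≠ a → x ≠ b → x ≠ c → σ x = x)
    (hτa : τ a = d) (hτd : τ d = e) (hτe : τ e = a) (hτb : τ b = b) (hτc : τ c = c)
    (hτx : ∀ x, x ≠ a → x ≠ d → x ≠ e → τ x = x) : ¬ Group.IsSolvable ↥H := by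
  have e₁ := h5_three_cycle_word σ τ a b c d e hσa hσb hσc hσd hσe hσx hτa hτd hτe hτb hτc hτx
  have e₂ := h5_three_cycle_word τ σ a d e b c hτa hτd hτe hτb hτc hτx hσa hσb hσc hσd hσe hσx
  have hσ1 : (⟨σ, hσH⟩ : ↥H) ≠ 1 := by
    intro h
    have h' : σ = 1 := congrArg Subtype.val h
    rw [h'] at hσa
    exact hab hσa
  refine h5_not_solvable_of_pair (⟨σ, hσH⟩ : ↥H) ⟨τ, hτH⟩ hσ1 ?_ ?_
  · apply Subtype.ext
    simpa [commutatorElement_def] using e₁
  · apply Subtype.ext
    simpa [commutatorElement_def] using e₂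

/-- Two 3-cycles in a permutation group whose supports share exactly one point: the group is
not solvable. -/
theorem h5_not_solvable_of_three_cycles {α : Type*} [Fintype α] [DecidableEq α]
    (H : Subgroup (Perm α)) (σ τ : Perm α) (hσH : σ ∈ H) (hτH : τ ∈ H)
    (hσ : σ.IsThreeCycle) (hτ : τ.IsThreeCycle) (hst : (σ.support ∩ τ.support).card = 1) :
    ¬ Group.IsSolvable ↥H := by
  obtain ⟨a, ha⟩ := Finset.card_eq_one.mp hst
  have haσ : a ∈ σ.support := (Finset.mem_inter.mp (by rw [ha]; exact Finset.mem_singleton_self a)).1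
  have haτ : a ∈ τ.support := (Finset.mem_inter.mp (by rw [ha]; exact Finset.mem_singleton_self a)).2
  have honly : ∀ x, x ∈ σ.support → x ∈ τ.support → x = a := by
    intro x h1 h2
    have : x ∈ σ.support ∩ τ.support := Finset.mem_inter.mpr ⟨h1, h2⟩
    rw [ha] at this
    exact Finset.mem_singleton.mp this
  -- generic facts about a 3-cycle through `a`
  have cyc : ∀ ρ : Perm α, ρ.IsThreeCycle → a ∈ ρ.support →
      ρ (ρ (ρ a)) = a ∧ ρ a ≠ a ∧ ρ (ρ a) ≠ ρ a ∧ ρ (ρ a) ≠ a ∧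
        (∀ x, x ≠ a → x ≠ ρ a → x ≠ ρ (ρ a) → ρ x = x) := by
    intro ρ hρ haρ
    have h3 : ρ ^ 3 = 1 := by rw [← hρ.orderOf]; exact pow_orderOf_eq_one ρ
    have h3a : ρ (ρ (ρ a)) = a := by
      have := congrArg (fun f : Perm α => f a) h3
      simpa [pow_succ, Perm.mul_apply] using this
    have h1 : ρ a ≠ a := Perm.mem_support.mp haρ
    have h2 : ρ (ρ a) ≠ ρ a := fun h => h1 (ρ.injective h)
    have h4 : ρ (ρ a) ≠ a := by
      intro h
      apply h1
      have : ρ (ρ (ρ a)) = ρ a := congrArg ρ h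
      rw [h3a] at this
      exact this.symm
    refine ⟨h3a, h1, h2, h4, ?_⟩
    have hsub : ({a, ρ a, ρ (ρ a)} : Finset α) ⊆ ρ.support := by
      intro x hx
      simp only [Finset.mem_insert, Finset.mem_singleton] at hx
      rcases hx with rfl | rfl | rfl
      · exact haρ
      · exact Perm.mem_support.mpr h2
      · rw [Perm.mem_support, h3a]; exact h4.symm
    have hcard : ({a, ρ a, ρ (ρ a)} : Finset α).card = 3 := by
      rw [Finset.card_insert_of_notMem, Finset.card_insert_of_notMem, Finset.card_singleton]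
      · simpa using h2.symm
      · simp only [Finset.mem_insert, Finset.mem_singleton, not_or]
        exact ⟨h1.symm, h4.symm⟩
    have heq : ({a, ρ a, ρ (ρ a)} : Finset α) = ρ.support :=
      Finset.eq_of_subset_of_card_le hsub (by rw [hcard, hρ.card_support])
    intro x hx1 hx2 hx3
    rw [← Perm.notMem_support, ← heq]
    simp only [Finset.mem_insert, Finset.mem_singleton, not_or]
    exact ⟨hx1, hx2, hx3⟩
  obtain ⟨s3, s1, s2, s4, sx⟩ := cyc σ hσ haσ
  obtain ⟨t3, t1, t2, t4, tx⟩ := cyc τ hτ haτ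
  -- the other points of the two supports are not shared
  have hbσ : σ a ∈ σ.support := Perm.mem_support.mpr s2
  have hcσ : σ (σ a) ∈ σ.support := by rw [Perm.mem_support, s3]; exact s4.symm
  have hdτ : τ a ∈ τ.support := Perm.mem_support.mpr t2
  have heτ : τ (τ a) ∈ τ.support := by rw [Perm.mem_support, t3]; exact t4.symm
  have hτb : τ (σ a) = σ a := by
    rw [← Perm.notMem_support]
    intro h
    exact s1 (honly _ hbσ h)
  have hτc : τ (σ (σ a)) = σ (σ a) := by
    rw [← Perm.notMem_support]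
    intro h
    exact s4 (honly _ hcσ h)
  have hσd : σ (τ a) = τ a := by
    rw [← Perm.notMem_support]
    intro h
    exact t1 (honly _ h hdτ)
  have hσe : σ (τ (τ a)) = τ (τ a) := by
    rw [← Perm.notMem_support]
    intro h
    exact t4 (honly _ h heτ)
  exact h5_not_solvable_of_points H σ τ hσH hτH a (σ a) (σ (σ a)) (τ a) (τ (τ a)) s1.symm
    rfl rfl s3 hσd hσe sx rfl rfl t3 hτb hτc tx

/-- The same certificate through a homomorphism to a permutation group (for instance a restriction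
to an invariant set, or the inclusion of a subgroup of an alternating group). -/
theorem h5_not_solvable_of_hom {G : Type*} [Group G] {α : Type*} [Fintype α] [DecidableEq α]
    (f : G →* Perm α) (x y : G) (hx : (f x).IsThreeCycle) (hy : (f y).IsThreeCycle)
    (hst : ((f x).support ∩ (f y).support).card = 1) : ¬ Group.IsSolvable G := by
  intro hG
  have hR : Group.IsSolvable ↥f.range := Group.isSolvable_of_surjective f.rangeRestrict_surjective
  exact h5_not_solvable_of_three_cycles f.range (f x) (f y) ⟨x, rfl⟩ ⟨y, rfl⟩ hx hy hst hR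

end Cfsg.Agent.Lib.helper5.A5Cert
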