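import Mathlib
import Cfsg.Agent.Lib.helper42.AICDefs

/-! S2202 piece I1 (helper42's split): `PSL₂(F) ≃* SL₂(F)` in characteristic 2. -/

set_option autoImplicit false

open Cfsg.Agent.Lib.helper42.AIC

namespace Cfsg.Agent.Lib.helper5.AIC

/-- I1 (Mathlib only) -/
theorem psl_equiv_sl (F : Type) [Field F] [Fintype F] (hF : CharP F 2) :
    Nonempty (Matrix.ProjectiveSpecialLinearGroup (Fin 2) F ≃*
      Matrix.SpecialLinearGroup (Fin 2) F) := by
  have hc : Subgroup.center (Matrix.SpecialLinearGroup (Fin 2) F) = ⊥ := by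
    rw [Subgroup.eq_bot_iff_forall]
    intro A hA
    rw [Matrix.SpecialLinearGroup.mem_center_iff] at hA
    obtain ⟨r, hr, hrA⟩ := hA
    have h2 : (2 : F) = 0 := by
      have := CharP.cast_eq_zero F 2
      exact_mod_cast this
    have hr' : r ^ 2 = 1 := by simpa using hr
    have hr1 : r = 1 := by
      have h3 : (r - 1) ^ 2 = 0 := by linear_combination hr' + (1 - r) * h2
      have h4 : r - 1 = 0 := by simpa using h3
      exact sub_eq_zero.1 h4
    rw [hr1] at hrA
    apply Subtype.ext
    rw [← hrA]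
    simp
  exact ⟨(QuotientGroup.quotientMulEquivOfEq hc).trans QuotientGroup.quotientBot⟩

end Cfsg.Agent.Lib.helper5.AIC
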