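import Mathlib
import Cfsg.Prelude.Def_Characters
import Cfsg.Agent.Lib.helper5.Irr

set_option autoImplicit false

/-!
Representations all of whose irreducible subrepresentations are one-dimensional.
-/

namespace Cfsg.Agent.Lib.helper5

/-- If every minimal nonzero invariant submodule of a finite-dimensional representation of a
finite group is one-dimensional, then the image of the representation is commutative. -/
theorem rep_comm_of_minimal_finrank_one {G V : Type*} [Group G] [Finite G] [AddCommGroup V]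
    [Module ℂ V] [FiniteDimensional ℂ V] (ρ : Representation ℂ G V)
    (h : ∀ W : Submodule ℂ V, W ≠ ⊥ → (∀ g v, v ∈ W → ρ g v ∈ W) →
      (∀ W' : Submodule ℂ V, W' ≤ W → (∀ g v, v ∈ W' → ρ g v ∈ W') → W' = ⊥ ∨ W' = W) →
      Module.finrank ℂ W = 1) (a b : G) : ρ (a * b) = ρ (b * a) := by
  classical
  let U : Submodule ℂ V :=
    { carrier := {v | ∀ a b : G, ρ (a * b) v = ρ (b * a) v}
      add_mem' := fun {x y} hx hy a b => by rw [map_add, map_add, hx a b, hy a b]
      zero_mem' := fun a b => by rw [map_zero, map_zero]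
      smul_mem' := fun c x hx a b => by rw [map_smul, map_smul, hx a b] }
  have hU : ∀ g v, v ∈ U → ρ g v ∈ U := by
    intro k v hv a b
    have := hv (k⁻¹ * a * k) (k⁻¹ * b * k)
    calc ρ (a * b) (ρ k v) = ρ k (ρ ((k⁻¹ * a * k) * (k⁻¹ * b * k)) v) := by
          rw [← Module.End.mul_apply, ← Module.End.mul_apply, ← map_mul, ← map_mul]
          congr 2; group
      _ = ρ k (ρ ((k⁻¹ * b * k) * (k⁻¹ * a * k)) v) := by rw [this]
      _ = ρ (b * a) (ρ k v) := by
          rw [← Module.End.mul_apply, ← Module.End.mul_apply, ← map_mul, ← map_mul]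
          congr 2; group
  have hUtop : U = ⊤ := by
    apply eq_top_of_contains_minimal ρ U hU
    intro W hW0 hWinv hWmin
    have hfr : Module.finrank ℂ W = 1 := h W hW0 hWinv hWmin
    obtain ⟨w0, hw0, hspan⟩ := finrank_eq_one_iff'.1 hfr
    have hsc : ∀ g : G, ∃ c : ℂ, ρ g (w0 : V) = c • (w0 : V) := by
      intro g
      obtain ⟨c, hc⟩ := hspan (subRep ρ W hWinv g w0)
      exact ⟨c, by rw [← subRep_apply ρ W hWinv g w0, ← hc]; rfl⟩
    intro w hw a b
    obtain ⟨c, hc⟩ := hspan ⟨w, hw⟩
    have hw' : w = c • (w0 : V) := by rw [← Submodule.coe_smul, hc]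
    obtain ⟨ca, hca⟩ := hsc a
    obtain ⟨cb, hcb⟩ := hsc b
    have e1 : ρ (a * b) (w0 : V) = (ca * cb) • (w0 : V) := by
      rw [map_mul, Module.End.mul_apply, hcb, map_smul, hca, smul_smul, mul_comm]
    have e2 : ρ (b * a) (w0 : V) = (ca * cb) • (w0 : V) := by
      rw [map_mul, Module.End.mul_apply, hca, map_smul, hcb, smul_smul]
    rw [hw', map_smul, map_smul, e1, e2]
  ext v
  have hv : v ∈ U := by rw [hUtop]; trivial
  exact hv a b

end Cfsg.Agent.Lib.helper5
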