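import Mathlib
import Cfsg.Agent.Lib.helper31.AppCDefs

/-!
Bender–Glauberman, Appendix C, Step 4 (statement S1472): the "main identity" and the claim
that the set `E` is stable under a twisted inversion, from the abstract configuration `AppCCore`,
assuming `N_P(D) = ⟨s⟩` and the special case of the TI-lemma (L).
-/

set_option autoImplicit false

namespace Cfsg.Agent.Lib.helper5

section QCalc

variable {G : Type*} [Group G]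

theorem h5ac_conj_mem {Q : Subgroup G} {s : G} (hsQ : s ∈ Subgroup.normalizer (Q : Set G))
    {q : G} (hq : q ∈ Q) : s * q * s⁻¹ ∈ Q :=
  (Subgroup.mem_set_normalizer_iff.1 hsQ q).1 hq

theorem h5ac_conj_mem' {Q : Subgroup G} {s : G} (hsQ : s ∈ Subgroup.normalizer (Q : Set G))
    {q : G} (hq : q ∈ Q) : s⁻¹ * q * s ∈ Q :=
  (Subgroup.mem_set_normalizer_iff''.1 hsQ q).1 hq

theorem h5ac_zconj_mem {Q : Subgroup G} {s : G} (hsQ : s ∈ Subgroup.normalizer (Q : Set G))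
    (a : ℤ) {q : G} (hq : q ∈ Q) : s ^ a * q * s ^ (-a) ∈ Q := by
  have h : s ^ a ∈ Subgroup.normalizer (Q : Set G) := Subgroup.zpow_mem _ hsQ a
  have h2 := h5ac_conj_mem h hq
  rwa [← zpow_neg] at h2

theorem h5ac_pk_mem {Q : Subgroup G} {s : G} (hsQ : s ∈ Subgroup.normalizer (Q : Set G))
    {z : G} (hz : z ∈ Q) (k : ℕ) : (s ^ k)⁻¹ * (z * s) ^ k ∈ Q := by
  induction k with
  | zero => simp
  | succ k ih =>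
    have h1 : (s ^ (k + 1))⁻¹ * (z * s) ^ (k + 1) = s⁻¹ * ((s ^ k)⁻¹ * (z * s) ^ k * z) * s := by
      rw [pow_succ, pow_succ]
      generalize (z * s) ^ k = w
      generalize s ^ k = r
      group
    rw [h1]
    exact h5ac_conj_mem' hsQ (Q.mul_mem ih hz)

theorem h5ac_N_mul {Q : Subgroup G} (hQc : ∀ a ∈ Q, ∀ b ∈ Q, a * b = b * a) {s : G}
    (hsQ : s ∈ Subgroup.normalizer (Q : Set G)) {z w : G} (hz : z ∈ Q) (hw : w ∈ Q) (k : ℕ) :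
    (z * w * s) ^ k = (z * s) ^ k * (s ^ k)⁻¹ * (w * s) ^ k := by
  induction k with
  | zero => simp
  | succ k ih =>
    have hc := hQc z hz _ (h5ac_pk_mem hsQ hw k)
    rw [pow_succ, ih, pow_succ, pow_succ, pow_succ]
    generalize (z * s) ^ k = A at *
    generalize (w * s) ^ k = W at *
    generalize s ^ k = r at *
    calc A * r⁻¹ * W * (z * w * s) = A * (r⁻¹ * W * z) * (w * s) := by group
      _ = A * (z * (r⁻¹ * W)) * (w * s) := by rw [hc]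
      _ = A * (z * s) * (r * s)⁻¹ * (W * (w * s)) := by group

theorem h5ac_N_mul_p {Q : Subgroup G} (hQc : ∀ a ∈ Q, ∀ b ∈ Q, a * b = b * a) {s : G}
    (hsQ : s ∈ Subgroup.normalizer (Q : Set G)) {p : ℕ} (hs : s ^ p = 1) {z w : G}
    (hz : z ∈ Q) (hw : w ∈ Q) : (z * w * s) ^ p = (z * s) ^ p * (w * s) ^ p := by
  rw [h5ac_N_mul hQc hsQ hz hw p, hs, inv_one, mul_one]

theorem h5ac_N_mem {Q : Subgroup G} {s : G}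
    (hsQ : s ∈ Subgroup.normalizer (Q : Set G)) {p : ℕ} (hs : s ^ p = 1) {z : G}
    (hz : z ∈ Q) : (z * s) ^ p ∈ Q := by
  have h := h5ac_pk_mem hsQ hz p
  rwa [hs, inv_one, one_mul] at h

theorem h5ac_N_inv {Q : Subgroup G} (hQc : ∀ a ∈ Q, ∀ b ∈ Q, a * b = b * a) {s : G}
    (hsQ : s ∈ Subgroup.normalizer (Q : Set G)) {p : ℕ} (hs : s ^ p = 1) {z : G}
    (hz : z ∈ Q) : (z⁻¹ * s) ^ p = ((z * s) ^ p)⁻¹ := by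
  have h := h5ac_N_mul_p hQc hsQ hs hz (Q.inv_mem hz)
  rw [mul_inv_cancel, one_mul, hs] at h
  exact eq_inv_of_mul_eq_one_right h.symm

theorem h5ac_N_conj {Q : Subgroup G} (hQc : ∀ a ∈ Q, ∀ b ∈ Q, a * b = b * a) {s : G}
    (hsQ : s ∈ Subgroup.normalizer (Q : Set G)) {p : ℕ} (hs : s ^ p = 1) {z : G}
    (hz : z ∈ Q) : (s * z * s⁻¹ * s) ^ p = (z * s) ^ p := by
  have hN : (z * s) ^ p ∈ Q := h5ac_N_mem hsQ hs hz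
  have hcomm := hQc z hz _ hN
  have hpow : (z * s) ^ p * (z * s) = z * s * (z * s) ^ p := pow_mul_comm' (z * s) p
  have h0 : s * z * s⁻¹ * s = s * (z * s) * s⁻¹ := by group
  rw [h0, conj_pow]
  generalize (z * s) ^ p = N at *
  have h2 : z * (s * N) = z * (N * s) := by
    rw [← mul_assoc, ← hpow, ← mul_assoc, ← mul_assoc, hcomm]
  have h3 : s * N = N * s := mul_left_cancel h2
  rw [h3, mul_inv_cancel_right]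

theorem h5ac_N_zconj {Q : Subgroup G} (hQc : ∀ a ∈ Q, ∀ b ∈ Q, a * b = b * a) {s : G}
    (hsQ : s ∈ Subgroup.normalizer (Q : Set G)) {p : ℕ} (hs : s ^ p = 1) {z : G}
    (hz : z ∈ Q) (a : ℤ) : (s ^ a * z * s ^ (-a) * s) ^ p = (z * s) ^ p := by
  induction a using Int.induction_on with
  | zero => simp
  | succ i ih =>
    have h1 : s ^ ((i : ℤ) + 1) * z * s ^ (-((i : ℤ) + 1)) * s
        = s * (s ^ (i : ℤ) * z * s ^ (-(i : ℤ))) * s⁻¹ * s := by group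
    rw [h1, h5ac_N_conj hQc hsQ hs (h5ac_zconj_mem hsQ _ hz), ih]
  | pred i ih =>
    have hm : s ^ (-(i : ℤ) - 1) * z * s ^ (-(-(i : ℤ) - 1)) ∈ Q := h5ac_zconj_mem hsQ _ hz
    have h1 : s ^ (-(i : ℤ)) * z * s ^ (-(-(i : ℤ))) * s
        = s * (s ^ (-(i : ℤ) - 1) * z * s ^ (-(-(i : ℤ) - 1))) * s⁻¹ * s := by group
    rw [← ih, h1, h5ac_N_conj hQc hsQ hs hm]

theorem h5ac_pow_eq_one {Q : Subgroup G} [Finite G] {p : ℕ} (hQp : (Nat.card Q).Coprime p)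
    {z : G} (hz : z ∈ Q) (hzp : z ^ p = 1) : z = 1 := by
  have h1 : z ^ Nat.card Q = 1 := by
    have h := pow_card_eq_one' (G := Q) (x := ⟨z, hz⟩)
    exact congrArg Subtype.val h
  have h2 := Nat.dvd_gcd (orderOf_dvd_of_pow_eq_one h1) (orderOf_dvd_of_pow_eq_one hzp)
  rw [Nat.Coprime] at hQp
  rw [hQp, Nat.dvd_one] at h2
  exact orderOf_eq_one_iff.1 h2

theorem h5ac_fpf {Q : Subgroup G} [Finite G] (hQc : ∀ a ∈ Q, ∀ b ∈ Q, a * b = b * a) {p : ℕ}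
    (hQp : (Nat.card Q).Coprime p) {s y : G}
    (hsQ : s ∈ Subgroup.normalizer (Q : Set G)) (hs : s ^ p = 1) (hy : y ∈ Q) (a b c d : ℤ)
    (hfix : s * (s ^ a * y * s ^ (-a) * (s ^ b * y * s ^ (-b)) * (s ^ c * y * s ^ (-c))⁻¹ *
        (s ^ d * y * s ^ (-d))⁻¹) * s⁻¹
      = s ^ a * y * s ^ (-a) * (s ^ b * y * s ^ (-b)) * (s ^ c * y * s ^ (-c))⁻¹ *
        (s ^ d * y * s ^ (-d))⁻¹) :
    s ^ a * y * s ^ (-a) * (s ^ b * y * s ^ (-b)) = s ^ c * y * s ^ (-c) * (s ^ d * y * s ^ (-d)) := by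
  have hYa := h5ac_zconj_mem hsQ a hy
  have hYb := h5ac_zconj_mem hsQ b hy
  have hYc := h5ac_zconj_mem hsQ c hy
  have hYd := h5ac_zconj_mem hsQ d hy
  have hNa := h5ac_N_zconj hQc hsQ hs hy a
  have hNb := h5ac_N_zconj hQc hsQ hs hy b
  have hNc := h5ac_N_zconj hQc hsQ hs hy c
  have hNd := h5ac_N_zconj hQc hsQ hs hy d
  generalize s ^ a * y * s ^ (-a) = Ya at *
  generalize s ^ b * y * s ^ (-b) = Yb at *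
  generalize s ^ c * y * s ^ (-c) = Yc at *
  generalize s ^ d * y * s ^ (-d) = Yd at *
  have hN : (Ya * Yb * Yc⁻¹ * Yd⁻¹ * s) ^ p = 1 := by
    rw [h5ac_N_mul_p hQc hsQ hs (Q.mul_mem (Q.mul_mem hYa hYb) (Q.inv_mem hYc)) (Q.inv_mem hYd),
      h5ac_N_mul_p hQc hsQ hs (Q.mul_mem hYa hYb) (Q.inv_mem hYc),
      h5ac_N_mul_p hQc hsQ hs hYa hYb, h5ac_N_inv hQc hsQ hs hYc, h5ac_N_inv hQc hsQ hs hYd,
      hNa, hNb, hNc, hNd]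
    group
  have hε : Ya * Yb * Yc⁻¹ * Yd⁻¹ ∈ Q :=
    Q.mul_mem (Q.mul_mem (Q.mul_mem hYa hYb) (Q.inv_mem hYc)) (Q.inv_mem hYd)
  have hε1 : Ya * Yb * Yc⁻¹ * Yd⁻¹ = 1 := by
    generalize Ya * Yb * Yc⁻¹ * Yd⁻¹ = ε at *
    have h1 : s * ε = ε * s := by
      calc s * ε = (s * ε * s⁻¹) * s := by group
        _ = ε * s := by rw [hfix]
    have hcomm : Commute ε s := h1.symm
    rw [hcomm.mul_pow, hs, mul_one] at hN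
    exact h5ac_pow_eq_one hQp hε hN
  calc Ya * Yb = (Ya * Yb * Yc⁻¹ * Yd⁻¹) * (Yd * Yc) := by group
    _ = Yd * Yc := by rw [hε1, one_mul]
    _ = Yc * Yd := hQc _ hYd _ hYc

theorem h5ac_gen {Q : Subgroup G} [Finite G] (hQc : ∀ a ∈ Q, ∀ b ∈ Q, a * b = b * a) {p : ℕ}
    (hQp : (Nat.card Q).Coprime p) {s c : G}
    (hsQ : s ∈ Subgroup.normalizer (Q : Set G)) (hc : c ∈ Q) (hcs : (c * s) ^ p = 1) :
    c * s ∈ Subgroup.closure ({s, (c * s) * s * (c * s)⁻¹} : Set G) := by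
  set K := Subgroup.closure ({s, (c * s) * s * (c * s)⁻¹} : Set G) with hK
  have hsK : s ∈ K := Subgroup.subset_closure (by simp)
  have h2K : (c * s) * s * (c * s)⁻¹ ∈ K := Subgroup.subset_closure (by simp)
  have hd : s * c * s⁻¹ * c⁻¹ ∈ K := by
    have h0 : s * c * s⁻¹ * c⁻¹ = s * ((c * s) * s * (c * s)⁻¹)⁻¹ := by group
    rw [h0]
    exact K.mul_mem hsK (K.inv_mem h2K)
  have hA : ∀ k : ℕ, s ^ k * c * (s ^ k)⁻¹ * c⁻¹ ∈ K := by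
    intro k
    induction k with
    | zero => simp
    | succ k ih =>
      have h0 : s ^ (k + 1) * c * (s ^ (k + 1))⁻¹ * c⁻¹
          = s * (s ^ k * c * (s ^ k)⁻¹ * c⁻¹) * s⁻¹ * (s * c * s⁻¹ * c⁻¹) := by
        rw [pow_succ']
        generalize s ^ k = r
        group
      rw [h0]
      exact K.mul_mem (K.mul_mem (K.mul_mem hsK ih) (K.inv_mem hsK)) hd
  have hB : ∀ k : ℕ, (c * s) ^ k * (s ^ k)⁻¹ * (c ^ k)⁻¹ ∈ K := by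
    intro k
    induction k with
    | zero => simp
    | succ k ih =>
      have hsk : s ^ k ∈ Subgroup.normalizer (Q : Set G) := Subgroup.pow_mem _ hsQ k
      have hE : s ^ k * c * (s ^ k)⁻¹ * c⁻¹ ∈ Q := Q.mul_mem (h5ac_conj_mem hsk hc) (Q.inv_mem hc)
      have hcomm := hQc _ hE _ (Q.inv_mem (Q.pow_mem hc k))
      have hAk := hA k
      have h0 : (c * s) ^ (k + 1) * (s ^ (k + 1))⁻¹ * (c ^ (k + 1))⁻¹
          = (c * s) ^ k * (s ^ k)⁻¹ * ((s ^ k * c * (s ^ k)⁻¹ * c⁻¹) * (c ^ k)⁻¹) := by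
        rw [pow_succ, pow_succ, pow_succ]
        generalize (c * s) ^ k = A
        generalize s ^ k = r
        generalize c ^ k = C
        group
      rw [h0, hcomm, ← mul_assoc]
      exact K.mul_mem ih hAk
  have hcp : c ^ p ∈ K := by
    have h := hB p
    rw [hcs, one_mul] at h
    have h2 := K.mul_mem (K.pow_mem hsK p) h
    rw [mul_inv_cancel_left] at h2
    exact (K.inv_mem_iff).1 h2
  have hcard : c ^ Nat.card Q = 1 := by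
    have h := pow_card_eq_one' (G := Q) (x := ⟨c, hc⟩)
    exact congrArg Subtype.val h
  have hb := Int.gcd_eq_gcd_ab (Nat.card Q) p
  rw [show Int.gcd (Nat.card Q : ℤ) (p : ℤ) = 1 from hQp] at hb
  have hcK : c ∈ K := by
    have h1 : c = (c ^ Nat.card Q) ^ (Int.gcdA (Nat.card Q) p) * (c ^ p) ^ (Int.gcdB (Nat.card Q) p) := by
      rw [← zpow_natCast, ← zpow_natCast, ← zpow_mul, ← zpow_mul, ← zpow_add, ← hb]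
      simp
    rw [h1, hcard, one_zpow, one_mul]
    exact K.zpow_mem hcp _
  exact K.mul_mem hcK hsK

theorem h5ac_add_aux {A : Type*} [AddCommGroup A] (b0 b1 b2 b3 c0 c1 c2 : A)
    (h : b0 + -b1 + b2 + -b3 = c1 + -c0 + c2 + -b3) :
    c1 + -b3 + b1 + -b2 = c0 + -c2 + b0 + -b3 := by
  have key : c1 + -b3 + b1 + -b2 - (c0 + -c2 + b0 + -b3)
      = (c1 + -c0 + c2 + -b3) - (b0 + -b1 + b2 + -b3) := by abel
  rw [← h, sub_self] at key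
  exact sub_eq_zero.1 key

theorem h5ac_mul_aux {A : Type*} [CommGroup A] (b0 b1 b2 b3 c0 c1 c2 : A)
    (h : b0 * b1⁻¹ * b2 * b3⁻¹ = c1 * c0⁻¹ * c2 * b3⁻¹) :
    c1 * b3⁻¹ * b1 * b2⁻¹ = c0 * c2⁻¹ * b0 * b3⁻¹ :=
  h5ac_add_aux (A := Additive A) b0 b1 b2 b3 c0 c1 c2 h

theorem h5ac_sub_aux {Q : Subgroup G} (hQc : ∀ a ∈ Q, ∀ b ∈ Q, a * b = b * a)
    {b0 b1 b2 b3 c0 c1 c2 : G} (hb0 : b0 ∈ Q) (hb1 : b1 ∈ Q) (hb2 : b2 ∈ Q) (hb3 : b3 ∈ Q)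
    (hc0 : c0 ∈ Q) (hc1 : c1 ∈ Q) (hc2 : c2 ∈ Q)
    (h : b0 * b1⁻¹ * b2 * b3⁻¹ = c1 * c0⁻¹ * c2 * b3⁻¹) :
    c1 * b3⁻¹ * b1 * b2⁻¹ = c0 * c2⁻¹ * b0 * b3⁻¹ := by
  let _i : CommGroup Q := { (inferInstance : Group Q) with
    mul_comm := fun a b => Subtype.ext (hQc a a.2 b b.2) }
  have h' : (⟨b0, hb0⟩ : Q) * ⟨b1, hb1⟩⁻¹ * ⟨b2, hb2⟩ * ⟨b3, hb3⟩⁻¹
      = ⟨c1, hc1⟩ * ⟨c0, hc0⟩⁻¹ * ⟨c2, hc2⟩ * ⟨b3, hb3⟩⁻¹ := Subtype.ext h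
  exact congrArg Subtype.val (h5ac_mul_aux (A := Q) ⟨b0, hb0⟩ ⟨b1, hb1⟩ ⟨b2, hb2⟩ ⟨b3, hb3⟩
    ⟨c0, hc0⟩ ⟨c1, hc1⟩ ⟨c2, hc2⟩ h')

/-- fixed-point-free lemma, in the shape used below. -/
theorem h5ac_fpf' {Q : Subgroup G} [Finite G] (hQc : ∀ a ∈ Q, ∀ b ∈ Q, a * b = b * a) {p : ℕ}
    (hQp : (Nat.card Q).Coprime p) {s y : G}
    (hsQ : s ∈ Subgroup.normalizer (Q : Set G)) (hs : s ^ p = 1) (hy : y ∈ Q) (a b c d : ℤ)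
    (hfix : s * (s ^ a * y * s ^ (-a) * (s ^ c * y * s ^ (-c))⁻¹ * (s ^ b * y * s ^ (-b)) *
        (s ^ d * y * s ^ (-d))⁻¹) * s⁻¹
      = s ^ a * y * s ^ (-a) * (s ^ c * y * s ^ (-c))⁻¹ * (s ^ b * y * s ^ (-b)) *
        (s ^ d * y * s ^ (-d))⁻¹) :
    s ^ a * y * s ^ (-a) * (s ^ c * y * s ^ (-c))⁻¹ * (s ^ b * y * s ^ (-b)) *
        (s ^ d * y * s ^ (-d))⁻¹ = 1 := by
  have hYa := h5ac_zconj_mem hsQ a hy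
  have hYb := h5ac_zconj_mem hsQ b hy
  have hYc := h5ac_zconj_mem hsQ c hy
  have hYd := h5ac_zconj_mem hsQ d hy
  have hNa := h5ac_N_zconj hQc hsQ hs hy a
  have hNb := h5ac_N_zconj hQc hsQ hs hy b
  have hNc := h5ac_N_zconj hQc hsQ hs hy c
  have hNd := h5ac_N_zconj hQc hsQ hs hy d
  generalize s ^ a * y * s ^ (-a) = Ya at *
  generalize s ^ b * y * s ^ (-b) = Yb at *
  generalize s ^ c * y * s ^ (-c) = Yc at *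
  generalize s ^ d * y * s ^ (-d) = Yd at *
  have hN : (Ya * Yc⁻¹ * Yb * Yd⁻¹ * s) ^ p = 1 := by
    rw [h5ac_N_mul_p hQc hsQ hs (Q.mul_mem (Q.mul_mem hYa (Q.inv_mem hYc)) hYb) (Q.inv_mem hYd),
      h5ac_N_mul_p hQc hsQ hs (Q.mul_mem hYa (Q.inv_mem hYc)) hYb,
      h5ac_N_mul_p hQc hsQ hs hYa (Q.inv_mem hYc), h5ac_N_inv hQc hsQ hs hYc,
      h5ac_N_inv hQc hsQ hs hYd, hNa, hNb, hNc, hNd]
    group
  have hε : Ya * Yc⁻¹ * Yb * Yd⁻¹ ∈ Q :=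
    Q.mul_mem (Q.mul_mem (Q.mul_mem hYa (Q.inv_mem hYc)) hYb) (Q.inv_mem hYd)
  generalize Ya * Yc⁻¹ * Yb * Yd⁻¹ = ε at *
  have h1 : s * ε = ε * s := by
    calc s * ε = (s * ε * s⁻¹) * s := by group
      _ = ε * s := by rw [hfix]
  have hcomm : Commute ε s := h1.symm
  rw [hcomm.mul_pow, hs, mul_one] at hN
  exact h5ac_pow_eq_one hQp hε hN

end QCalc

section Core

open Cfsg.Agent.Lib.helper31

variable {G : Type*} [Group G] [Finite G] {p : ℕ} {P U Q : Subgroup G} {s y : G}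

theorem h5ac_s_ne_one (h : AppCCore p P U Q s y) : s ≠ 1 := by
  intro hs1
  obtain ⟨u, hu, hu1⟩ := h.Unt
  exact hu1 (h.free u hu 0 (by rw [hs1]; simp))

theorem h5ac_orderOf (h : AppCCore p P U Q s y) : orderOf s = p :=
  haveI := Fact.mk h.prime
  orderOf_eq_prime h.sp (h5ac_s_ne_one h)

theorem h5ac_dvd_of_zpow (h : AppCCore p P U Q s y) {k : ℤ} (hk : s ^ k = 1) : (p : ℤ) ∣ k := by
  rw [← h5ac_orderOf h]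
  exact orderOf_dvd_iff_zpow_eq_one.2 hk

theorem h5ac_zpow_of_dvd (h : AppCCore p P U Q s y) {k : ℤ} (hk : (p : ℤ) ∣ k) : s ^ k = 1 := by
  obtain ⟨c, rfl⟩ := hk
  rw [zpow_mul, zpow_natCast, h.sp, one_zpow]

theorem h5ac_zpow_mem_Q (h : AppCCore p P U Q s y) {k : ℤ} (hk : s ^ k ∈ Q) : s ^ k = 1 := by
  apply h5ac_pow_eq_one h.Qcop hk
  rw [← zpow_natCast, ← zpow_mul, mul_comm, zpow_mul, zpow_natCast, h.sp, one_zpow]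

theorem h5ac_tU (h : AppCCore p P U Q s y) (k : ℤ) {u : G} (hu : u ∈ U) :
    (y * s * y⁻¹) ^ k * u * ((y * s * y⁻¹) ^ k)⁻¹ ∈ U :=
  h5ac_conj_mem (Subgroup.zpow_mem _ h.tU k) hu

theorem h5ac_R (h : AppCCore p P U Q s y) (a b : ℤ) :
    (y * s * y⁻¹) ^ a * s ^ (-a - b) * (y * s * y⁻¹) ^ b
      = s ^ (-b) * (y * s * y⁻¹) ^ (a + b) * s ^ (-a) := by
  rw [conj_zpow, conj_zpow, conj_zpow]
  have hA : s ^ a * y⁻¹ * s ^ (-a) ∈ Q := h5ac_zconj_mem h.sQ a (Q.inv_mem h.yQ)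
  have hB : s ^ (-b) * y * s ^ (-(-b)) ∈ Q := h5ac_zconj_mem h.sQ (-b) h.yQ
  have h1 := h.Qcomm y h.yQ _ hA
  have h2 := h.Qcomm y h.yQ _ hB
  have h3 := h.Qcomm _ hA _ hB
  have e1 : y * s ^ a * y⁻¹ * s ^ (-a - b) * (y * s ^ b * y⁻¹)
      = y * (s ^ a * y⁻¹ * s ^ (-a)) * (s ^ (-b) * y * s ^ (-(-b))) * y⁻¹ := by group
  have e2 : s ^ (-b) * (y * s ^ (a + b) * y⁻¹) * s ^ (-a)
      = (s ^ (-b) * y * s ^ (-(-b))) * (s ^ a * y⁻¹ * s ^ (-a)) := by group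
  rw [e1, e2]
  generalize s ^ a * y⁻¹ * s ^ (-a) = A at *
  generalize s ^ (-b) * y * s ^ (-(-b)) = B at *
  calc y * A * B * y⁻¹ = A * (y * B) * y⁻¹ := by rw [h1]; group
    _ = A * (B * y) * y⁻¹ := by rw [h2]
    _ = A * B := by group
    _ = B * A := h3

omit [Finite G] in
theorem h5ac_main_aux {s t b v : G}
    (I1 : t ^ (3 : ℤ) * s ^ (-2 : ℤ) * t ^ (-1 : ℤ) * s ^ (3 : ℤ) * t ^ (-2 : ℤ) = s)
    (I2 : t ^ (2 : ℤ) * s ^ (-1 : ℤ) * t ^ (-1 : ℤ) * s ^ (2 : ℤ) * t ^ (-1 : ℤ) = s)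
    (I3 : t ^ (3 : ℤ) * s ^ (-1 : ℤ) * t ^ (-2 : ℤ) * s ^ (3 : ℤ) * t ^ (-1 : ℤ) = s ^ 2)
    (hbv : (b * s * b⁻¹) * (v * s * v⁻¹) = s ^ 2) :
    (t⁻¹ ^ 2 * b * t ^ 2) * s ^ 3 * (t⁻¹ ^ 2 * b * t ^ 2)⁻¹ *
        ((t⁻¹ ^ 2 * v * t ^ 2) * s⁻¹ * (t⁻¹ ^ 2 * v * t ^ 2)⁻¹)
      = t * ((t⁻¹ ^ 3 * b * t ^ 3) * s ^ 2 * (t⁻¹ ^ 3 * b * t ^ 3)⁻¹ * s⁻¹) * t⁻¹ *
        (t⁻¹ * (s ^ 3 * ((t⁻¹ * v * t) * s ^ 2 * (t⁻¹ * v * t)⁻¹)⁻¹) * t) := by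
  have E1 : b * s * b⁻¹ = t ^ (3 : ℤ) * ((t⁻¹ ^ 3 * b * t ^ 3) * s ^ (-2 : ℤ) *
      (t⁻¹ ^ 3 * b * t ^ 3)⁻¹) * t ^ (-1 : ℤ) *
      ((t⁻¹ ^ 2 * b * t ^ 2) * s ^ (3 : ℤ) * (t⁻¹ ^ 2 * b * t ^ 2)⁻¹) * t ^ (-2 : ℤ) := by
    calc b * s * b⁻¹
        = b * (t ^ (3 : ℤ) * s ^ (-2 : ℤ) * t ^ (-1 : ℤ) * s ^ (3 : ℤ) * t ^ (-2 : ℤ)) * b⁻¹ := by
          rw [I1]
      _ = _ := by group
  have E2 : v * s * v⁻¹ = t ^ (2 : ℤ) * ((t⁻¹ ^ 2 * v * t ^ 2) * s ^ (-1 : ℤ) *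
      (t⁻¹ ^ 2 * v * t ^ 2)⁻¹) * t ^ (-1 : ℤ) *
      ((t⁻¹ * v * t) * s ^ (2 : ℤ) * (t⁻¹ * v * t)⁻¹) * t ^ (-1 : ℤ) := by
    calc v * s * v⁻¹
        = v * (t ^ (2 : ℤ) * s ^ (-1 : ℤ) * t ^ (-1 : ℤ) * s ^ (2 : ℤ) * t ^ (-1 : ℤ)) * v⁻¹ := by
          rw [I2]
      _ = _ := by group
  rw [E1, E2, ← I3] at hbv
  generalize t⁻¹ ^ 3 * b * t ^ 3 = b3 at hbv ⊢
  generalize t⁻¹ ^ 2 * b * t ^ 2 = b2 at hbv ⊢
  generalize t⁻¹ ^ 2 * v * t ^ 2 = v2 at hbv ⊢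
  generalize t⁻¹ * v * t = v1 at hbv ⊢
  have key : (t ^ (3 : ℤ) * (b3 * s ^ (-2 : ℤ) * b3⁻¹) * t ^ (-1 : ℤ)) *
      (b2 * s ^ 3 * b2⁻¹ * (v2 * s⁻¹ * v2⁻¹)) * (t ^ (-1 : ℤ) * (v1 * s ^ (2 : ℤ) * v1⁻¹) * t ^ (-1 : ℤ))
      = t ^ (3 : ℤ) * s ^ (-1 : ℤ) * t ^ (-2 : ℤ) * s ^ (3 : ℤ) * t ^ (-1 : ℤ) := by
    rw [← hbv]
    group
  calc b2 * s ^ 3 * b2⁻¹ * (v2 * s⁻¹ * v2⁻¹)
      = (t ^ (3 : ℤ) * (b3 * s ^ (-2 : ℤ) * b3⁻¹) * t ^ (-1 : ℤ))⁻¹ *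
        ((t ^ (3 : ℤ) * (b3 * s ^ (-2 : ℤ) * b3⁻¹) * t ^ (-1 : ℤ)) *
          (b2 * s ^ 3 * b2⁻¹ * (v2 * s⁻¹ * v2⁻¹)) *
          (t ^ (-1 : ℤ) * (v1 * s ^ (2 : ℤ) * v1⁻¹) * t ^ (-1 : ℤ))) *
        (t ^ (-1 : ℤ) * (v1 * s ^ (2 : ℤ) * v1⁻¹) * t ^ (-1 : ℤ))⁻¹ := by group
    _ = (t ^ (3 : ℤ) * (b3 * s ^ (-2 : ℤ) * b3⁻¹) * t ^ (-1 : ℤ))⁻¹ *
        (t ^ (3 : ℤ) * s ^ (-1 : ℤ) * t ^ (-2 : ℤ) * s ^ (3 : ℤ) * t ^ (-1 : ℤ)) *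
        (t ^ (-1 : ℤ) * (v1 * s ^ (2 : ℤ) * v1⁻¹) * t ^ (-1 : ℤ))⁻¹ := by rw [key]
    _ = t * (b3 * s ^ 2 * b3⁻¹ * s⁻¹) * t⁻¹ * (t⁻¹ * (s ^ 3 * (v1 * s ^ 2 * v1⁻¹)⁻¹) * t) := by
      group

theorem h5ac_norm_of_conj {D : Subgroup G} {S : Set G} (hS : D ≤ Subgroup.closure S) {g : G}
    (hg : ∀ z ∈ S, g * z * g⁻¹ ∈ D) : g ∈ Subgroup.normalizer (D : Set G) := by
  have hle : D.map (MulAut.conj g).toMonoidHom ≤ D := by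
    refine (Subgroup.map_mono hS).trans ?_
    rw [MonoidHom.map_closure, Subgroup.closure_le]
    rintro _ ⟨z, hz, rfl⟩
    simpa using hg z hz
  have hcard : Nat.card (D.map (MulAut.conj g).toMonoidHom) = Nat.card D :=
    Subgroup.card_map_of_injective (MulAut.conj g).injective
  have heq : D.map (MulAut.conj g).toMonoidHom = D := Subgroup.eq_of_le_of_card_ge hle hcard.ge
  rw [Subgroup.mem_set_normalizer_iff]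
  intro z
  constructor
  · intro hz
    have h1 : g * z * g⁻¹ ∈ D.map (MulAut.conj g).toMonoidHom := ⟨z, hz, by simp⟩
    rw [heq] at h1
    exact h1
  · intro hz
    have hz' : g * z * g⁻¹ ∈ D := hz
    rw [← heq] at hz'
    obtain ⟨w, hw, hwz⟩ := hz'
    have h2 : w = z := by simpa using hwz
    rw [← h2]
    exact hw

theorem h5ac_factA (h : AppCCore p P U Q s y) {x1 x2 : G} (hx1 : x1 ∈ P) (hx2 : x2 ∈ P)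
    (hd : x1 * (y * s * y⁻¹)⁻¹ * x2 ∈ Subgroup.closure ({s, y * s * y⁻¹} : Set G)) :
    x1 ∈ Subgroup.normalizer ((Subgroup.closure ({s, y * s * y⁻¹} : Set G) : Subgroup G) : Set G) ∧
    x2 ∈ Subgroup.normalizer
      ((Subgroup.closure ({s, y * s * y⁻¹} : Set G) : Subgroup G) : Set G) := by
  have hc : y * s * y⁻¹ * s⁻¹ ∈ Q := by
    have h0 : y * s * y⁻¹ * s⁻¹ = y * (s * y⁻¹ * s⁻¹) := by group
    rw [h0]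
    exact Q.mul_mem h.yQ (h5ac_conj_mem h.sQ (Q.inv_mem h.yQ))
  have hcs : (y * s * y⁻¹ * s⁻¹ * s) ^ p = 1 := by
    rw [inv_mul_cancel_right, conj_pow, h.sp]
    group
  have hgen := h5ac_gen h.Qcomm h.Qcop h.sQ hc hcs
  rw [inv_mul_cancel_right] at hgen
  have hsx1 : x1⁻¹ * s * x1 = s := by
    rw [h.Pcomm _ (P.inv_mem hx1) _ h.sP, inv_mul_cancel_right]
  have hsx2 : x2⁻¹ * s * x2⁻¹⁻¹ = s := by
    rw [h.Pcomm _ (P.inv_mem hx2) _ h.sP, mul_inv_cancel_right]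
  generalize y * s * y⁻¹ = t at *
  have hsD : s ∈ Subgroup.closure ({s, t} : Set G) := Subgroup.subset_closure (by simp)
  have htD : t ∈ Subgroup.closure ({s, t} : Set G) := Subgroup.subset_closure (by simp)
  have hDle : Subgroup.closure ({s, t} : Set G) ≤ Subgroup.closure ({s, t * s * t⁻¹} : Set G) := by
    rw [Subgroup.closure_le]
    intro z hz
    rcases hz with hz | hz
    · rw [hz]
      exact Subgroup.subset_closure (by simp)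
    · rw [Set.mem_singleton_iff.1 hz]
      exact hgen
  have hx2n : x2⁻¹ ∈ Subgroup.normalizer ((Subgroup.closure ({s, t} : Set G) : Subgroup G) : Set G) := by
    apply h5ac_norm_of_conj hDle
    intro z hz
    rcases hz with hz | hz
    · rw [hz, hsx2]
      exact hsD
    · rw [Set.mem_singleton_iff.1 hz]
      have h0 : x2⁻¹ * (t * s * t⁻¹) * x2⁻¹⁻¹ = (x1 * t⁻¹ * x2)⁻¹ * s * (x1 * t⁻¹ * x2) := by
        calc x2⁻¹ * (t * s * t⁻¹) * x2⁻¹⁻¹ = x2⁻¹ * (t * (x1⁻¹ * s * x1) * t⁻¹) * x2⁻¹⁻¹ := by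
              rw [hsx1]
          _ = (x1 * t⁻¹ * x2)⁻¹ * s * (x1 * t⁻¹ * x2) := by group
      rw [h0]
      exact Subgroup.mul_mem _ (Subgroup.mul_mem _ (Subgroup.inv_mem _ hd) hsD) hd
  have hx2n' : x2 ∈ Subgroup.normalizer ((Subgroup.closure ({s, t} : Set G) : Subgroup G) : Set G) := by
    have := Subgroup.inv_mem _ hx2n
    rwa [inv_inv] at this
  refine ⟨?_, hx2n'⟩
  have h1 : x1 = (x1 * t⁻¹ * x2) * x2⁻¹ * t := by group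
  rw [h1]
  exact Subgroup.mul_mem _ (Subgroup.mul_mem _ (Subgroup.le_normalizer hd) hx2n)
    (Subgroup.le_normalizer htD)

theorem appC_claim_of (h : AppCCore p P U Q s y)
    (hG1 : ∀ x ∈ P, x ∈ Subgroup.normalizer
      ((Subgroup.closure ({s, y * s * y⁻¹} : Set G) : Subgroup G) : Set G) → x ∈ Subgroup.zpowers s)
    (hL : ∀ a b c : ℤ, (y * s * y⁻¹) ^ a * s ^ c * (y * s * y⁻¹) ^ b ∈ P → ¬ (p : ℤ) ∣ b →
      (p : ℤ) ∣ c)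
    (b v : G) (hb : b ∈ U) (hv : v ∈ U) (hbv : (b * s * b⁻¹) * (v * s * v⁻¹) = s ^ 2) :
    ∃ g ∈ U, ((y * s * y⁻¹)⁻¹ ^ 3 * b * (y * s * y⁻¹) ^ 3) * s ^ 2 *
      ((y * s * y⁻¹)⁻¹ ^ 3 * b * (y * s * y⁻¹) ^ 3)⁻¹ * s⁻¹ = g * s * g⁻¹ := by
  -- the three instances of the relation R
  have I1 : (y * s * y⁻¹) ^ (3 : ℤ) * s ^ (-2 : ℤ) * (y * s * y⁻¹) ^ (-1 : ℤ) * s ^ (3 : ℤ) *
      (y * s * y⁻¹) ^ (-2 : ℤ) = s := by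
    have r := h5ac_R h 3 (-1)
    generalize y * s * y⁻¹ = t at r ⊢
    have e : (-3 - -1 : ℤ) = -2 := by norm_num
    rw [e] at r
    rw [r]
    group
  have I2 : (y * s * y⁻¹) ^ (2 : ℤ) * s ^ (-1 : ℤ) * (y * s * y⁻¹) ^ (-1 : ℤ) * s ^ (2 : ℤ) *
      (y * s * y⁻¹) ^ (-1 : ℤ) = s := by
    have r := h5ac_R h 2 (-1)
    generalize y * s * y⁻¹ = t at r ⊢
    have e : (-2 - -1 : ℤ) = -1 := by norm_num
    rw [e] at r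
    rw [r]
    group
  have I3 : (y * s * y⁻¹) ^ (3 : ℤ) * s ^ (-1 : ℤ) * (y * s * y⁻¹) ^ (-2 : ℤ) * s ^ (3 : ℤ) *
      (y * s * y⁻¹) ^ (-1 : ℤ) = s ^ 2 := by
    have r := h5ac_R h 3 (-2)
    generalize y * s * y⁻¹ = t at r ⊢
    have e : (-3 - -2 : ℤ) = -1 := by norm_num
    rw [e] at r
    rw [r]
    group
  have hmain := h5ac_main_aux I1 I2 I3 hbv
  -- membership facts
  have hb3U : (y * s * y⁻¹)⁻¹ ^ 3 * b * (y * s * y⁻¹) ^ 3 ∈ U := by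
    have h0 := h5ac_tU h (-3) hb
    have e : (y * s * y⁻¹)⁻¹ ^ 3 * b * (y * s * y⁻¹) ^ 3
        = (y * s * y⁻¹) ^ (-3 : ℤ) * b * ((y * s * y⁻¹) ^ (-3 : ℤ))⁻¹ := by
      generalize y * s * y⁻¹ = t
      group
    rw [e]
    exact h0
  have hb2U : (y * s * y⁻¹)⁻¹ ^ 2 * b * (y * s * y⁻¹) ^ 2 ∈ U := by
    have h0 := h5ac_tU h (-2) hb
    have e : (y * s * y⁻¹)⁻¹ ^ 2 * b * (y * s * y⁻¹) ^ 2
        = (y * s * y⁻¹) ^ (-2 : ℤ) * b * ((y * s * y⁻¹) ^ (-2 : ℤ))⁻¹ := by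
      generalize y * s * y⁻¹ = t
      group
    rw [e]
    exact h0
  have hv2U : (y * s * y⁻¹)⁻¹ ^ 2 * v * (y * s * y⁻¹) ^ 2 ∈ U := by
    have h0 := h5ac_tU h (-2) hv
    have e : (y * s * y⁻¹)⁻¹ ^ 2 * v * (y * s * y⁻¹) ^ 2
        = (y * s * y⁻¹) ^ (-2 : ℤ) * v * ((y * s * y⁻¹) ^ (-2 : ℤ))⁻¹ := by
      generalize y * s * y⁻¹ = t
      group
    rw [e]
    exact h0
  have hv1U : (y * s * y⁻¹)⁻¹ * v * (y * s * y⁻¹) ∈ U := by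
    have h0 := h5ac_tU h (-1) hv
    have e : (y * s * y⁻¹)⁻¹ * v * (y * s * y⁻¹)
        = (y * s * y⁻¹) ^ (-1 : ℤ) * v * ((y * s * y⁻¹) ^ (-1 : ℤ))⁻¹ := by
      generalize y * s * y⁻¹ = t
      group
    rw [e]
    exact h0
  have htU1 : ∀ u ∈ U, (y * s * y⁻¹) * u * (y * s * y⁻¹)⁻¹ ∈ U := by
    intro u hu
    have h0 := h5ac_tU h 1 hu
    rwa [zpow_one] at h0
  have hD_s : s ∈ Subgroup.closure ({s, y * s * y⁻¹} : Set G) := Subgroup.subset_closure (by simp)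
  have hD_t : y * s * y⁻¹ ∈ Subgroup.closure ({s, y * s * y⁻¹} : Set G) :=
    Subgroup.subset_closure (by simp)
  generalize (y * s * y⁻¹)⁻¹ ^ 3 * b * (y * s * y⁻¹) ^ 3 = b3 at *
  generalize (y * s * y⁻¹)⁻¹ ^ 2 * b * (y * s * y⁻¹) ^ 2 = b2 at *
  generalize (y * s * y⁻¹)⁻¹ ^ 2 * v * (y * s * y⁻¹) ^ 2 = v2 at *
  generalize (y * s * y⁻¹)⁻¹ * v * (y * s * y⁻¹) = v1 at *
  -- the three elements of `P`
  have hXAP : b2 * s ^ 3 * b2⁻¹ * (v2 * s⁻¹ * v2⁻¹) ∈ P :=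
    P.mul_mem (h5ac_conj_mem (h.UP hb2U) (P.pow_mem h.sP 3))
      (h5ac_conj_mem (h.UP hv2U) (P.inv_mem h.sP))
  have hXBP : s ^ 3 * (v1 * s ^ 2 * v1⁻¹)⁻¹ ∈ P :=
    P.mul_mem (P.pow_mem h.sP 3) (P.inv_mem (h5ac_conj_mem (h.UP hv1U) (P.pow_mem h.sP 2)))
  have hXCP : b3 * s ^ 2 * b3⁻¹ * s⁻¹ ∈ P :=
    P.mul_mem (h5ac_conj_mem (h.UP hb3U) (P.pow_mem h.sP 2)) (P.inv_mem h.sP)
  have hXC1 : b3 * s ^ 2 * b3⁻¹ * s⁻¹ ≠ 1 := by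
    intro hX
    have h2 : b3 * s ^ 2 * b3⁻¹ = s := mul_inv_eq_one.1 hX
    obtain ⟨k, hk⟩ := h.prime.eq_two_or_odd'.resolve_left h.odd
    have hc2 : (b3 * s * b3⁻¹) ^ 2 = s := by rw [conj_pow, h2]
    have hcp : (b3 * s * b3⁻¹) ^ p = 1 := by rw [conj_pow, h.sp]; group
    have h3 : b3 * s * b3⁻¹ = s ^ (k + 1) := by
      calc b3 * s * b3⁻¹ = (b3 * s * b3⁻¹) ^ p * (b3 * s * b3⁻¹) := by rw [hcp, one_mul]
        _ = (b3 * s * b3⁻¹) ^ (2 * (k + 1)) := by rw [← pow_succ, hk]; congr 1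
        _ = s ^ (k + 1) := by rw [pow_mul, hc2]
    have h4 := h.free b3 hb3U (k + 1) h3
    rw [h4] at hX
    have h5 : s = 1 := by
      have e : (1 : G) * s ^ 2 * (1 : G)⁻¹ * s⁻¹ = s := by group
      rw [e] at hX
      exact hX
    exact h5ac_s_ne_one h h5
  obtain ⟨g, hgU, j, hj, hXC⟩ := h.split _ hXCP hXC1
  refine ⟨g, hgU, ?_⟩
  have hgU' : (y * s * y⁻¹) * g * (y * s * y⁻¹)⁻¹ ∈ U := htU1 g hgU
  have hwU : (y * s * y⁻¹) * ((y * s * y⁻¹) * g * (y * s * y⁻¹)⁻¹) * (y * s * y⁻¹)⁻¹ ∈ U :=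
    htU1 _ hgU'
  have hX1P : ((y * s * y⁻¹) * g * (y * s * y⁻¹)⁻¹)⁻¹ * (b2 * s ^ 3 * b2⁻¹ * (v2 * s⁻¹ * v2⁻¹)) *
      ((y * s * y⁻¹) * g * (y * s * y⁻¹)⁻¹) ∈ P := h5ac_conj_mem' (h.UP hgU') hXAP
  have hX2P : ((y * s * y⁻¹) * ((y * s * y⁻¹) * g * (y * s * y⁻¹)⁻¹) * (y * s * y⁻¹)⁻¹)⁻¹ *
      (s ^ 3 * (v1 * s ^ 2 * v1⁻¹)⁻¹)⁻¹ *
      ((y * s * y⁻¹) * ((y * s * y⁻¹) * g * (y * s * y⁻¹)⁻¹) * (y * s * y⁻¹)⁻¹) ∈ P :=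
    h5ac_conj_mem' (h.UP hwU) (P.inv_mem hXBP)
  have hrel0 : (y * s * y⁻¹) * s ^ j * (y * s * y⁻¹)⁻¹
      = (((y * s * y⁻¹) * g * (y * s * y⁻¹)⁻¹)⁻¹ * (b2 * s ^ 3 * b2⁻¹ * (v2 * s⁻¹ * v2⁻¹)) *
          ((y * s * y⁻¹) * g * (y * s * y⁻¹)⁻¹)) * (y * s * y⁻¹)⁻¹ *
        (((y * s * y⁻¹) * ((y * s * y⁻¹) * g * (y * s * y⁻¹)⁻¹) * (y * s * y⁻¹)⁻¹)⁻¹ *
          (s ^ 3 * (v1 * s ^ 2 * v1⁻¹)⁻¹)⁻¹ *
          ((y * s * y⁻¹) * ((y * s * y⁻¹) * g * (y * s * y⁻¹)⁻¹) * (y * s * y⁻¹)⁻¹)) *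
        (y * s * y⁻¹) := by
    rw [hmain, hXC]
    generalize y * s * y⁻¹ = t
    generalize s ^ 3 * (v1 * s ^ 2 * v1⁻¹)⁻¹ = XB
    generalize s ^ j = sj
    group
  generalize ((y * s * y⁻¹) * g * (y * s * y⁻¹)⁻¹)⁻¹ * (b2 * s ^ 3 * b2⁻¹ * (v2 * s⁻¹ * v2⁻¹)) *
      ((y * s * y⁻¹) * g * (y * s * y⁻¹)⁻¹) = X1 at hX1P hrel0
  generalize ((y * s * y⁻¹) * ((y * s * y⁻¹) * g * (y * s * y⁻¹)⁻¹) * (y * s * y⁻¹)⁻¹)⁻¹ *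
      (s ^ 3 * (v1 * s ^ 2 * v1⁻¹)⁻¹)⁻¹ *
      ((y * s * y⁻¹) * ((y * s * y⁻¹) * g * (y * s * y⁻¹)⁻¹) * (y * s * y⁻¹)⁻¹) = X2 at hX2P hrel0
  -- FACT A and G1
  have hd : X1 * (y * s * y⁻¹)⁻¹ * X2 ∈ Subgroup.closure ({s, y * s * y⁻¹} : Set G) := by
    have e : X1 * (y * s * y⁻¹)⁻¹ * X2
        = (y * s * y⁻¹) * s ^ j * (y * s * y⁻¹)⁻¹ * (y * s * y⁻¹)⁻¹ := by
      rw [hrel0]
      group
    rw [e]
    exact Subgroup.mul_mem _ (Subgroup.mul_mem _ (Subgroup.mul_mem _ hD_t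
      (Subgroup.pow_mem _ hD_s j)) (Subgroup.inv_mem _ hD_t)) (Subgroup.inv_mem _ hD_t)
  obtain ⟨hn1, hn2⟩ := h5ac_factA h hX1P hX2P hd
  obtain ⟨m, hm⟩ := Subgroup.mem_zpowers_iff.1 (hG1 X1 hX1P hn1)
  obtain ⟨m', hm'⟩ := Subgroup.mem_zpowers_iff.1 (hG1 X2 hX2P hn2)
  rw [← hm, ← hm', ← zpow_natCast] at hrel0
  -- `hrel0 : t * s ^ j * t⁻¹ = s ^ m * t⁻¹ * s ^ m' * t`
  have hY : ∀ i : ℤ, s ^ i * y * s ^ (-i) ∈ Q := fun i => h5ac_zconj_mem h.sQ i h.yQ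
  have e5 : s ^ m' = s ^ ((j : ℤ) - m) := by
    have hQ1 : s ^ (0 : ℤ) * y * s ^ (-(0 : ℤ)) * (s ^ (1 : ℤ) * y * s ^ (-(1 : ℤ)))⁻¹ *
        (s ^ ((j : ℤ) + 1) * y * s ^ (-((j : ℤ) + 1))) * (s ^ (j : ℤ) * y * s ^ (-(j : ℤ)))⁻¹ ∈ Q :=
      Q.mul_mem (Q.mul_mem (Q.mul_mem (hY _) (Q.inv_mem (hY _))) (hY _)) (Q.inv_mem (hY _))
    have hQ2 : s ^ m * y * s ^ (-m) * (s ^ (m - 1) * y * s ^ (-(m - 1)))⁻¹ *
        (s ^ (m + m' - 1) * y * s ^ (-(m + m' - 1))) * (s ^ (m + m') * y * s ^ (-(m + m')))⁻¹ ∈ Q :=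
      Q.mul_mem (Q.mul_mem (Q.mul_mem (hY _) (Q.inv_mem (hY _))) (hY _)) (Q.inv_mem (hY _))
    have e1 : y * s * y⁻¹ * s ^ (j : ℤ) * (y * s * y⁻¹)⁻¹
        = (s ^ (0 : ℤ) * y * s ^ (-(0 : ℤ)) * (s ^ (1 : ℤ) * y * s ^ (-(1 : ℤ)))⁻¹ *
        (s ^ ((j : ℤ) + 1) * y * s ^ (-((j : ℤ) + 1))) * (s ^ (j : ℤ) * y * s ^ (-(j : ℤ)))⁻¹) *
          s ^ (j : ℤ) := by group
    have e2 : s ^ m * (y * s * y⁻¹)⁻¹ * s ^ m' * (y * s * y⁻¹)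
        = (s ^ m * y * s ^ (-m) * (s ^ (m - 1) * y * s ^ (-(m - 1)))⁻¹ *
        (s ^ (m + m' - 1) * y * s ^ (-(m + m' - 1))) * (s ^ (m + m') * y * s ^ (-(m + m')))⁻¹) *
          s ^ (m + m') := by group
    rw [e1, e2] at hrel0
    generalize s ^ (0 : ℤ) * y * s ^ (-(0 : ℤ)) * (s ^ (1 : ℤ) * y * s ^ (-(1 : ℤ)))⁻¹ *
        (s ^ ((j : ℤ) + 1) * y * s ^ (-((j : ℤ) + 1))) * (s ^ (j : ℤ) * y * s ^ (-(j : ℤ)))⁻¹ = W1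
        at hQ1 hrel0
    generalize s ^ m * y * s ^ (-m) * (s ^ (m - 1) * y * s ^ (-(m - 1)))⁻¹ *
        (s ^ (m + m' - 1) * y * s ^ (-(m + m' - 1))) * (s ^ (m + m') * y * s ^ (-(m + m')))⁻¹ = W2
        at hQ2 hrel0
    have e3 : s ^ ((j : ℤ) - (m + m')) = W1⁻¹ * W2 := by
      calc s ^ ((j : ℤ) - (m + m')) = W1⁻¹ * (W1 * s ^ (j : ℤ)) * s ^ (-(m + m')) := by group
        _ = W1⁻¹ * (W2 * s ^ (m + m')) * s ^ (-(m + m')) := by rw [hrel0]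
        _ = W1⁻¹ * W2 := by group
    have e4 : s ^ ((j : ℤ) - (m + m')) = 1 :=
      h5ac_zpow_mem_Q h (by rw [e3]; exact Q.mul_mem (Q.inv_mem hQ1) hQ2)
    calc s ^ m' = s ^ ((j : ℤ) - m) * (s ^ ((j : ℤ) - (m + m')))⁻¹ := by group
      _ = s ^ ((j : ℤ) - m) := by rw [e4, inv_one, mul_one]
  rw [e5] at hrel0
  -- the shifted relation among the `Y i = s ^ i * y * s ^ (-i)`
  have f1 : (s ^ (1 - m) * y * s ^ (-(1 - m))) * (s ^ (2 - m) * y * s ^ (-(2 - m)))⁻¹ *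
      (s ^ ((j : ℤ) + 2 - m) * y * s ^ (-((j : ℤ) + 2 - m))) *
      (s ^ ((j : ℤ) + 1 - m) * y * s ^ (-((j : ℤ) + 1 - m)))⁻¹ * s ^ (j : ℤ)
      = s ^ (1 - m) * (y * s * y⁻¹ * s ^ (j : ℤ) * (y * s * y⁻¹)⁻¹) * s ^ (m - 1) := by group
  have f2 : (s ^ (1 : ℤ) * y * s ^ (-(1 : ℤ))) * (s ^ (0 : ℤ) * y * s ^ (-(0 : ℤ)))⁻¹ *
      (s ^ ((j : ℤ) - m) * y * s ^ (-((j : ℤ) - m))) *
      (s ^ ((j : ℤ) + 1 - m) * y * s ^ (-((j : ℤ) + 1 - m)))⁻¹ * s ^ (j : ℤ)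
      = s ^ (1 - m) * (s ^ m * (y * s * y⁻¹)⁻¹ * s ^ ((j : ℤ) - m) * (y * s * y⁻¹)) * s ^ (m - 1) := by
    group
  have f3 : (s ^ (1 - m) * y * s ^ (-(1 - m))) * (s ^ (2 - m) * y * s ^ (-(2 - m)))⁻¹ *
      (s ^ ((j : ℤ) + 2 - m) * y * s ^ (-((j : ℤ) + 2 - m))) *
      (s ^ ((j : ℤ) + 1 - m) * y * s ^ (-((j : ℤ) + 1 - m)))⁻¹
      = (s ^ (1 : ℤ) * y * s ^ (-(1 : ℤ))) * (s ^ (0 : ℤ) * y * s ^ (-(0 : ℤ)))⁻¹ *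
      (s ^ ((j : ℤ) - m) * y * s ^ (-((j : ℤ) - m))) *
      (s ^ ((j : ℤ) + 1 - m) * y * s ^ (-((j : ℤ) + 1 - m)))⁻¹ := by
    apply mul_right_cancel (b := s ^ (j : ℤ))
    rw [f1, f2, hrel0]
  have f4 := h5ac_sub_aux h.Qcomm (hY _) (hY _) (hY _) (hY _) (hY _) (hY _) (hY _) f3
  have hε := h5ac_fpf' h.Qcomm h.Qcop h.sQ h.sp h.yQ 0 (1 - m) ((j : ℤ) - m) ((j : ℤ) + 1 - m) (by
    refine Eq.trans ?_ f4
    group)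
  have hfin : (y * s * y⁻¹) ^ ((j : ℤ) - m) * s ^ (1 - (j : ℤ)) * (y * s * y⁻¹) ^ (j : ℤ)
      = s ^ ((j : ℤ) + 1 - m) := by
    rw [conj_zpow, conj_zpow]
    calc y * s ^ ((j : ℤ) - m) * y⁻¹ * s ^ (1 - (j : ℤ)) * (y * s ^ (j : ℤ) * y⁻¹)
        = (s ^ (0 : ℤ) * y * s ^ (-(0 : ℤ)) * (s ^ ((j : ℤ) - m) * y * s ^ (-((j : ℤ) - m)))⁻¹ *
          (s ^ (1 - m) * y * s ^ (-(1 - m))) *
          (s ^ ((j : ℤ) + 1 - m) * y * s ^ (-((j : ℤ) + 1 - m)))⁻¹) * s ^ ((j : ℤ) + 1 - m) := by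
          group
      _ = s ^ ((j : ℤ) + 1 - m) := by rw [hε, one_mul]
  have hj' : ¬ (p : ℤ) ∣ (j : ℤ) := by
    rw [Int.natCast_dvd_natCast]
    exact hj
  have hdvd := hL ((j : ℤ) - m) (j : ℤ) (1 - (j : ℤ)) (by rw [hfin]; exact P.zpow_mem h.sP _) hj'
  have hsj : s ^ j = s := by
    have h1 := h5ac_zpow_of_dvd h hdvd
    have h2 : s ^ (j : ℤ) = s * (s ^ (1 - (j : ℤ)))⁻¹ := by group
    rw [h1, inv_one, mul_one, zpow_natCast] at h2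
    exact h2
  rw [hXC, hsj]

end Core

end Cfsg.Agent.Lib.helper5
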