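import Mathlib
import Cfsg.Agent.Lib.helper31.AppCDefs
import Cfsg.Agent.Lib.helper5.AppC_Claim

/-!
Bender–Glauberman, Appendix C, Step 4 (statement S1472): the TI-property of `H = P U` with
respect to the powers of `t = y s y⁻¹`, and the lemma (L) in the form used by `appC_claim_of`.
-/

set_option autoImplicit false

namespace Cfsg.Agent.Lib.helper5

open Cfsg.Agent.Lib.helper31

section LCore

variable {G : Type*} [Group G] [Finite G] {p : ℕ} {P U Q : Subgroup G} {s y : G}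

omit [Finite G] in
theorem h5al_UP_inter (h : AppCCore p P U Q s y) {z : G} (hzU : z ∈ U) (hzP : z ∈ P) : z = 1 := by
  apply h.free z hzU 1
  rw [pow_one, h.Pcomm z hzP s h.sP, mul_inv_cancel_right]

omit [Finite G] in
theorem h5al_P_pow (h : AppCCore p P U Q s y) {x : G} (hx : x ∈ P) : x ^ p = 1 := by
  by_cases hx1 : x = 1
  · rw [hx1, one_pow]
  · obtain ⟨g, _, j, _, rfl⟩ := h.split x hx hx1
    rw [conj_pow, ← pow_mul, mul_comm, pow_mul, h.sp, one_pow]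
    group

theorem h5al_PQ_inter (h : AppCCore p P U Q s y) {z : G} (hzP : z ∈ P) (hzQ : z ∈ Q) : z = 1 :=
  h5ac_pow_eq_one h.Qcop hzQ (h5al_P_pow h hzP)

omit [Finite G] in
theorem h5al_t_pow (h : AppCCore p P U Q s y) : (y * s * y⁻¹) ^ p = 1 := by
  rw [conj_pow, h.sp]
  group

theorem h5al_not_tsP (h : AppCCore p P U Q s y) :
    ¬ (y * s * y⁻¹) * s * (y * s * y⁻¹)⁻¹ ∈ P := by
  intro hP
  have hc : y * s * y⁻¹ * s⁻¹ ∈ Q := by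
    have h0 : y * s * y⁻¹ * s⁻¹ = y * (s * y⁻¹ * s⁻¹) := by group
    rw [h0]
    exact Q.mul_mem h.yQ (h5ac_conj_mem h.sQ (Q.inv_mem h.yQ))
  have hcomQ : (y * s * y⁻¹) * s * (y * s * y⁻¹)⁻¹ * s⁻¹ ∈ Q := by
    have h0 : (y * s * y⁻¹) * s * (y * s * y⁻¹)⁻¹ * s⁻¹
        = (y * s * y⁻¹ * s⁻¹) * (s * (y * s * y⁻¹ * s⁻¹)⁻¹ * s⁻¹) := by group
    rw [h0]
    exact Q.mul_mem hc (h5ac_conj_mem h.sQ (Q.inv_mem hc))
  have h1 : (y * s * y⁻¹) * s * (y * s * y⁻¹)⁻¹ * s⁻¹ = 1 :=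
    h5al_PQ_inter h (P.mul_mem hP (P.inv_mem h.sP)) hcomQ
  have htp := h5al_t_pow h
  have htU := h.tU
  generalize y * s * y⁻¹ = t at *
  have hts : t * s = s * t := by
    calc t * s = (t * s * t⁻¹ * s⁻¹) * s * t := by group
      _ = s * t := by rw [h1, one_mul]
  have hcomm : Commute t s⁻¹ := Commute.inv_right hts
  have hcp : (t * s⁻¹) ^ p = 1 := by
    rw [hcomm.mul_pow, htp, inv_pow, h.sp, inv_one, one_mul]
  have hc1 : t * s⁻¹ = 1 := h5ac_pow_eq_one h.Qcop hc hcp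
  have hteq : t = s := mul_inv_eq_one.1 hc1
  obtain ⟨u, hu, hu1⟩ := h.Unt
  have hsU : s * u * s⁻¹ ∈ U := by
    rw [← hteq]
    exact h5ac_conj_mem htU hu
  have h2 : s * u * s⁻¹ * u⁻¹ = 1 := by
    apply h5al_UP_inter h (U.mul_mem hsU (U.inv_mem hu))
    have h0 : s * u * s⁻¹ * u⁻¹ = s * (u * s⁻¹ * u⁻¹) := by group
    rw [h0]
    exact P.mul_mem h.sP (h5ac_conj_mem (h.UP hu) (P.inv_mem h.sP))
  apply hu1
  apply h.free u hu 1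
  rw [pow_one]
  calc u * s * u⁻¹ = (s * u * s⁻¹ * u⁻¹)⁻¹ * s := by group
    _ = s := by rw [h2, inv_one, one_mul]

omit [Finite G] in
theorem h5al_gcd (h : AppCCore p P U Q s y) {m : ℤ} (hm : ¬ (p : ℤ) ∣ m) :
    Int.gcd m (p : ℤ) = 1 := by
  have h2 : ¬ p ∣ m.natAbs := fun hd => hm (Int.natCast_dvd.2 hd)
  have h3 : Nat.Coprime m.natAbs p := ((Nat.Prime.coprime_iff_not_dvd h.prime).2 h2).symm
  rw [Int.gcd, Int.natAbs_natCast]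
  exact h3

/-- `P ∩ tᵐ P t⁻ᵐ = 1` for `p ∤ m`. -/
theorem h5al_TI_P (h : AppCCore p P U Q s y) {m : ℤ} (hm : ¬ (p : ℤ) ∣ m) {x : G} (hx : x ∈ P)
    (hx' : (y * s * y⁻¹) ^ m * x * ((y * s * y⁻¹) ^ m)⁻¹ ∈ P) : x = 1 := by
  by_contra hx1
  have htU : ∀ u ∈ U, (y * s * y⁻¹) ^ m * u * ((y * s * y⁻¹) ^ m)⁻¹ ∈ U :=
    fun u hu => h5ac_tU h m hu
  have htp := h5al_t_pow h
  have hnot := h5al_not_tsP h
  generalize y * s * y⁻¹ = t at *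
  have hKmem : ∀ z, z ∈ P ⊓ P.comap (MulAut.conj (t ^ m)).toMonoidHom ↔
      z ∈ P ∧ t ^ m * z * (t ^ m)⁻¹ ∈ P := by
    intro z
    rw [Subgroup.mem_inf, Subgroup.mem_comap]
    exact Iff.rfl
  have hKU : ∀ u ∈ U, ∀ z ∈ P ⊓ P.comap (MulAut.conj (t ^ m)).toMonoidHom,
      u * z * u⁻¹ ∈ P ⊓ P.comap (MulAut.conj (t ^ m)).toMonoidHom := by
    intro u hu z hz
    rw [hKmem] at hz ⊢
    refine ⟨h5ac_conj_mem (h.UP hu) hz.1, ?_⟩
    have h0 : t ^ m * (u * z * u⁻¹) * (t ^ m)⁻¹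
        = (t ^ m * u * (t ^ m)⁻¹) * (t ^ m * z * (t ^ m)⁻¹) * (t ^ m * u * (t ^ m)⁻¹)⁻¹ := by
      group
    rw [h0]
    exact h5ac_conj_mem (h.UP (htU u hu)) hz.2
  have hxK : x ∈ P ⊓ P.comap (MulAut.conj (t ^ m)).toMonoidHom := (hKmem x).2 ⟨hx, hx'⟩
  obtain ⟨g, hg, j, hj, hxe⟩ := h.split x hx hx1
  have hsjK : s ^ j ∈ P ⊓ P.comap (MulAut.conj (t ^ m)).toMonoidHom := by
    have h0 : s ^ j = g⁻¹ * x * g⁻¹⁻¹ := by
      rw [hxe]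
      group
    rw [h0]
    exact hKU _ (U.inv_mem hg) _ hxK
  have hsK : s ∈ P ⊓ P.comap (MulAut.conj (t ^ m)).toMonoidHom := by
    have hcop : Nat.Coprime j p := ((Nat.Prime.coprime_iff_not_dvd h.prime).2 hj).symm
    have hb := Int.gcd_eq_gcd_ab j p
    rw [show Int.gcd (j : ℤ) (p : ℤ) = 1 from hcop] at hb
    have h1 : s = (s ^ j) ^ (Int.gcdA j p) * (s ^ p) ^ (Int.gcdB j p) := by
      rw [← zpow_natCast, ← zpow_natCast, ← zpow_mul, ← zpow_mul, ← zpow_add, ← hb]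
      simp
    rw [h1, h.sp, one_zpow, mul_one]
    exact Subgroup.zpow_mem _ hsjK _
  have hPK : P ≤ P ⊓ P.comap (MulAut.conj (t ^ m)).toMonoidHom :=
    h.gen _ (fun u hu => hKU u hu s hsK)
  have htmN : t ^ m ∈ Subgroup.normalizer (P : Set G) := by
    apply h5ac_norm_of_conj (S := (P : Set G)) (le_of_eq (Subgroup.closure_eq P).symm)
    intro z hz
    exact ((hKmem z).1 (hPK hz)).2
  have htN : t ∈ Subgroup.normalizer (P : Set G) := by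
    have hcop := h5al_gcd h hm
    have hb := Int.gcd_eq_gcd_ab m p
    rw [hcop] at hb
    have h1 : t = (t ^ m) ^ (Int.gcdA m p) * (t ^ p) ^ (Int.gcdB m p) := by
      rw [← zpow_natCast t p, ← zpow_mul, ← zpow_mul, ← zpow_add, ← hb]
      simp
    rw [h1, htp, one_zpow, mul_one]
    exact Subgroup.zpow_mem _ htmN _
  exact hnot (h5ac_conj_mem htN h.sP)

/-- `P U ∩ tᵐ (P U) t⁻ᵐ ⊆ U` for `p ∤ m`. -/
theorem h5al_TI (h : AppCCore p P U Q s y) {m : ℤ} (hm : ¬ (p : ℤ) ∣ m) {x1 u1 x2 u2 : G}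
    (hx1 : x1 ∈ P) (hu1 : u1 ∈ U) (hx2 : x2 ∈ P) (hu2 : u2 ∈ U)
    (heq : x1 * u1 = (y * s * y⁻¹) ^ m * (x2 * u2) * ((y * s * y⁻¹) ^ m)⁻¹) : x1 = 1 := by
  have hu2' := h5ac_tU h m hu2
  have hw : u1 * ((y * s * y⁻¹) ^ m * u2 * ((y * s * y⁻¹) ^ m)⁻¹)⁻¹ ∈ U :=
    U.mul_mem hu1 (U.inv_mem hu2')
  have hconj : (y * s * y⁻¹) ^ m * x2 * ((y * s * y⁻¹) ^ m)⁻¹
      = x1 * (u1 * ((y * s * y⁻¹) ^ m * u2 * ((y * s * y⁻¹) ^ m)⁻¹)⁻¹) := by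
    have h0 : x1 * (u1 * ((y * s * y⁻¹) ^ m * u2 * ((y * s * y⁻¹) ^ m)⁻¹)⁻¹)
        = (x1 * u1) * ((y * s * y⁻¹) ^ m * u2 * ((y * s * y⁻¹) ^ m)⁻¹)⁻¹ := by group
    rw [h0, heq]
    generalize (y * s * y⁻¹) ^ m = T
    group
  generalize u1 * ((y * s * y⁻¹) ^ m * u2 * ((y * s * y⁻¹) ^ m)⁻¹)⁻¹ = w at hw hconj
  have hp1 : (x1 * w) ^ p = 1 := by
    rw [← hconj, conj_pow, h5al_P_pow h hx2]
    group
  have hk : ∀ k : ℕ, (x1 * w) ^ k * (w ^ k)⁻¹ ∈ P := by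
    intro k
    induction k with
    | zero => simp
    | succ k ih =>
      have h0 : (x1 * w) ^ (k + 1) * (w ^ (k + 1))⁻¹
          = ((x1 * w) ^ k * (w ^ k)⁻¹) * (w ^ k * x1 * (w ^ k)⁻¹) := by
        rw [pow_succ, pow_succ]
        generalize (x1 * w) ^ k = A
        generalize w ^ k = r
        group
      rw [h0]
      exact P.mul_mem ih (h5ac_conj_mem (h.UP (U.pow_mem hw k)) hx1)
  have hwp : w ^ p = 1 := by
    have h1 := hk p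
    rw [hp1, one_mul] at h1
    exact h5al_UP_inter h (U.pow_mem hw p) (by simpa using P.inv_mem h1)
  have hw1 : w = 1 := h5ac_pow_eq_one h.Ucop hw hwp
  rw [hw1, mul_one] at hconj
  have hx2' : x2 = 1 := h5al_TI_P h hm hx2 (by rw [hconj]; exact hx1)
  rw [← hconj, hx2']
  group

/-- Lemma (L) of the proof of S1472, in the form used by `appC_claim_of`. -/
theorem appC_L (h : AppCCore p P U Q s y) :
    ∀ a b c : ℤ, (y * s * y⁻¹) ^ a * s ^ c * (y * s * y⁻¹) ^ b ∈ P → ¬ (p : ℤ) ∣ b →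
      (p : ℤ) ∣ c := by
  intro a b c hx0 hb
  by_contra hc
  have hxP : s ^ c ∈ P := P.zpow_mem h.sP c
  have hcent : ∀ v ∈ U, v * s ^ c * v⁻¹ = s ^ c := by
    intro v hv
    have hv' := h5ac_tU h a hv
    have hx1P : (s ^ c)⁻¹ * (v * s ^ c * v⁻¹) ∈ P :=
      P.mul_mem (P.inv_mem hxP) (h5ac_conj_mem (h.UP hv) hxP)
    have hx2P : ((y * s * y⁻¹) ^ a * s ^ c * (y * s * y⁻¹) ^ b)⁻¹ *
        (((y * s * y⁻¹) ^ a * v * ((y * s * y⁻¹) ^ a)⁻¹) *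
          ((y * s * y⁻¹) ^ a * s ^ c * (y * s * y⁻¹) ^ b) *
          ((y * s * y⁻¹) ^ a * v * ((y * s * y⁻¹) ^ a)⁻¹)⁻¹) ∈ P :=
      P.mul_mem (P.inv_mem hx0) (h5ac_conj_mem (h.UP hv') hx0)
    have heq : ((s ^ c)⁻¹ * (v * s ^ c * v⁻¹)) * v
        = (y * s * y⁻¹) ^ b * ((((y * s * y⁻¹) ^ a * s ^ c * (y * s * y⁻¹) ^ b)⁻¹ *
        (((y * s * y⁻¹) ^ a * v * ((y * s * y⁻¹) ^ a)⁻¹) *
          ((y * s * y⁻¹) ^ a * s ^ c * (y * s * y⁻¹) ^ b) *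
          ((y * s * y⁻¹) ^ a * v * ((y * s * y⁻¹) ^ a)⁻¹)⁻¹)) *
          ((y * s * y⁻¹) ^ a * v * ((y * s * y⁻¹) ^ a)⁻¹)) * ((y * s * y⁻¹) ^ b)⁻¹ := by
      generalize (y * s * y⁻¹) ^ a = Ta
      generalize (y * s * y⁻¹) ^ b = Tb
      generalize s ^ c = x
      group
    have h1 := h5al_TI h hb hx1P hv hx2P hv' heq
    exact (inv_mul_eq_one.1 h1).symm
  have hs : ∀ v ∈ U, v * s * v⁻¹ = s := by
    intro v hv
    have hcop := h5al_gcd h hc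
    have hbz := Int.gcd_eq_gcd_ab c p
    rw [hcop] at hbz
    have h1 : s = (s ^ c) ^ (Int.gcdA c p) := by
      have h2 : s = (s ^ c) ^ (Int.gcdA c p) * (s ^ p) ^ (Int.gcdB c p) := by
        rw [← zpow_natCast s p, ← zpow_mul, ← zpow_mul, ← zpow_add, ← hbz]
        simp
      rw [h.sp, one_zpow, mul_one] at h2
      exact h2
    calc v * s * v⁻¹ = v * (s ^ c) ^ (Int.gcdA c p) * v⁻¹ := by rw [← h1]
      _ = (v * s ^ c * v⁻¹) ^ (Int.gcdA c p) := by rw [conj_zpow]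
      _ = (s ^ c) ^ (Int.gcdA c p) := by rw [hcent v hv]
      _ = s := h1.symm
  obtain ⟨u, hu, hu1⟩ := h.Unt
  exact hu1 (h.free u hu 1 (by rw [pow_one]; exact hs u hu))

end LCore

end Cfsg.Agent.Lib.helper5
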