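import Mathlib
import Cfsg.Prelude.Def_Characters
import Cfsg.Prelude.Def_Blocks
import Cfsg.Agent.Lib.helper84.BrDefs
import Cfsg.Agent.Lib.helper81.CharOrtho

/-!
# S0998 (Brauer–Tuan, split by helper20): piece T3F `three_final`

The order bound from the class multiplication constant of a `2`-central involution at an
element of order `3`.
-/

set_option autoImplicit false

namespace Cfsg.Agent.Lib.helper5.BT

open Cfsg Cfsg.Agent.Lib.helper81 Cfsg.Agent.Lib.helper84.Br
open scoped ComplexConjugate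

universe u

/-- pure arithmetic, the case `p = 5` -/
theorem h5_arith5 (N₀ idx cC c b : ℕ) (hic : idx * c = 15) (hc : cC = 2 ^ b * c)
    (h : 5 * N₀ * (idx * cC) = 4 * idx ^ 2) : 2 ^ b ≤ 4 := by
  have hidx : 0 < idx := by
    rcases Nat.eq_zero_or_pos idx with h0 | h0
    · rw [h0] at hic; omega
    · exact h0
  have h1 : 5 * N₀ * cC = 4 * idx := by
    have h' : idx * (5 * N₀ * cC) = idx * (4 * idx) := by
      calc idx * (5 * N₀ * cC) = 5 * N₀ * (idx * cC) := by ring
        _ = 4 * idx ^ 2 := h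
        _ = idx * (4 * idx) := by ring
    exact Nat.eq_of_mul_eq_mul_left hidx h'
  have h2 : N₀ * c ^ 2 * 2 ^ b = 12 := by
    have h' : 5 * (N₀ * c ^ 2 * 2 ^ b) = 5 * 12 := by
      calc 5 * (N₀ * c ^ 2 * 2 ^ b) = (5 * N₀ * cC) * c := by rw [hc]; ring
        _ = 4 * idx * c := by rw [h1]
        _ = 4 * (idx * c) := by ring
        _ = 5 * 12 := by rw [hic]
    omega
  by_contra hcon
  push Not at hcon
  have hb3 : 3 ≤ b := by
    by_contra h3
    push Not at h3
    have h4 : 2 ^ b ≤ 2 ^ 2 := Nat.pow_le_pow_right (by norm_num) (by omega)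
    omega
  have h8 : 2 ^ 3 ∣ 2 ^ b := pow_dvd_pow 2 hb3
  have h8' : 2 ^ 3 ∣ 12 := by
    rw [← h2]; exact Dvd.dvd.mul_left h8 _
  norm_num at h8'

/-- pure arithmetic, the case `p = 7` -/
theorem h5_arith7 (N₀ idx cC c b : ℕ) (hic : idx * c = 21) (hc : cC = 2 ^ b * c)
    (h : 7 * N₀ * (idx * cC) = 8 * idx ^ 2) : 2 ^ b ≤ 8 := by
  have hidx : 0 < idx := by
    rcases Nat.eq_zero_or_pos idx with h0 | h0
    · rw [h0] at hic; omega
    · exact h0
  have h1 : 7 * N₀ * cC = 8 * idx := by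
    have h' : idx * (7 * N₀ * cC) = idx * (8 * idx) := by
      calc idx * (7 * N₀ * cC) = 7 * N₀ * (idx * cC) := by ring
        _ = 8 * idx ^ 2 := h
        _ = idx * (8 * idx) := by ring
    exact Nat.eq_of_mul_eq_mul_left hidx h'
  have h2 : N₀ * c ^ 2 * 2 ^ b = 24 := by
    have h' : 7 * (N₀ * c ^ 2 * 2 ^ b) = 7 * 24 := by
      calc 7 * (N₀ * c ^ 2 * 2 ^ b) = (7 * N₀ * cC) * c := by rw [hc]; ring
        _ = 8 * idx * c := by rw [h1]
        _ = 8 * (idx * c) := by ring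
        _ = 7 * 24 := by rw [hic]
    omega
  by_contra hcon
  push Not at hcon
  have hb4 : 4 ≤ b := by
    by_contra h3
    push Not at h3
    have h4 : 2 ^ b ≤ 2 ^ 3 := Nat.pow_le_pow_right (by norm_num) (by omega)
    omega
  have h16 : 2 ^ 4 ∣ 2 ^ b := pow_dvd_pow 2 hb4
  have h16' : 2 ^ 4 ∣ 24 := by
    rw [← h2]; exact Dvd.dvd.mul_left h16 _
  norm_num at h16'

variable {G : Type u} [Group G] [Fintype G]

/-- a sum over all irreducible characters with at most three non-zero terms -/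
theorem h5_sum_three [Fintype (IrrCharacter G)] (f : IrrCharacter G → ℂ)
    (a b c : IrrCharacter G) (hab : a ≠ b) (hac : a ≠ c) (hbc : b ≠ c)
    (h0 : ∀ χ : IrrCharacter G, χ ≠ a → χ ≠ b → χ ≠ c → f χ = 0) :
    ∑ χ : IrrCharacter G, f χ = f a + f b + f c := by
  classical
  have h1 : ∑ χ ∈ ({a, b, c} : Finset (IrrCharacter G)), f χ = ∑ χ : IrrCharacter G, f χ := by
    apply Finset.sum_subset (Finset.subset_univ _)
    intro χ _ hχ
    simp only [Finset.mem_insert, Finset.mem_singleton, not_or] at hχ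
    exact h0 χ hχ.1 hχ.2.1 hχ.2.2
  rw [← h1, Finset.sum_insert (by simp [hab, hac]), Finset.sum_insert (by simp [hbc]),
    Finset.sum_singleton, add_assoc]

/-- T3F : the order bound from the class multiplication constant of a `2`-central involution
at an element of order `3`. -/
theorem three_final [Fact (Nat.Prime 3)] [Fintype (IrrCharacter G)] (p b : ℕ)
    (hp : p = 5 ∨ p = 7) (hcard : Nat.card G = 3 * p * 2 ^ b) {R : Sylow 3 G}
    (hR : Nat.card R = 3)
    (ψs ψb : IrrCharacter G) (hs1 : ψs ≠ trivChar G) (hb1 : ψb ≠ trivChar G) (hsb : ψs ≠ ψb)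
    (hdeg : charDegree (ψb : G → ℂ) = charDegree (ψs : G → ℂ) + 1)
    (hu : (p = 5 ∧ charDegree (ψs : G → ℂ) = 4) ∨ (p = 7 ∧ charDegree (ψs : G → ℂ) = 7))
    (hreg : ∀ g : G, ¬ 3 ∣ orderOf g → (ψb : G → ℂ) g = 1 + (ψs : G → ℂ) g)
    (hval : ∀ y : G, y ∈ (R : Subgroup G) → y ≠ 1 →
      (ψs : G → ℂ) y = 1 ∧ (ψb : G → ℂ) y = -1)
    (hvan : ∀ ψ : IrrCharacter G, ψ ≠ trivChar G → ψ ≠ ψs → ψ ≠ ψb →
      ∀ y : G, y ∈ (R : Subgroup G) → y ≠ 1 → (ψ : G → ℂ) y = 0)
    (hburn : ∀ χ : IrrCharacter G, χ ≠ trivChar G → ∀ s : G, s ≠ 1 →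
      Nat.Coprime (charDegree (χ : G → ℂ)) (Subgroup.centralizer ({s} : Set G)).index →
      (χ : G → ℂ) s = 0)
    (hinv : 1 ≤ b → ∃ s : G, orderOf s = 2 ∧
      2 ^ b ∣ Nat.card (Subgroup.centralizer ({s} : Set G)))
    (hcc : ∀ s y : G, ∃ N₀ : ℕ, (N₀ : ℂ) * (Nat.card G : ℂ) =
      ((Subgroup.centralizer ({s} : Set G)).index : ℂ) ^ 2 *
        ∑ χ : IrrCharacter G, conj ((χ : G → ℂ) s) ^ 2 * (χ : G → ℂ) y / (χ : G → ℂ) 1) :
    Nat.card G ≤ 168 := by
  classical
  rcases Nat.eq_zero_or_pos b with hb0 | hbpos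
  · rw [hcard, hb0]
    rcases hp with rfl | rfl <;> norm_num
  obtain ⟨s, hs2, c, hc⟩ := hinv hbpos
  have hs_ne : s ≠ 1 := by
    rintro rfl
    rw [orderOf_one] at hs2
    omega
  have hs3 : ¬ 3 ∣ orderOf s := by rw [hs2]; norm_num
  obtain ⟨y, hyR, hy1⟩ : ∃ y : G, y ∈ (R : Subgroup G) ∧ y ≠ 1 := by
    by_contra hcon
    push Not at hcon
    have hbot : (R : Subgroup G) = ⊥ := by
      rw [Subgroup.eq_bot_iff_forall]; exact hcon
    have h1 : Nat.card (R : Subgroup G) = 1 := by rw [hbot]; exact Subgroup.card_bot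
    have h3 : Nat.card (R : Subgroup G) = 3 := hR
    omega
  have hmul : (Subgroup.centralizer ({s} : Set G)).index *
      Nat.card (Subgroup.centralizer ({s} : Set G)) = Nat.card G :=
    Subgroup.index_mul_card _
  have hic : (Subgroup.centralizer ({s} : Set G)).index * c = 3 * p := by
    have h1 : (Subgroup.centralizer ({s} : Set G)).index * (2 ^ b * c) = 3 * p * 2 ^ b := by
      rw [← hc, hmul, hcard]
    have h2 : ((Subgroup.centralizer ({s} : Set G)).index * c) * 2 ^ b = (3 * p) * 2 ^ b := by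
      rw [← h1]; ring
    exact Nat.eq_of_mul_eq_mul_right (by positivity) h2
  have hodd : Odd (Subgroup.centralizer ({s} : Set G)).index := by
    have h1 : Odd (3 * p) := by rcases hp with rfl | rfl <;> decide
    rw [← hic] at h1
    exact (Nat.odd_mul.mp h1).1
  have hcop2 : ∀ k : ℕ, Nat.Coprime (2 ^ k) (Subgroup.centralizer ({s} : Set G)).index :=
    fun k => Nat.Coprime.pow_left k (Nat.coprime_two_left.mpr hodd)
  obtain ⟨N₀, hN₀⟩ := hcc s y
  have hv := hval y hyR hy1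
  have hsum : ∑ χ : IrrCharacter G, conj ((χ : G → ℂ) s) ^ 2 * (χ : G → ℂ) y / (χ : G → ℂ) 1
      = 1 + conj ((ψs : G → ℂ) s) ^ 2 * 1 / (charDegree (ψs : G → ℂ) : ℂ)
        + conj ((ψb : G → ℂ) s) ^ 2 * (-1) / (charDegree (ψb : G → ℂ) : ℂ) := by
    rw [h5_sum_three _ (trivChar G) ψs ψb (Ne.symm hs1) (Ne.symm hb1) hsb]
    · simp only [trivChar_apply, map_one, one_pow, mul_one, div_one]
      rw [hv.1, hv.2, irr_one_eq_charDegree, irr_one_eq_charDegree]
      ring
    · intro χ h1 h2 h3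
      rw [hvan χ h1 h2 h3 y hyR hy1, mul_zero, zero_div]
  rw [hsum] at hN₀
  have hm : (((Subgroup.centralizer ({s} : Set G)).index : ℂ) *
      (Nat.card (Subgroup.centralizer ({s} : Set G)) : ℂ)) = (Nat.card G : ℂ) := by
    exact_mod_cast hmul
  rcases hu with ⟨rfl, hd4⟩ | ⟨rfl, hd7⟩
  · -- p = 5 : degrees 4, 5
    have hd5 : charDegree (ψb : G → ℂ) = 5 := by rw [hdeg, hd4]
    have hψs : (ψs : G → ℂ) s = 0 := by
      apply hburn ψs hs1 s hs_ne
      rw [hd4]; exact hcop2 2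
    have hψb : (ψb : G → ℂ) s = 1 := by rw [hreg s hs3, hψs, add_zero]
    rw [hψs, hψb, hd4, hd5] at hN₀
    simp only [map_zero, map_one] at hN₀
    have h5 : 5 * N₀ * ((Subgroup.centralizer ({s} : Set G)).index *
        Nat.card (Subgroup.centralizer ({s} : Set G))) =
        4 * (Subgroup.centralizer ({s} : Set G)).index ^ 2 := by
      have h5' : (5 : ℂ) * N₀ * (((Subgroup.centralizer ({s} : Set G)).index : ℂ) *
          (Nat.card (Subgroup.centralizer ({s} : Set G)) : ℂ)) =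
          4 * ((Subgroup.centralizer ({s} : Set G)).index : ℂ) ^ 2 := by
        rw [hm]
        push_cast at hN₀ ⊢
        linear_combination 5 * hN₀
      exact_mod_cast h5'
    have hb4 := h5_arith5 N₀ _ _ c b (by rw [hic]) hc h5
    rw [hcard]
    omega
  · -- p = 7 : degrees 7, 8
    have hd8 : charDegree (ψb : G → ℂ) = 8 := by rw [hdeg, hd7]
    have hψb : (ψb : G → ℂ) s = 0 := by
      apply hburn ψb hb1 s hs_ne
      rw [hd8]; exact hcop2 3
    have hψs : (ψs : G → ℂ) s = -1 := by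
      have h := hreg s hs3
      rw [hψb] at h
      linear_combination -h
    rw [hψs, hψb, hd7, hd8] at hN₀
    simp only [map_zero, map_neg, map_one] at hN₀
    have h7 : 7 * N₀ * ((Subgroup.centralizer ({s} : Set G)).index *
        Nat.card (Subgroup.centralizer ({s} : Set G))) =
        8 * (Subgroup.centralizer ({s} : Set G)).index ^ 2 := by
      have h7' : (7 : ℂ) * N₀ * (((Subgroup.centralizer ({s} : Set G)).index : ℂ) *
          (Nat.card (Subgroup.centralizer ({s} : Set G)) : ℂ)) =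
          8 * ((Subgroup.centralizer ({s} : Set G)).index : ℂ) ^ 2 := by
        rw [hm]
        push_cast at hN₀ ⊢
        linear_combination 7 * hN₀
      exact_mod_cast h7'
    have hb8 := h5_arith7 N₀ _ _ c b (by rw [hic]) hc h7
    rw [hcard]
    omega

end Cfsg.Agent.Lib.helper5.BT
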