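import Mathlib
import Cfsg.Prelude.Def_Characters
import Cfsg.Prelude.Def_Solvable
import Cfsg.Agent.Lib.helper4.CharTheory
import Cfsg.Agent.Lib.helper4.CharDecomp
import Cfsg.Agent.Lib.helper4.Induction
import Cfsg.Agent.Lib.helper82.CharDeg
import Cfsg.Agent.Lib.helper82.CharQuot
import Cfsg.Agent.Lib.helper82.Clifford
import Cfsg.Agent.Lib.helper82.CliffordCorr
import Cfsg.Agent.Lib.helper79.GaloisChar
import Cfsg.Agent.Lib.helper79.SchurScalar
import Cfsg.Agent.Lib.helper19.IndInv
import Cfsg.Agent.Lib.helper19.AbelianOver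
import Cfsg.Agent.Lib.helper28.Fitting
import Cfsg.Agent.Lib.helper28.Layer

set_option autoImplicit false
set_option linter.style.haveILetI false
set_option linter.unusedSectionVars false

/-!
# Faithful irreducible characters whose product with a Galois conjugate is irreducible

If `χ` is a faithful irreducible character of `G`, `k` is prime to `|G|` and
`g ↦ χ g * χ (g ^ k)` is irreducible, then `F(G) = Z(G)` (`fitting_eq_center_of_galprod`).
-/

namespace Cfsg.Agent.Lib.helper5

open Cfsg
open scoped ComplexConjugate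

universe u

section

variable {G : Type u} [Group G] [Fintype G]

/-- A character with nonzero degree has positive integral norm. -/
theorem char_norm_pos {a : G → ℂ} (ha : IsCharacter G a) (h1 : a 1 ≠ 0) :
    ∃ n : ℕ, 0 < n ∧ classInner a a = n := by
  obtain ⟨l, hl⟩ := helper4.exists_irr_list_of_isCharacter ha
  obtain ⟨n, hn, hlen⟩ := helper4.exists_nat_norm_list_irr l
  refine ⟨n, ?_, by rw [hl]; exact hn⟩
  rcases Nat.eq_zero_or_pos l.length with h0 | h0
  · exfalso
    apply h1
    rw [hl, List.length_eq_zero_iff.mp h0]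
    simp
  · omega

/-- The sum of two characters of nonzero degree is not irreducible. -/
theorem not_irr_add {a b : G → ℂ} (ha : IsCharacter G a) (hb : IsCharacter G b)
    (ha1 : a 1 ≠ 0) (hb1 : b 1 ≠ 0) : ¬ IsIrrCharacter G (a + b) := by
  intro h
  have h1 := helper4.classInner_irr_self h
  rw [helper4.classInner_add_left, helper4.classInner_add_right,
    helper4.classInner_add_right] at h1
  obtain ⟨n1, hn1, e1⟩ := char_norm_pos ha ha1
  obtain ⟨n2, hn2, e2⟩ := char_norm_pos hb hb1
  obtain ⟨m1, e3⟩ := helper4.exists_nat_classInner ha hb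
  obtain ⟨m2, e4⟩ := helper4.exists_nat_classInner hb ha
  rw [e1, e2, e3, e4] at h1
  have : n1 + m1 + (m2 + n2) = 1 := by exact_mod_cast h1
  omega

/-- Multiplication by a central element scales an irreducible character. -/
theorem irr_central_mul {χ : G → ℂ} (hχ : IsIrrCharacter G χ) {z : G}
    (hz : z ∈ Subgroup.center G) (g : G) : χ (z * g) * χ 1 = χ z * χ g := by
  obtain ⟨n, ρ, hρ, rfl⟩ := hχ
  obtain ⟨t, -, ht⟩ := helper79.central_character_mul ρ hρ z
    (fun g => Subgroup.mem_center_iff.mp hz g)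
  have h1 := ht 1
  rw [mul_one] at h1
  rw [ht g, h1]
  ring

/-- A faithful irreducible character separates central elements. -/
theorem central_eq_of_faithful {χ : G → ℂ} (hχ : IsIrrCharacter G χ)
    (hfaith : ∀ g, χ g = χ 1 → g = 1) {u v : G} (hu : u ∈ Subgroup.center G)
    (hv : v ∈ Subgroup.center G) (h : χ u = χ v) : u = v := by
  have h1 : χ 1 ≠ 0 := helper4.irr_degree_ne_zero hχ
  have e1 := irr_central_mul hχ hu v⁻¹
  have e2 := irr_central_mul hχ hv v⁻¹
  rw [mul_inv_cancel] at e2
  rw [h, ← e2] at e1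
  have e3 : χ (u * v⁻¹) = χ 1 := mul_right_cancel₀ h1 e1
  have := hfaith _ e3
  exact mul_inv_eq_one.mp this

/-- If `χ` is induced from a proper subgroup, `χ · χ^σ` is not irreducible. -/
theorem not_irr_of_induced (H : Subgroup G) (hH : H ≠ ⊤) {ξ : H → ℂ} (hξ : IsIrrCharacter H ξ)
    (hχ : IsIrrCharacter G (indFun H ξ)) (k : ℕ) (hk : k.Coprime (Nat.card G)) :
    ¬ IsIrrCharacter G (fun g => indFun H ξ g * indFun H ξ (g ^ k)) := by
  classical
  haveI : Fintype H := Fintype.ofFinite H
  haveI : Fintype (IrrCharacter H) := Fintype.ofFinite _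
  have hkH : k.Coprime (Nat.card H) :=
    Nat.Coprime.coprime_dvd_right (Subgroup.card_subgroup_dvd_card H) hk
  set χ := indFun H ξ with hχdef
  have hχc := helper4.isCharacter_of_isIrrCharacter hχ
  have hχcf := helper4.isClassFunction_of_isIrrCharacter hχ
  have hξc := helper4.isCharacter_of_isIrrCharacter hξ
  have hξ1 : ξ 1 ≠ 0 := helper4.irr_degree_ne_zero hξ
  have hresc : IsCharacter H (fun h : H => χ h) := helper4.isCharacter_restrict H hχc
  set ω : H → ℂ := (fun h : H => χ h) - ξ with hω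
  have hωc : IsCharacter H ω := by
    apply helper4.isCharacter_of_nat_classInner
    · exact helper4.isClassFunction_sub (helper4.isClassFunction_of_isCharacter hresc)
        (helper4.isClassFunction_of_isIrrCharacter hξ)
    · intro φ
      rw [hω, helper4.classInner_sub_left]
      by_cases hφ : (φ : H → ℂ) = ξ
      · refine ⟨0, ?_⟩
        rw [hφ, helper4.classInner_irr_self hξ]
        have h1 := helper4.frobenius_reciprocity H ξ hχcf
        have h2 : classInner (fun h : H => χ h) ξ = 1 := by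
          rw [← helper4.classInner_conj_symm, ← h1, helper4.classInner_irr_self hχ]
          simp
        rw [h2]
        simp
      · obtain ⟨n, hn⟩ := helper4.exists_nat_classInner_irr hresc φ.2
        refine ⟨n, ?_⟩
        rw [hn, helper4.classInner_irr_ne hξ φ.2 (Ne.symm hφ)]
        simp
  have hidx : (H.index : ℂ) ≠ 1 := by
    have : H.index ≠ 1 := fun h => hH (Subgroup.index_eq_one.mp h)
    exact_mod_cast this
  have hidx0 : (H.index : ℂ) ≠ 0 := by
    have : H.index ≠ 0 := Subgroup.index_ne_zero_of_finite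
    exact_mod_cast this
  have hω1 : ω 1 ≠ 0 := by
    have e1 : ω 1 = χ 1 - ξ 1 := rfl
    rw [e1, hχdef, helper4.indFun_one]
    intro h0
    have : ((H.index : ℂ) - 1) * ξ 1 = 0 := by rw [← h0]; ring
    rcases mul_eq_zero.mp this with h | h
    · exact hidx (sub_eq_zero.mp h)
    · exact hξ1 h
  -- the conjugates
  have hξσ : IsCharacter H (fun h : H => ξ (h ^ k)) := helper79.isCharacter_pow_coprime k hkH hξc
  have hωσ : IsCharacter H (fun h : H => ω (h ^ k)) := helper79.isCharacter_pow_coprime k hkH hωc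
  have hχσ : IsCharacter G (fun g => χ (g ^ k)) := helper79.isCharacter_pow_coprime k hk hχc
  have hA : IsCharacter H (ξ * fun h : H => ξ (h ^ k)) := helper4.isCharacter_mul hξc hξσ
  have hB : IsCharacter H (ξ * fun h : H => ω (h ^ k)) := helper4.isCharacter_mul hξc hωσ
  have hsum : (fun g => χ g * χ (g ^ k)) =
      indFun H (ξ * fun h : H => ξ (h ^ k)) + indFun H (ξ * fun h : H => ω (h ^ k)) := by
    rw [← helper4.indFun_add]
    have e1 := helper19.indFun_mul_restrict H ξ (fun g => χ (g ^ k))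
      (helper4.isClassFunction_of_isCharacter hχσ)
    have e2 : (ξ * fun h : H => ξ (h ^ k)) + (ξ * fun h : H => ω (h ^ k)) =
        ξ * fun n : H => (fun g => χ (g ^ k)) (n : G) := by
      funext h
      simp only [Pi.add_apply, Pi.mul_apply, hω, Pi.sub_apply, Subgroup.coe_pow]
      ring
    rw [e2, e1]
    rfl
  rw [hsum]
  apply not_irr_add (helper4.isCharacter_indFun H hA) (helper4.isCharacter_indFun H hB)
  · rw [helper4.indFun_one]
    simp only [Pi.mul_apply, one_pow]
    exact mul_ne_zero hidx0 (mul_ne_zero hξ1 hξ1)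
  · rw [helper4.indFun_one]
    simp only [Pi.mul_apply, one_pow]
    exact mul_ne_zero hidx0 (mul_ne_zero hξ1 hω1)

/-- Under the hypotheses, every abelian normal subgroup is central. -/
theorem abelian_normal_le_center_of_galprod (χ : G → ℂ) (hχ : IsIrrCharacter G χ)
    (hfaith : ∀ g, χ g = χ 1 → g = 1) (k : ℕ) (hk : k.Coprime (Nat.card G))
    (hirr : IsIrrCharacter G (fun g => χ g * χ (g ^ k)))
    (A : Subgroup G) [hA : A.Normal] (hab : ∀ a ∈ A, ∀ b ∈ A, a * b = b * a) :
    A ≤ Subgroup.center G := by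
  classical
  haveI : Fintype A := Fintype.ofFinite A
  haveI : Fintype (IrrCharacter A) := Fintype.ofFinite _
  have hχc := helper4.isCharacter_of_isIrrCharacter hχ
  have hχ1 : χ 1 ≠ 0 := helper4.irr_degree_ne_zero hχ
  have hres : IsCharacter A (fun a : A => χ a) := helper4.isCharacter_restrict A hχc
  obtain ⟨N, hN, hNg, -⟩ := helper82.exists_nat_decomp hres
  have hex : ∃ l : IrrCharacter A, N l ≠ 0 := by
    by_contra hcon
    push Not at hcon
    have h1 := hNg 1
    simp only [hcon, Nat.cast_zero, zero_mul, Finset.sum_const_zero] at h1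
    exact hχ1 h1
  obtain ⟨l, hl0⟩ := hex
  have hlcf := helper4.isClassFunction_of_isIrrCharacter l.2
  have hNT : A ≤ helper82.inertia A (l : A → ℂ) := helper82.le_inertia A hlcf
  have hne : classInner (fun n : A => χ n) (l : A → ℂ) ≠ 0 := by
    rw [hN l]
    exact_mod_cast hl0
  obtain ⟨ξ, hξ, hind, -⟩ := helper82.clifford_corr_surj A (helper82.inertia A (l : A → ℂ)) hNT
    l.2 rfl hχ hne
  have hT : helper82.inertia A (l : A → ℂ) = ⊤ := by
    by_contra hT
    refine not_irr_of_induced _ hT hξ (hind ▸ hχ) k hk ?_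
    rw [hind]
    exact hirr
  have hinv : ∀ g : G, helper82.cconj A g (l : A → ℂ) = l := by
    intro g
    have : g ∈ helper82.inertia A (l : A → ℂ) := by rw [hT]; trivial
    exact (helper82.mem_inertia A _ g).mp this
  have hcl := helper82.clifford_invariant A hχ l.2 hinv (N l) (hN l) hl0
  have hl1 : (l : A → ℂ) 1 = 1 := by
    apply helper19.linear_of_abelian_quot (⊥ : Subgroup A) _ _ l.2
    · intro x hx
      rw [Subgroup.mem_bot.mp hx]
    · intro x y
      rw [Subgroup.mem_bot]
      apply Subtype.ext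
      have := hab x x.2 y y.2
      simp only [Subgroup.coe_mul, Subgroup.coe_inv, Subgroup.coe_one]
      rw [this, mul_inv_cancel_right, mul_inv_cancel]
  obtain ⟨f, hf⟩ := helper82.exists_hom_of_linear (helper4.isCharacter_of_isIrrCharacter l.2) hl1
  intro a ha
  rw [Subgroup.mem_center_iff]
  intro g
  have hconj : g * a⁻¹ * g⁻¹ ∈ A := hA.conj_mem _ (inv_mem ha) g
  have hinv' := (helper82.mem_inertia_iff A (l : A → ℂ) g).mp (by rw [hT]; trivial)
    ⟨a⁻¹, inv_mem ha⟩
  have hc : a * (g * a⁻¹ * g⁻¹) ∈ A := mul_mem ha hconj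
  have e1 := hcl ⟨a * (g * a⁻¹ * g⁻¹), hc⟩
  have e2 : (⟨a * (g * a⁻¹ * g⁻¹), hc⟩ : A) = ⟨a, ha⟩ * ⟨g * a⁻¹ * g⁻¹, hconj⟩ := rfl
  have e3 : (l : A → ℂ) ⟨a * (g * a⁻¹ * g⁻¹), hc⟩ = 1 := by
    rw [e2, hf, map_mul, Units.val_mul, ← hf, ← hf, hinv', hf, hf, ← Units.val_mul, ← map_mul]
    have : (⟨a, ha⟩ : A) * ⟨a⁻¹, inv_mem ha⟩ = 1 := by
      apply Subtype.ext
      simp
    rw [this, map_one, Units.val_one]
  have e4 := hcl 1
  rw [hl1] at e4
  rw [e3] at e1
  have e5 : χ (a * (g * a⁻¹ * g⁻¹)) = χ 1 := by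
    have : χ ((1 : A) : G) = χ 1 := rfl
    rw [← this, e4]
    exact e1
  have e6 := hfaith _ e5
  have : g * a = a * g := by
    have h7 : a * g * a⁻¹ * g⁻¹ = 1 := by rw [← e6]; group
    calc g * a = (a * g * a⁻¹ * g⁻¹)⁻¹ * (a * g) := by group
      _ = a * g := by rw [h7]; simp
  exact this

/-- The linear character `h ↦ ω([h, n])` of a subgroup whose commutators with `n` are central. -/
theorem exists_commHom {χ : G → ℂ} (hχ : IsIrrCharacter G χ) (n : G) (H : Subgroup G)
    (hH : ∀ h ∈ H, h * n * h⁻¹ * n⁻¹ ∈ Subgroup.center G) :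
    ∃ f : H →* ℂˣ, ∀ h : H, (f h : ℂ) = χ ((h : G) * n * (h : G)⁻¹ * n⁻¹) / χ 1 := by
  have hχ1 : χ 1 ≠ 0 := helper4.irr_degree_ne_zero hχ
  let f0 : H →* ℂ :=
    { toFun := fun h => χ ((h : G) * n * (h : G)⁻¹ * n⁻¹) / χ 1
      map_one' := by
        simp only [Subgroup.coe_one, one_mul, inv_one, mul_one, mul_inv_cancel]
        exact div_self hχ1
      map_mul' := by
        intro s t
        have hs := hH s s.2
        have ht := hH t t.2
        have e1 : ((s * t : H) : G) * n * ((s * t : H) : G)⁻¹ * n⁻¹ =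
            ((t : G) * n * (t : G)⁻¹ * n⁻¹) * ((s : G) * n * (s : G)⁻¹ * n⁻¹) := by
          have hc := Subgroup.mem_center_iff.mp ht (s : G)
          calc ((s * t : H) : G) * n * ((s * t : H) : G)⁻¹ * n⁻¹
              = (s : G) * ((t : G) * n * (t : G)⁻¹ * n⁻¹) * (n * (s : G)⁻¹ * n⁻¹) := by
                simp only [Subgroup.coe_mul]; group
            _ = ((t : G) * n * (t : G)⁻¹ * n⁻¹) * (s : G) * (n * (s : G)⁻¹ * n⁻¹) := by rw [hc]
            _ = _ := by group
        have e2 := irr_central_mul hχ ht ((s : G) * n * (s : G)⁻¹ * n⁻¹)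
        show χ _ / χ 1 = χ _ / χ 1 * (χ _ / χ 1)
        rw [e1]
        field_simp
        rw [e2]
        ring }
  exact ⟨f0.toHomUnits, fun h => rfl⟩

/-- If `[t, n]` is central then `χ t = 0` or `[t, n]` acts trivially. -/
theorem irr_mul_comm_central {χ : G → ℂ} (hχ : IsIrrCharacter G χ) (t n : G)
    (hc : t * n * t⁻¹ * n⁻¹ ∈ Subgroup.center G) :
    χ t * χ (t * n * t⁻¹ * n⁻¹) = χ t * χ 1 := by
  have hcf := helper4.isClassFunction_of_isIrrCharacter hχ
  have e1 : χ (n⁻¹ * t * n) = χ t := by simpa using hcf t n⁻¹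
  have e2 : n⁻¹ * t * n = (t * n * t⁻¹ * n⁻¹) * t := by
    have h := Subgroup.mem_center_iff.mp hc n⁻¹
    calc n⁻¹ * t * n = n⁻¹ * (t * n * t⁻¹ * n⁻¹) * n * t := by group
      _ = (t * n * t⁻¹ * n⁻¹) * n⁻¹ * n * t := by rw [h]
      _ = _ := by group
  have e3 := irr_central_mul hχ hc t
  rw [← e2, e1] at e3
  rw [mul_comm, ← e3]

end

/-- A nilpotent group with proper centre has a non-central element whose commutators are all
central. -/
theorem exists_second_center {F : Type*} [Group F] [hnil : Group.IsNilpotent F]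
    (hc : Subgroup.center F ≠ ⊤) :
    ∃ x : F, x ∉ Subgroup.center F ∧ ∀ y : F, x * y * x⁻¹ * y⁻¹ ∈ Subgroup.center F := by
  by_contra hcon
  push Not at hcon
  have key : ∀ m : ℕ, Subgroup.upperCentralSeries F (m + 1) = Subgroup.center F := by
    intro m
    induction m with
    | zero => exact Subgroup.upperCentralSeries_one F
    | succ m ih =>
      apply le_antisymm
      · intro x hx
        rw [Subgroup.mem_upperCentralSeries_succ_iff] at hx
        by_contra hxc
        obtain ⟨y, hy⟩ := hcon x hxc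
        exact hy (ih ▸ hx y)
      · rw [← ih]
        exact Subgroup.upperCentralSeries_mono F (Nat.le_succ _)
  obtain ⟨m, hm⟩ := hnil.nilpotent'
  rcases m with _ | m
  · rw [Subgroup.upperCentralSeries_zero] at hm
    apply hc
    rw [eq_top_iff, ← hm]
    exact bot_le
  · rw [key m] at hm
    exact hc hm

section

variable {G : Type u} [Group G] [Fintype G]

/-- The key contradiction: a non-central element `n` of a normal subgroup `F` whose commutators
with `F` are central cannot exist. -/
theorem galprod_contra (χ : G → ℂ) (hχ : IsIrrCharacter G χ)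
    (hfaith : ∀ g, χ g = χ 1 → g = 1) (k : ℕ) (hk : k.Coprime (Nat.card G))
    (hirr : IsIrrCharacter G (fun g => χ g * χ (g ^ k)))
    (F : Subgroup G) [hF : F.Normal] (n : G) (hnF : n ∈ F)
    (hn : ∀ f ∈ F, f * n * f⁻¹ * n⁻¹ ∈ Subgroup.center G)
    (hne : ∃ f ∈ F, f * n * f⁻¹ * n⁻¹ ≠ 1)
    (hZ : ∀ w ∈ F, (∀ f ∈ F, w * f = f * w) → w ∈ Subgroup.center G) : False := by
  classical
  haveI : Fintype F := Fintype.ofFinite F
  haveI : Fintype (IrrCharacter G) := Fintype.ofFinite _
  have hχc := helper4.isCharacter_of_isIrrCharacter hχ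
  have hχcf := helper4.isClassFunction_of_isIrrCharacter hχ
  have hχ1 : χ 1 ≠ 0 := helper4.irr_degree_ne_zero hχ
  obtain ⟨fF, hfF⟩ := exists_commHom hχ n F hn
  set θ : F → ℂ := fun f => (fF f : ℂ) with hθdef
  have hθ : IsIrrCharacter F θ := helper82.isIrrCharacter_of_hom fF
  set T : Subgroup G := helper82.inertia F θ with hTdef
  have hFT : F ≤ T := helper82.le_inertia F (helper4.isClassFunction_of_isIrrCharacter hθ)
  have hTc : ∀ t ∈ T, t * n * t⁻¹ * n⁻¹ ∈ Subgroup.center G := by
    intro t ht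
    have hinv := (helper82.mem_inertia_iff F θ t).mp ht
    have hw : n⁻¹ * t⁻¹ * n * t ∈ F := by
      have h1 : t⁻¹ * n * t ∈ F := by simpa using hF.conj_mem n hnF t⁻¹
      have h2 := mul_mem (inv_mem hnF) h1
      simpa [mul_assoc] using h2
    have hwc : n⁻¹ * t⁻¹ * n * t ∈ Subgroup.center G := by
      apply hZ _ hw
      intro f hf
      have hf' : f⁻¹ ∈ F := inv_mem hf
      have h1 := hinv ⟨f⁻¹, hf'⟩
      simp only [hθdef, hfF] at h1
      have h1' : χ (t * f⁻¹ * t⁻¹ * n * (t * f⁻¹ * t⁻¹)⁻¹ * n⁻¹) = χ (f⁻¹ * n * f⁻¹⁻¹ * n⁻¹) := by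
        field_simp at h1
        exact h1
      have h2 := central_eq_of_faithful hχ hfaith (hn _ (hF.conj_mem _ hf' t)) (hn _ hf') h1'
      have hu := Subgroup.mem_center_iff.mp (hn _ hf')
      have h3 : t⁻¹ * n * t * f * (t⁻¹ * n * t)⁻¹ = n * f * n⁻¹ := by
        have hu' : t⁻¹ * (f⁻¹ * n * f⁻¹⁻¹ * n⁻¹) * t = f⁻¹ * n * f⁻¹⁻¹ * n⁻¹ := by
          rw [mul_assoc, ← hu t, ← mul_assoc, inv_mul_cancel, one_mul]
        calc t⁻¹ * n * t * f * (t⁻¹ * n * t)⁻¹
            = f * (t⁻¹ * (t * f⁻¹ * t⁻¹ * n * (t * f⁻¹ * t⁻¹)⁻¹ * n⁻¹) * t) := by group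
          _ = f * (t⁻¹ * (f⁻¹ * n * f⁻¹⁻¹ * n⁻¹) * t) := by rw [h2]
          _ = f * (f⁻¹ * n * f⁻¹⁻¹ * n⁻¹) := by rw [hu']
          _ = n * f * n⁻¹ := by group
      calc n⁻¹ * t⁻¹ * n * t * f
          = n⁻¹ * (t⁻¹ * n * t * f * (t⁻¹ * n * t)⁻¹) * (t⁻¹ * n * t) := by group
        _ = n⁻¹ * (n * f * n⁻¹) * (t⁻¹ * n * t) := by rw [h3]
        _ = f * (n⁻¹ * t⁻¹ * n * t) := by group
    have h4 := (inferInstance : (Subgroup.center G).Normal).conj_mem _ (inv_mem hwc) (t * n)
    convert h4 using 1
    group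
  obtain ⟨fT, hfT⟩ := exists_commHom hχ n T hTc
  set ν : T → ℂ := fun t => (fT t : ℂ) with hνdef
  have hν : IsIrrCharacter T ν := helper82.isIrrCharacter_of_hom fT
  have hνθ : (fun f : F => ν ⟨f, hFT f.2⟩) = θ := by
    funext f
    simp only [hνdef, hθdef, hfF, hfT]
  haveI : Fintype T := Fintype.ofFinite T
  have hΘ := (helper82.clifford_corr_irr F T hFT hθ hTdef hν
    (by rw [hνθ, helper4.classInner_irr_self hθ]; exact one_ne_zero)).1
  set Θ := indFun T ν with hΘdef
  have hv : ∀ t : T, χ t * ν t = χ t := by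
    intro t
    have h1 := irr_mul_comm_central hχ (t : G) n (hTc t t.2)
    show χ t * ((fT t : ℂˣ) : ℂ) = χ t
    rw [hfT, ← mul_div_assoc, h1, mul_div_assoc, div_self hχ1, mul_one]
  have hkT : k.Coprime (Nat.card T) :=
    Nat.Coprime.coprime_dvd_right (Subgroup.card_subgroup_dvd_card T) hk
  have hvk : ∀ t : T, χ ((t : G) ^ k) * ν t = χ ((t : G) ^ k) := by
    intro t
    by_cases h0 : χ ((t : G) ^ k) = 0
    · rw [h0, zero_mul]
    · have h1 := hv (t ^ k)
      rw [Subgroup.coe_pow] at h1
      have h2 : ν (t ^ k) = 1 := by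
        have : χ ((t : G) ^ k) * ν (t ^ k) = χ ((t : G) ^ k) * 1 := by rw [h1, mul_one]
        exact mul_left_cancel₀ h0 this
      have h3 : (fT t) ^ k = 1 := by
        apply Units.ext
        rw [← map_pow]
        exact h2
      have h4 : (fT t) ^ (Nat.card T) = 1 := by
        rw [← map_pow, pow_card_eq_one', map_one]
      have h5 : (fT t) ^ (Nat.gcd k (Nat.card T)) = 1 := pow_gcd_eq_one.mpr ⟨h3, h4⟩
      rw [show Nat.gcd k (Nat.card T) = 1 from hkT, pow_one] at h5
      show χ _ * ((fT t : ℂˣ) : ℂ) = _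
      rw [h5, Units.val_one, mul_one]
  set a : G → ℂ := fun g => χ g * conj (χ g) with hadef
  set b : G → ℂ := fun g => χ (g ^ k) * conj (χ (g ^ k)) with hbdef
  have hχσ : IsIrrCharacter G (fun g => χ (g ^ k)) :=
    helper79.isIrrCharacter_pow_coprime k hk hχ
  have hχσc := helper4.isCharacter_of_isIrrCharacter hχσ
  have ha : IsCharacter G a := helper4.isCharacter_mul hχc (helper4.isCharacter_conj hχc)
  have hb : IsCharacter G b := helper4.isCharacter_mul hχσc (helper4.isCharacter_conj hχσc)
  have hab : classInner a b = 1 := by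
    rw [← helper4.classInner_irr_self hirr]
    unfold classInner
    congr 1
    apply Finset.sum_congr rfl
    intro g _
    simp only [hadef, hbdef, map_mul, Complex.conj_conj]
    ring
  obtain ⟨Na, hNa, hNag, -⟩ := helper82.exists_nat_decomp ha
  obtain ⟨Nb, hNb, hNbg, -⟩ := helper82.exists_nat_decomp hb
  have hsum : (∑ ψ : IrrCharacter G, Na ψ * Nb ψ) = 1 := by
    have ea : a = ∑ ψ : IrrCharacter G, (Na ψ : ℂ) • (ψ : G → ℂ) := by
      funext g
      rw [hNag g]
      simp [Finset.sum_apply]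
    have eb : b = ∑ ψ : IrrCharacter G, (Nb ψ : ℂ) • (ψ : G → ℂ) := by
      funext g
      rw [hNbg g]
      simp [Finset.sum_apply]
    have h1 := helper4.classInner_sum_irr_smul (G := G) (fun ψ => (Na ψ : ℂ)) (fun ψ => (Nb ψ : ℂ))
    rw [← ea, ← eb, hab] at h1
    have h2 : (1 : ℂ) = ((∑ ψ : IrrCharacter G, Na ψ * Nb ψ : ℕ) : ℂ) := by
      rw [h1]
      push_cast
      apply Finset.sum_congr rfl
      intro ψ _
      simp
    exact_mod_cast h2.symm
  have h1irr : IsIrrCharacter G (fun _ => (1 : ℂ)) :=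
    helper82.isIrrCharacter_of_hom (1 : G →* ℂˣ)
  let one : IrrCharacter G := ⟨fun _ => 1, h1irr⟩
  let ΘI : IrrCharacter G := ⟨Θ, hΘ⟩
  have hNa1 : Na one = 1 := by
    have h := hNa one
    have e : classInner a (fun _ => (1 : ℂ)) = classInner χ χ := by
      unfold classInner
      congr 1
      apply Finset.sum_congr rfl
      intro g _
      simp [hadef]
    rw [show ((one : IrrCharacter G) : G → ℂ) = fun _ => 1 from rfl, e,
      helper4.classInner_irr_self hχ] at h
    exact_mod_cast h.symm
  have hNb1 : Nb one = 1 := by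
    have h := hNb one
    have e : classInner b (fun _ => (1 : ℂ)) =
        classInner (fun g => χ (g ^ k)) (fun g => χ (g ^ k)) := by
      unfold classInner
      congr 1
      apply Finset.sum_congr rfl
      intro g _
      simp [hbdef]
    rw [show ((one : IrrCharacter G) : G → ℂ) = fun _ => 1 from rfl, e,
      helper4.classInner_irr_self hχσ] at h
    exact_mod_cast h.symm
  have hacf := helper4.isClassFunction_of_isCharacter ha
  have hbcf := helper4.isClassFunction_of_isCharacter hb
  have hNaΘ : Na ΘI ≠ 0 := by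
    intro h0
    have h1 := hNa ΘI
    rw [h0] at h1
    have h2 : classInner Θ a = 0 := by
      rw [← helper4.classInner_conj_symm]
      rw [show ((ΘI : IrrCharacter G) : G → ℂ) = Θ from rfl] at h1
      rw [h1]
      simp
    rw [hΘdef, helper4.frobenius_reciprocity T ν hacf] at h2
    have h3 : classInner ν (fun t : T => a t) =
        classInner (fun t : T => χ t) (fun t : T => χ t) := by
      unfold classInner
      congr 1
      apply Finset.sum_congr rfl
      intro t _
      simp only [hadef, map_mul, Complex.conj_conj]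
      calc ν t * (conj (χ t) * χ t) = (χ t * ν t) * conj (χ t) := by ring
        _ = χ t * conj (χ t) := by rw [hv t]
    obtain ⟨m, hm, em⟩ := char_norm_pos (helper4.isCharacter_restrict T hχc) hχ1
    rw [h3, em] at h2
    have : m = 0 := by exact_mod_cast h2
    omega
  have hNbΘ : Nb ΘI ≠ 0 := by
    intro h0
    have h1 := hNb ΘI
    rw [h0] at h1
    have h2 : classInner Θ b = 0 := by
      rw [← helper4.classInner_conj_symm]
      rw [show ((ΘI : IrrCharacter G) : G → ℂ) = Θ from rfl] at h1
      rw [h1]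
      simp
    rw [hΘdef, helper4.frobenius_reciprocity T ν hbcf] at h2
    have h3 : classInner ν (fun t : T => b t) =
        classInner (fun t : T => χ ((t : G) ^ k)) (fun t : T => χ ((t : G) ^ k)) := by
      unfold classInner
      congr 1
      apply Finset.sum_congr rfl
      intro t _
      simp only [hbdef, map_mul, Complex.conj_conj]
      calc ν t * (conj (χ ((t : G) ^ k)) * χ ((t : G) ^ k))
          = (χ ((t : G) ^ k) * ν t) * conj (χ ((t : G) ^ k)) := by ring
        _ = χ ((t : G) ^ k) * conj (χ ((t : G) ^ k)) := by rw [hvk t]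
    have hres : IsCharacter T (fun t : T => χ ((t : G) ^ k)) :=
      helper4.isCharacter_restrict T hχσc
    obtain ⟨m, hm, em⟩ := char_norm_pos hres (by simpa using hχ1)
    rw [h3, em] at h2
    have : m = 0 := by exact_mod_cast h2
    omega
  have hne1 : one ≠ ΘI := by
    intro h
    have h1 : (fun _ : G => (1 : ℂ)) = Θ := congrArg Subtype.val h
    have h2 : classInner Θ (fun _ : G => (1 : ℂ)) = 1 := by
      rw [← h1]
      exact helper4.classInner_irr_self h1irr
    rw [hΘdef, helper4.frobenius_reciprocity T ν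
      (helper4.isClassFunction_of_isIrrCharacter h1irr)] at h2
    have h1T : IsIrrCharacter T (fun _ => (1 : ℂ)) :=
      helper82.isIrrCharacter_of_hom (1 : T →* ℂˣ)
    have hνne : ν ≠ fun _ => 1 := by
      intro hν1
      obtain ⟨f, hf, hfne⟩ := hne
      have h3 := congrFun hν1 ⟨f, hFT hf⟩
      simp only [hνdef, hfT] at h3
      have h4 : χ (f * n * f⁻¹ * n⁻¹) = χ 1 := by
        field_simp at h3
        exact h3
      exact hfne (hfaith _ h4)
    rw [helper4.classInner_irr_ne hν h1T hνne] at h2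
    exact zero_ne_one h2
  have hle : ∑ ψ ∈ ({one, ΘI} : Finset (IrrCharacter G)), Na ψ * Nb ψ ≤
      ∑ ψ : IrrCharacter G, Na ψ * Nb ψ :=
    Finset.sum_le_sum_of_subset (Finset.subset_univ _)
  rw [Finset.sum_pair hne1, hsum, hNa1, hNb1] at hle
  have : 1 ≤ Na ΘI * Nb ΘI := Nat.mul_pos (Nat.pos_of_ne_zero hNaΘ) (Nat.pos_of_ne_zero hNbΘ)
  omega

end

/-- If `χ` is a faithful irreducible character, `k` is prime to `|G|` and `g ↦ χ g * χ (g ^ k)`
is irreducible, then `F(G) = Z(G)`. -/
theorem fitting_eq_center_of_galprod {G : Type u} [Group G] [Finite G] (χ : G → ℂ)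
    (hχ : IsIrrCharacter G χ) (hfaith : ∀ g, χ g = χ 1 → g = 1) (k : ℕ)
    (hk : k.Coprime (Nat.card G)) (hirr : IsIrrCharacter G (fun g => χ g * χ (g ^ k))) :
    fittingSubgroup G = Subgroup.center G := by
  classical
  haveI : Fintype G := Fintype.ofFinite G
  apply le_antisymm
  · set F := fittingSubgroup G with hFdef
    haveI hFn : F.Normal := helper28.fittingSubgroup_normal G
    haveI hnil : Group.IsNilpotent F := helper28.fittingSubgroup_isNilpotent G
    have hZ : ∀ w ∈ F, (∀ f ∈ F, w * f = f * w) → w ∈ Subgroup.center G := by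
      intro w hw hwc
      haveI : ((Subgroup.center F).map F.subtype).Normal := inferInstance
      have hA := abelian_normal_le_center_of_galprod χ hχ hfaith k hk hirr
        ((Subgroup.center F).map F.subtype) (by
          rintro _ ⟨a, ha, rfl⟩ _ ⟨b, hb, rfl⟩
          have h1 := Subgroup.mem_center_iff.mp ha b
          have h2 := congrArg Subtype.val h1
          simpa using h2.symm)
      apply hA
      refine ⟨⟨w, hw⟩, ?_, rfl⟩
      rw [SetLike.mem_coe, Subgroup.mem_center_iff]
      intro g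
      apply Subtype.ext
      exact (hwc g g.2).symm
    by_contra hnot
    have hc : Subgroup.center F ≠ ⊤ := by
      intro htop
      apply hnot
      intro f hf
      apply hZ f hf
      intro f' hf'
      have h1 : (⟨f, hf⟩ : F) ∈ Subgroup.center F := by rw [htop]; trivial
      have h2 := Subgroup.mem_center_iff.mp h1 ⟨f', hf'⟩
      exact (congrArg Subtype.val h2).symm
    obtain ⟨x, hx, hxy⟩ := exists_second_center hc
    apply galprod_contra χ hχ hfaith k hk hirr F (x : G) x.2
    · intro f hf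
      have h1 := hxy ⟨f, hf⟩
      have h2 := inv_mem h1
      apply hZ
      · exact mul_mem (mul_mem (mul_mem hf x.2) (inv_mem hf)) (inv_mem x.2)
      · intro f' hf'
        have h3 := Subgroup.mem_center_iff.mp h2 ⟨f', hf'⟩
        have h4 := congrArg Subtype.val h3
        simp only [Subgroup.coe_mul, Subgroup.coe_inv, mul_inv_rev, inv_inv] at h4
        simp only [mul_assoc] at h4 ⊢
        exact h4.symm
    · by_contra hall
      push Not at hall
      apply hx
      rw [Subgroup.mem_center_iff]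
      intro y
      have h1 := hall y y.2
      apply Subtype.ext
      simp only [Subgroup.coe_mul]
      calc (y : G) * x = ((y : G) * x * (y : G)⁻¹ * (x : G)⁻¹) * (x * y) := by group
        _ = x * y := by rw [h1, one_mul]
    · exact hZ
  · exact helper28.le_fittingSubgroup_of_isMulCommutative inferInstance inferInstance

end Cfsg.Agent.Lib.helper5
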