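import Cfsg.Agent.Lib.helper3.GfHeis

/-!
# S4395, EXB sub-split, piece HCARD (helper5, racer copy): the order of the Heisenberg-type group.
-/

set_option autoImplicit false

namespace Cfsg.Agent.Lib.helper3.Gf

universe u

open HG

section
variable {n : ℕ} [NeZero n] {L : Type u} [Field L] {σ : L →+* L} {lam : L} [h : HData n L σ lam]

/-- the bijection `(x, z, k) ↦ (x, z - c x, k)` -/
noncomputable def h5_hcardEquiv (c : L → L) (hc : ∀ x : L, c x + σ (c x) = x * σ x) :
    HG n L σ lam ≃ L × ({z : L // z + σ z = 0} × ZMod n) where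
  toFun g := (g.x, ⟨g.z - c g.x, by
    rw [map_sub]
    linear_combination g.hz - hc g.x⟩, g.k)
  invFun t := ⟨t.1, t.2.1.1 + c t.1, t.2.2, by
    rw [map_add]
    linear_combination t.2.1.2 + hc t.1⟩
  left_inv g := by
    apply HG.ext
    · rfl
    · exact sub_add_cancel g.z (c g.x)
    · rfl
  right_inv t := by
    obtain ⟨x, ⟨z, hz⟩, k⟩ := t
    apply Prod.ext
    · rfl
    · apply Prod.ext
      · apply Subtype.ext
        exact add_sub_cancel_right z (c x)
      · rfl

/-- HCARD (racer copy, verbatim statement). -/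
theorem h5_hcard_HG [Finite L] (hnorm : ∀ x : L, ∃ z, z + σ z = x * σ x) :
    Finite (HG n L σ lam) ∧
    Nat.card (HG n L σ lam) = Nat.card L * Nat.card {z : L // z + σ z = 0} * n := by
  choose c hc using hnorm
  have e : HG n L σ lam ≃ L × ({z : L // z + σ z = 0} × ZMod n) := h5_hcardEquiv c hc
  refine ⟨Finite.of_equiv _ e.symm, ?_⟩
  rw [Nat.card_congr e, Nat.card_prod, Nat.card_prod, Nat.card_zmod, mul_assoc]

end

end Cfsg.Agent.Lib.helper3.Gf
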