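import Mathlib

/-!
# S4395, EXB sub-split, piece HFA (helper5, racer copy): the field `F_{p^a}` (`a` the order of `p`
modulo `q`, even) with the involution `x ↦ x ^ (p ^ (a / 2))` and an element `lam` of order `q`
with `lam * σ lam = 1`.
-/

set_option autoImplicit false

namespace Cfsg.Agent.Lib.helper3.Gf

universe u

/-- The order of `p` modulo `q` is positive. -/
theorem h5_order_pos (p q : ℕ) [Fact p.Prime] [Fact q.Prime] (hpq : p ≠ q) :
    0 < orderOf (p : ZMod q) := by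
  have hp : p.Prime := Fact.out
  have hq : q.Prime := Fact.out
  have hp0 : (p : ZMod q) ≠ 0 := by
    intro h
    rw [ZMod.natCast_eq_zero_iff] at h
    exact hpq ((Nat.prime_dvd_prime_iff_eq hq hp).mp h).symm
  have h1 : (p : ZMod q) ^ (q - 1) = 1 := ZMod.pow_card_sub_one_eq_one hp0
  have h2 : orderOf (p : ZMod q) ∣ q - 1 := orderOf_dvd_of_pow_eq_one h1
  exact Nat.pos_of_dvd_of_pos h2 (by have := hq.two_le; omega)

/-- HFA inside a given field with `p ^ a` elements. -/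
theorem h5_hfa_aux (p q : ℕ) [Fact p.Prime] [Fact q.Prime] (hpq : p ≠ q)
    (hev : orderOf (p : ZMod q) % 2 = 0)
    (L : Type u) [Field L] [Finite L] [CharP L p] (hcard : Nat.card L = p ^ orderOf (p : ZMod q)) :
    ∃ (σ : L →+* L) (lam : L),
      (∀ x, σ x = x ^ (p ^ (orderOf (p : ZMod q) / 2))) ∧
      (∀ x, σ (σ x) = x) ∧ lam ^ q = 1 ∧ lam ≠ 1 ∧ lam * σ lam = 1 := by
  classical
  let _ : Fintype L := Fintype.ofFinite L
  have hp : p.Prime := Fact.out
  have hq : q.Prime := Fact.out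
  have hapos : 0 < orderOf (p : ZMod q) := h5_order_pos p q hpq
  obtain ⟨b, hb⟩ : ∃ b, orderOf (p : ZMod q) = 2 * b := ⟨orderOf (p : ZMod q) / 2, by omega⟩
  have hb2 : orderOf (p : ZMod q) / 2 = b := by omega
  have hbpos : 0 < b := by omega
  have hpa : (p : ZMod q) ^ (2 * b) = 1 := by rw [← hb]; exact pow_orderOf_eq_one _
  have hpb : (p : ZMod q) ^ b = -1 := by
    have h1 : ((p : ZMod q) ^ b - 1) * ((p : ZMod q) ^ b + 1) = 0 := by
      have h0 : (p : ZMod q) ^ b * (p : ZMod q) ^ b = 1 := by rw [← pow_add, ← two_mul, hpa]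
      linear_combination h0
    rcases mul_eq_zero.mp h1 with h | h
    · exfalso
      have h2 : (p : ZMod q) ^ b = 1 := sub_eq_zero.mp h
      have h3 : orderOf (p : ZMod q) ∣ b := orderOf_dvd_of_pow_eq_one h2
      have h4 := Nat.le_of_dvd hbpos h3
      omega
    · exact eq_neg_of_add_eq_zero_left h
  have hqdvd1 : q ∣ p ^ b + 1 := by
    rw [← ZMod.natCast_eq_zero_iff]
    push_cast
    rw [hpb]; ring
  have hqdvd2 : q ∣ p ^ (2 * b) - 1 := by
    rw [← ZMod.natCast_eq_zero_iff, Nat.cast_sub (Nat.one_le_pow _ _ hp.pos)]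
    push_cast
    rw [hpa]; ring
  have hcu : Nat.card Lˣ = p ^ (2 * b) - 1 := by rw [Nat.card_units, hcard, hb]
  obtain ⟨u, hu⟩ := exists_prime_orderOf_dvd_card' (G := Lˣ) q (by rw [hcu]; exact hqdvd2)
  have hu1 : u ^ q = 1 := by rw [← hu]; exact pow_orderOf_eq_one u
  have hune : u ≠ 1 := by
    intro h
    rw [h, orderOf_one] at hu
    exact hq.one_lt.ne hu
  have hσ : ∀ x : L, iterateFrobenius L p b x = x ^ (p ^ b) := fun x => rfl
  have hFc : Fintype.card L = p ^ (2 * b) := by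
    rw [← Nat.card_eq_fintype_card, hcard, hb]
  refine ⟨iterateFrobenius L p b, (u : L), ?_, ?_, ?_, ?_, ?_⟩
  · intro x
    rw [hσ, hb2]
  · intro x
    rw [hσ, hσ, ← pow_mul, ← pow_add, ← two_mul, ← hFc]
    exact FiniteField.pow_card x
  · rw [← Units.val_pow_eq_pow_val, hu1, Units.val_one]
  · intro h
    exact hune (Units.val_eq_one.mp h)
  · rw [hσ, ← pow_succ']
    obtain ⟨c, hc⟩ := hqdvd1
    rw [hc, pow_mul, ← Units.val_pow_eq_pow_val, hu1, Units.val_one, one_pow]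

/-- HFA (racer copy, verbatim statement). -/
theorem h5_hfa (p q : ℕ) [Fact p.Prime] [Fact q.Prime] (hpq : p ≠ q) (hev : orderOf (p : ZMod q) % 2 = 0) :
    ∃ (L : Type u) (_ : Field L) (_ : Finite L) (_ : CharP L p) (σ : L →+* L) (lam : L),
      Nat.card L = p ^ orderOf (p : ZMod q) ∧ (∀ x, σ x = x ^ (p ^ (orderOf (p : ZMod q) / 2))) ∧
      (∀ x, σ (σ x) = x) ∧ lam ^ q = 1 ∧ lam ≠ 1 ∧ lam * σ lam = 1 := by
  have hapos : orderOf (p : ZMod q) ≠ 0 := (h5_order_pos p q hpq).ne'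
  have hcard : Nat.card (ULift.{u} (GaloisField p (orderOf (p : ZMod q)))) =
      p ^ orderOf (p : ZMod q) := by
    rw [Nat.card_ulift, GaloisField.card p _ hapos]
  obtain ⟨σ, lam, h1, h2, h3, h4, h5⟩ :=
    h5_hfa_aux p q hpq hev (ULift.{u} (GaloisField p (orderOf (p : ZMod q)))) hcard
  exact ⟨ULift.{u} (GaloisField p (orderOf (p : ZMod q))), inferInstance, inferInstance,
    inferInstance, σ, lam, hcard, h1, h2, h3, h4, h5⟩

end Cfsg.Agent.Lib.helper3.Gf
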