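import Mathlib
import Cfsg.Agent.Lib.helper3.GfDefs
import Cfsg.Agent.Lib.helper22.SV_IRR

/-!
# S4395 piece IRRMATCH (helper5, racer copy): two irreducible `F_p[C_q]`-modules with non-trivial
action are isomorphic up to a power of the generator.
-/

set_option autoImplicit false

namespace Cfsg.Agent.Lib.helper3.Gf

open Polynomial

/-- Two surjections with the same kernel give an isomorphism of the targets. -/
theorem h5_equiv_of_ker_eq {A V₁ V₂ : Type*} [AddCommGroup A] [AddCommGroup V₁] [AddCommGroup V₂]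
    (φ₁ : A →+ V₁) (φ₂ : A →+ V₂) (h₁ : Function.Surjective φ₁) (h₂ : Function.Surjective φ₂)
    (hk : φ₁.ker = φ₂.ker) : ∃ ψ : V₁ ≃+ V₂, ∀ a, ψ (φ₁ a) = φ₂ a := by
  refine ⟨(QuotientAddGroup.quotientKerEquivOfSurjective φ₁ h₁).symm.trans
    ((QuotientAddGroup.quotientAddEquivOfEq hk).trans
      (QuotientAddGroup.quotientKerEquivOfSurjective φ₂ h₂)), ?_⟩
  intro a
  have h : (QuotientAddGroup.quotientKerEquivOfSurjective φ₁ h₁).symm (φ₁ a)
      = (QuotientAddGroup.mk a : A ⧸ φ₁.ker) := by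
    rw [AddEquiv.symm_apply_eq]; rfl
  rw [AddEquiv.trans_apply, AddEquiv.trans_apply, h, QuotientAddGroup.quotientAddEquivOfEq_mk]
  rfl

/-- A non-zero vector of a module without proper invariant subspaces is cyclic, with annihilator
generated by any irreducible polynomial killing the endomorphism. -/
theorem h5_cyc {F : Type*} [Field F] {V : Type*} [AddCommGroup V] [Module F V]
    (R : Module.End F V) (hR : ∀ U : Submodule F V, (∀ v ∈ U, R v ∈ U) → U = ⊥ ∨ U = ⊤)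
    (f : F[X]) (hf : Irreducible f) (hfR : aeval R f = 0) (v : V) (hv : v ≠ 0) :
    (∀ w, ∃ g : F[X], aeval R g v = w) ∧ (∀ g : F[X], aeval R g v = 0 ↔ f ∣ g) := by
  constructor
  · let U : Submodule F V :=
      { carrier := {w | ∃ g : F[X], aeval R g v = w}
        add_mem' := by
          rintro _ _ ⟨g₁, rfl⟩ ⟨g₂, rfl⟩
          exact ⟨g₁ + g₂, by rw [map_add, LinearMap.add_apply]⟩
        zero_mem' := ⟨0, by rw [map_zero, LinearMap.zero_apply]⟩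
        smul_mem' := by
          rintro c _ ⟨g, rfl⟩
          exact ⟨c • g, by rw [map_smul, LinearMap.smul_apply]⟩ }
    have hU : U = ⊥ ∨ U = ⊤ := by
      apply hR
      rintro _ ⟨g, rfl⟩
      refine ⟨X * g, ?_⟩
      rw [map_mul, aeval_X, Module.End.mul_apply]
    have hvU : v ∈ U := ⟨1, by rw [map_one, Module.End.one_apply]⟩
    rcases hU with hU | hU
    · rw [hU, Submodule.mem_bot] at hvU
      exact absurd hvU hv
    · intro w
      have hw : w ∈ U := by rw [hU]; exact Submodule.mem_top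
      exact hw
  · intro g
    constructor
    · intro hg
      by_contra hnd
      have hcop : IsCoprime f g := (EuclideanDomain.dvd_or_coprime f g hf).resolve_left hnd
      obtain ⟨a, b, hab⟩ := hcop
      apply hv
      have h1 : aeval R (a * f + b * g) v = v := by
        rw [hab, map_one, Module.End.one_apply]
      rw [map_add, map_mul, map_mul, hfR, mul_zero, zero_add, Module.End.mul_apply, hg,
        map_zero] at h1
      exact h1.symm
    · rintro ⟨c, rfl⟩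
      rw [map_mul, hfR, zero_mul, LinearMap.zero_apply]

/-- The linear form of IRRMATCH. -/
theorem h5_match_lin {F : Type*} [Field F] {V₁ V₂ : Type*} [AddCommGroup V₁] [Module F V₁]
    [Finite V₁] [AddCommGroup V₂] [Module F V₂] [Finite V₂] (q : ℕ) [Fact q.Prime]
    (R₁ : Module.End F V₁) (R₂ : Module.End F V₂)
    (hN₁ : Nontrivial V₁) (hN₂ : Nontrivial V₂)
    (hR₁ : ∀ U : Submodule F V₁, (∀ v ∈ U, R₁ v ∈ U) → U = ⊥ ∨ U = ⊤)
    (hR₂ : ∀ U : Submodule F V₂, (∀ v ∈ U, R₂ v ∈ U) → U = ⊥ ∨ U = ⊤)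
    (hq₁ : R₁ ^ q = 1) (hq₂ : R₂ ^ q = 1) (hne₁ : R₁ ≠ 1) (hne₂ : R₂ ≠ 1) :
    ∃ (m : ℕ) (ψ : V₁ ≃+ V₂), ¬ q ∣ m ∧ ∀ v : V₁, ψ (R₁ v) = (R₂ ^ m) (ψ v) := by
  classical
  have hqp : q.Prime := Fact.out
  have : NeZero q := ⟨hqp.ne_zero⟩
  have hirr₁ : Irreducible (minpoly F R₁) :=
    Cfsg.Agent.Lib.helper45.SV.h22_minpoly_irreducible R₁ hN₁ hR₁
  have hirr₂ : Irreducible (minpoly F R₂) :=
    Cfsg.Agent.Lib.helper45.SV.h22_minpoly_irreducible R₂ hN₂ hR₂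
  have hdvd₁ : minpoly F R₁ ∣ X ^ q - 1 :=
    minpoly.dvd F R₁ (by rw [map_sub, map_pow, aeval_X, map_one, hq₁, sub_self])
  have hdvd₂ : minpoly F R₂ ∣ X ^ q - 1 :=
    minpoly.dvd F R₂ (by rw [map_sub, map_pow, aeval_X, map_one, hq₂, sub_self])
  have hnd₁ : ¬ minpoly F R₁ ∣ X - 1 := by
    rintro ⟨c, hc⟩
    have h0 : aeval R₁ (X - 1 : F[X]) = 0 := by
      rw [hc, map_mul, minpoly.aeval, zero_mul]
    rw [map_sub, aeval_X, map_one, sub_eq_zero] at h0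
    exact hne₁ h0
  have hnd₂ : ¬ minpoly F R₂ ∣ X - 1 := by
    rintro ⟨c, hc⟩
    have h0 : aeval R₂ (X - 1 : F[X]) = 0 := by
      rw [hc, map_mul, minpoly.aeval, zero_mul]
    rw [map_sub, aeval_X, map_one, sub_eq_zero] at h0
    exact hne₂ h0
  -- the key: `f₁ (R₂ ^ m) = 0` for some `0 < m < q`
  have key : ∃ m : ℕ, 0 < m ∧ m < q ∧ minpoly F R₂ ∣ (minpoly F R₁).comp (X ^ m) := by
    have : Fact (Irreducible (minpoly F R₂)) := ⟨hirr₂⟩
    have hζq : (AdjoinRoot.root (minpoly F R₂)) ^ q = 1 := by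
      have h0 : AdjoinRoot.mk (minpoly F R₂) (X ^ q - 1) = 0 := AdjoinRoot.mk_eq_zero.mpr hdvd₂
      rw [map_sub, map_pow, AdjoinRoot.mk_X, map_one, sub_eq_zero] at h0
      exact h0
    have hζ1 : AdjoinRoot.root (minpoly F R₂) ≠ 1 := by
      intro h
      apply hnd₂
      rw [← AdjoinRoot.mk_eq_zero, map_sub, AdjoinRoot.mk_X, map_one, h, sub_self]
    have hprim : IsPrimitiveRoot (AdjoinRoot.root (minpoly F R₂)) q := by
      have h := orderOf_eq_prime hζq hζ1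
      have h2 := IsPrimitiveRoot.orderOf (AdjoinRoot.root (minpoly F R₂))
      rwa [h] at h2
    have hsp : Splits (X ^ q - C (1 : AdjoinRoot (minpoly F R₂))) := X_pow_sub_one_splits hprim
    have hmapdvd : (minpoly F R₁).map (algebraMap F (AdjoinRoot (minpoly F R₂))) ∣
        X ^ q - C (1 : AdjoinRoot (minpoly F R₂)) := by
      have h := Polynomial.map_dvd (algebraMap F (AdjoinRoot (minpoly F R₂))) hdvd₁
      rwa [Polynomial.map_sub, Polynomial.map_pow, Polynomial.map_X, Polynomial.map_one,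
        ← C_1] at h
    have hsp₁ : Splits ((minpoly F R₁).map (algebraMap F (AdjoinRoot (minpoly F R₂)))) :=
      hsp.of_dvd (X_pow_sub_C_ne_zero hqp.pos _) hmapdvd
    have hdeg : degree ((minpoly F R₁).map (algebraMap F (AdjoinRoot (minpoly F R₂)))) ≠ 0 := by
      rw [degree_map]
      exact (degree_pos_of_irreducible hirr₁).ne'
    obtain ⟨x, hx⟩ := hsp₁.exists_eval_eq_zero hdeg
    rw [eval_map] at hx
    have hxq : x ^ q = 1 := by
      obtain ⟨c, hc⟩ := hdvd₁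
      have h := congrArg (eval₂ (algebraMap F (AdjoinRoot (minpoly F R₂))) x) hc
      rw [eval₂_mul, hx, zero_mul, eval₂_sub, eval₂_pow, eval₂_X, eval₂_one, sub_eq_zero] at h
      exact h
    obtain ⟨m, hm, hmx⟩ := hprim.eq_pow_of_pow_eq_one hxq
    refine ⟨m, ?_, hm, ?_⟩
    · rcases Nat.eq_zero_or_pos m with h0 | h0
      · exfalso
        rw [h0, pow_zero] at hmx
        rw [← hmx, eval₂_at_one] at hx
        have hx' : eval 1 (minpoly F R₁) = 0 :=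
          (algebraMap F (AdjoinRoot (minpoly F R₂))).injective (by rw [hx, map_zero])
        have hd : (X - C (1 : F)) ∣ minpoly F R₁ := dvd_iff_isRoot.mpr hx'
        have hd' : minpoly F R₁ ∣ X - C (1 : F) :=
          (irreducible_X_sub_C (1 : F)).dvd_symm hirr₁ hd
        rw [C_1] at hd'
        exact hnd₁ hd'
      · exact h0
    · rw [← AdjoinRoot.mk_eq_zero, ← AdjoinRoot.aeval_eq, aeval_comp, map_pow, aeval_X, hmx,
        aeval_def]
      exact hx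
  obtain ⟨m, hm0, hmq, hmdvd⟩ := key
  -- `f₁ (R₂ ^ m) = 0`
  have hS0 : aeval (R₂ ^ m) (minpoly F R₁) = 0 := by
    have h1 : aeval R₂ ((minpoly F R₁).comp (X ^ m)) = 0 := by
      obtain ⟨c, hc⟩ := hmdvd
      rw [hc, map_mul, minpoly.aeval, zero_mul]
    rwa [aeval_comp, map_pow, aeval_X] at h1
  -- `R₂` is a power of `R₂ ^ m`
  have hcop : Nat.Coprime m q :=
    (Nat.coprime_comm.mp ((Nat.Prime.coprime_iff_not_dvd hqp).mpr
      (Nat.not_dvd_of_pos_of_lt hm0 hmq)))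
  obtain ⟨k, -, hk⟩ := Nat.exists_mul_mod_eq_one_of_coprime hcop hqp.one_lt
  have hpow : (R₂ ^ m) ^ k = R₂ := by
    rw [← pow_mul, ← Nat.div_add_mod (m * k) q, hk, pow_add, pow_mul, hq₂, one_pow, one_mul,
      pow_one]
  have hS : ∀ U : Submodule F V₂, (∀ v ∈ U, (R₂ ^ m) v ∈ U) → U = ⊥ ∨ U = ⊤ := by
    intro U hU
    apply hR₂
    intro v hv
    have hiter : ∀ j : ℕ, ∀ w ∈ U, ((R₂ ^ m) ^ j) w ∈ U := by
      intro j
      induction j with
      | zero => intro w hw; rw [pow_zero, Module.End.one_apply]; exact hw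
      | succ j ih =>
        intro w hw
        rw [pow_succ, Module.End.mul_apply]
        exact ih _ (hU w hw)
    have := hiter k v hv
    rwa [hpow] at this
  obtain ⟨v₁, hv₁⟩ := exists_ne (0 : V₁)
  obtain ⟨v₂, hv₂⟩ := exists_ne (0 : V₂)
  obtain ⟨hs₁, hk₁⟩ := h5_cyc R₁ hR₁ (minpoly F R₁) hirr₁ (minpoly.aeval F R₁) v₁ hv₁
  obtain ⟨hs₂, hk₂⟩ := h5_cyc (R₂ ^ m) hS (minpoly F R₁) hirr₁ hS0 v₂ hv₂
  let φ₁ : F[X] →+ V₁ := AddMonoidHom.mk' (fun g => aeval R₁ g v₁)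
    (fun a b => by rw [map_add, LinearMap.add_apply])
  let φ₂ : F[X] →+ V₂ := AddMonoidHom.mk' (fun g => aeval (R₂ ^ m) g v₂)
    (fun a b => by rw [map_add, LinearMap.add_apply])
  have hφ₁ : ∀ g, φ₁ g = aeval R₁ g v₁ := fun g => rfl
  have hφ₂ : ∀ g, φ₂ g = aeval (R₂ ^ m) g v₂ := fun g => rfl
  have hker : φ₁.ker = φ₂.ker := by
    ext g
    rw [AddMonoidHom.mem_ker, AddMonoidHom.mem_ker, hφ₁, hφ₂, hk₁, hk₂]
  obtain ⟨ψ, hψ⟩ := h5_equiv_of_ker_eq φ₁ φ₂ hs₁ hs₂ hker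
  refine ⟨m, ψ, Nat.not_dvd_of_pos_of_lt hm0 hmq, ?_⟩
  intro v
  obtain ⟨g, rfl⟩ := hs₁ v
  have e1 : R₁ (aeval R₁ g v₁) = φ₁ (X * g) := by
    rw [hφ₁, map_mul, aeval_X, Module.End.mul_apply]
  have e2 : aeval R₁ g v₁ = φ₁ g := rfl
  rw [e1, hψ, e2, hψ, hφ₂, hφ₂, map_mul, aeval_X, Module.End.mul_apply]

/-- IRRMATCH with the `ZMod p`-module structures as instances. -/
theorem h5_irr_match_aux (p q : ℕ) [Fact p.Prime] [Fact q.Prime] {V₁ V₂ : Type*}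
    [AddCommGroup V₁] [Finite V₁] [AddCommGroup V₂] [Finite V₂]
    [Module (ZMod p) V₁] [Module (ZMod p) V₂]
    (T₁ : V₁ ≃+ V₁) (T₂ : V₂ ≃+ V₂) (h₁ : Irr p q T₁) (h₂ : Irr p q T₂) :
    ∃ (m : ℕ) (ψ : V₁ ≃+ V₂), ¬ q ∣ m ∧ ∀ v : V₁, ψ (T₁ v) = (⇑T₂)^[m] (ψ v) := by
  obtain ⟨R₁, hR₁c⟩ : ∃ R₁ : V₁ →ₗ[ZMod p] V₁, ∀ v, R₁ v = T₁ v :=
    ⟨AddMonoidHom.toZModLinearMap p T₁.toAddMonoidHom, fun v => rfl⟩
  obtain ⟨R₂, hR₂c⟩ : ∃ R₂ : V₂ →ₗ[ZMod p] V₂, ∀ v, R₂ v = T₂ v :=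
    ⟨AddMonoidHom.toZModLinearMap p T₂.toAddMonoidHom, fun v => rfl⟩
  have hf₁ : (⇑R₁ : V₁ → V₁) = ⇑T₁ := funext hR₁c
  have hf₂ : (⇑R₂ : V₂ → V₂) = ⇑T₂ := funext hR₂c
  have hit₁ : ∀ (j : ℕ) (v : V₁), (R₁ ^ j) v = (⇑T₁)^[j] v := by
    intro j v
    rw [Module.End.pow_apply, hf₁]
  have hit₂ : ∀ (j : ℕ) (v : V₂), (R₂ ^ j) v = (⇑T₂)^[j] v := by
    intro j v
    rw [Module.End.pow_apply, hf₂]
  have hN₁ : Nontrivial V₁ := by
    obtain ⟨v, hv⟩ := h₁.ne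
    exact ⟨⟨T₁ v, v, hv⟩⟩
  have hN₂ : Nontrivial V₂ := by
    obtain ⟨v, hv⟩ := h₂.ne
    exact ⟨⟨T₂ v, v, hv⟩⟩
  have hsub₁ : ∀ U : Submodule (ZMod p) V₁, (∀ v ∈ U, R₁ v ∈ U) → U = ⊥ ∨ U = ⊤ := by
    intro U hU
    rcases h₁.irr U.toAddSubgroup (fun w hw => by rw [← hR₁c]; exact hU w hw) with h | h
    · left
      rw [Submodule.eq_bot_iff]
      intro x hx
      have hx' : x ∈ U.toAddSubgroup := hx
      rw [h] at hx'
      exact AddSubgroup.mem_bot.mp hx'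
    · right
      rw [Submodule.eq_top_iff']
      intro x
      have hx' : x ∈ U.toAddSubgroup := by rw [h]; exact AddSubgroup.mem_top x
      exact hx'
  have hsub₂ : ∀ U : Submodule (ZMod p) V₂, (∀ v ∈ U, R₂ v ∈ U) → U = ⊥ ∨ U = ⊤ := by
    intro U hU
    rcases h₂.irr U.toAddSubgroup (fun w hw => by rw [← hR₂c]; exact hU w hw) with h | h
    · left
      rw [Submodule.eq_bot_iff]
      intro x hx
      have hx' : x ∈ U.toAddSubgroup := hx
      rw [h] at hx'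
      exact AddSubgroup.mem_bot.mp hx'
    · right
      rw [Submodule.eq_top_iff']
      intro x
      have hx' : x ∈ U.toAddSubgroup := by rw [h]; exact AddSubgroup.mem_top x
      exact hx'
  have hq₁ : R₁ ^ q = 1 := by
    apply LinearMap.ext
    intro v
    rw [hit₁, h₁.pow, Module.End.one_apply]
  have hq₂ : R₂ ^ q = 1 := by
    apply LinearMap.ext
    intro v
    rw [hit₂, h₂.pow, Module.End.one_apply]
  have hne₁ : R₁ ≠ 1 := by
    intro h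
    obtain ⟨v, hv⟩ := h₁.ne
    apply hv
    rw [← hR₁c, h, Module.End.one_apply]
  have hne₂ : R₂ ≠ 1 := by
    intro h
    obtain ⟨v, hv⟩ := h₂.ne
    apply hv
    rw [← hR₂c, h, Module.End.one_apply]
  obtain ⟨m, ψ, hm, hψ⟩ := h5_match_lin q R₁ R₂ hN₁ hN₂ hsub₁ hsub₂ hq₁ hq₂ hne₁ hne₂
  refine ⟨m, ψ, hm, ?_⟩
  intro v
  rw [← hR₁c, hψ, hit₂]

/-- IRRMATCH (racer copy, verbatim statement). -/
theorem h5_irr_match (p q : ℕ) [Fact p.Prime] [Fact q.Prime] (hpq : p ≠ q) {V₁ V₂ : Type*}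
    [AddCommGroup V₁] [Finite V₁] [AddCommGroup V₂] [Finite V₂]
    (T₁ : V₁ ≃+ V₁) (T₂ : V₂ ≃+ V₂) (h₁ : Irr p q T₁) (h₂ : Irr p q T₂) :
    ∃ (m : ℕ) (ψ : V₁ ≃+ V₂), ¬ q ∣ m ∧ ∀ v : V₁, ψ (T₁ v) = (⇑T₂)^[m] (ψ v) :=
  @h5_irr_match_aux p q _ _ V₁ V₂ _ _ _ _ (AddCommGroup.zmodModule h₁.exp)
    (AddCommGroup.zmodModule h₂.exp) T₁ T₂ h₁ h₂

end Cfsg.Agent.Lib.helper3.Gf
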