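import Mathlib
import Cfsg.Prelude.Def_Local
import Cfsg.Prelude.Def_Solvable
import Cfsg.Agent.Lib.helper40.HHGL
import Cfsg.Agent.Lib.helper38.HHBMain

/-!
# Dual Frattini module computations for the two-layer Hall–Higman argument

For a normal subgroup `R` of `G` and `a : G`, the element `(a r)^k (a^k)⁻¹` of `R` is the
ordered product of the conjugates `a^i r a^(-i)`, `1 ≤ i ≤ k`; on the dual module
`Hom(R, F_p)` this gives `A (A - 1)^(k - 1)` for `k` a power of `p`, `A = drep a⁻¹`.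
-/

set_option autoImplicit false

namespace Cfsg.Agent.Lib.helper5

open Cfsg.Agent.Lib.helper3 Cfsg.Agent.Lib.helper40.HHD Cfsg.Agent.Lib.helper38.HHB

section

variable {G : Type*} [Group G] (p : ℕ) (R : Subgroup G) [hR : R.Normal]

/-- `(a r)^k (a^k)⁻¹` lies in `R` and its value under `f` is a sum of translates. -/
theorem tl_prodconj (a : G) (r : R) (k : ℕ) :
    ∀ f : Additive ↥R →+ ZMod p, ∃ w : R, (w : G) = (a * r) ^ k * (a ^ k)⁻¹ ∧
      f (Additive.ofMul w) = ∑ i ∈ Finset.range k, ((drep p R a⁻¹) ^ (i + 1)) f (Additive.ofMul r) := by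
  induction k with
  | zero =>
    intro f
    refine ⟨1, by simp, ?_⟩
    simp
  | succ k ih =>
    intro f
    obtain ⟨w, hw, hf⟩ := ih (drep p R a⁻¹ f)
    refine ⟨MulAut.conjNormal a (r * w), ?_, ?_⟩
    · rw [MulAut.conjNormal_apply, Subgroup.coe_mul, hw, pow_succ' (a * (r : G)) k, pow_succ' a k]
      group
    · have h1 : f (Additive.ofMul (MulAut.conjNormal a (r * w)))
          = drep p R a⁻¹ f (Additive.ofMul (r * w)) := by
        rw [drep_apply, inv_inv]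
      rw [h1, ofMul_mul, map_add, hf, Finset.sum_range_succ']
      have h2 : ∀ i : ℕ, ((drep p R a⁻¹) ^ (i + 1)) (drep p R a⁻¹ f)
          = ((drep p R a⁻¹) ^ (i + 1 + 1)) f := by
        intro i
        rw [pow_succ _ (i + 1), Module.End.mul_apply]
      simp only [h2, zero_add, pow_one]
      rw [add_comm]

variable [Fact p.Prime]

/-- For `k = p^j`: the value of `f` on `(a r)^k (a^k)⁻¹`. -/
theorem tl_prodconj_pow (a : G) (r : R) (j : ℕ) (f : Additive ↥R →+ ZMod p) :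
    ∃ w : R, (w : G) = (a * r) ^ p ^ j * (a ^ p ^ j)⁻¹ ∧
      f (Additive.ofMul w)
        = (drep p R a⁻¹ * (drep p R a⁻¹ - 1) ^ (p ^ j - 1)) f (Additive.ofMul r) := by
  obtain ⟨w, hw, hf⟩ := tl_prodconj p R a r (p ^ j) f
  refine ⟨w, hw, ?_⟩
  rw [hf, sub_one_pow_pred, Finset.mul_sum, LinearMap.sum_apply, AddMonoidHom.finsetSum_apply]
  apply Finset.sum_congr rfl
  intro i _
  rw [pow_succ']

/-- If `s` and all `s r` (`r ∈ R`) have `p^n`-th power `1` then `drep s⁻¹` is exceptional. -/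
theorem tl_exceptional (s : G) (n : ℕ) (hs : s ^ p ^ n = 1)
    (hsr : ∀ r ∈ R, (s * r) ^ p ^ n = 1) : (drep p R s⁻¹ - 1) ^ (p ^ n - 1) = 0 := by
  have key : drep p R s⁻¹ * (drep p R s⁻¹ - 1) ^ (p ^ n - 1) = 0 := by
    apply LinearMap.ext
    intro f
    apply AddMonoidHom.ext
    intro x
    obtain ⟨r, rfl⟩ : ∃ r : R, Additive.ofMul r = x := ⟨Additive.toMul x, rfl⟩
    obtain ⟨w, hw, hf⟩ := tl_prodconj_pow p R s r n f
    rw [hs, hsr r r.2] at hw
    have hw1 : w = 1 := Subtype.ext (by rw [hw]; simp)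
    rw [← hf, hw1]
    simp
  have h2 := congrArg (fun X => drep p R s * X) key
  simp only [mul_zero] at h2
  rwa [← mul_assoc, ← map_mul, mul_inv_cancel, map_one, one_mul] at h2

/-- If `a^k` commutes with all `(a r)^k (a^k)⁻¹`, `k = p^j`, then `(drep a⁻¹ - 1)^(2k-1) = 0`. -/
theorem tl_commute (a : G) (j : ℕ)
    (hc : ∀ r ∈ R, a ^ p ^ j * ((a * r) ^ p ^ j * (a ^ p ^ j)⁻¹)
      = ((a * r) ^ p ^ j * (a ^ p ^ j)⁻¹) * a ^ p ^ j) :
    (drep p R a⁻¹ - 1) ^ (2 * p ^ j - 1) = 0 := by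
  have hpos : 0 < p ^ j := pow_pos (Fact.out : p.Prime).pos j
  have key : drep p R a⁻¹ * (drep p R a⁻¹ - 1) ^ (2 * p ^ j - 1) = 0 := by
    apply LinearMap.ext
    intro f
    apply AddMonoidHom.ext
    intro x
    obtain ⟨r, rfl⟩ : ∃ r : R, Additive.ofMul r = x := ⟨Additive.toMul x, rfl⟩
    obtain ⟨w, hw, hf⟩ := tl_prodconj_pow p R a r j ((drep p R (a ^ p ^ j)⁻¹ - 1) f)
    have hd : dlt R (a ^ p ^ j)⁻¹ w = 1 := by
      apply Subtype.ext
      rw [dlt_coe, hw, inv_inv]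
      have h1 := hc r r.2
      simp only [Subgroup.coe_one]
      calc ((a * (r : G)) ^ p ^ j * (a ^ p ^ j)⁻¹)⁻¹ * a ^ p ^ j
            * ((a * (r : G)) ^ p ^ j * (a ^ p ^ j)⁻¹) * (a ^ p ^ j)⁻¹
          = ((a * (r : G)) ^ p ^ j * (a ^ p ^ j)⁻¹)⁻¹
            * (a ^ p ^ j * ((a * (r : G)) ^ p ^ j * (a ^ p ^ j)⁻¹)) * (a ^ p ^ j)⁻¹ := by group
        _ = 1 := by rw [h1]; group
    rw [drep_sub_one_apply, hd] at hf
    have e1 : drep p R (a ^ p ^ j)⁻¹ - 1 = (drep p R a⁻¹ - 1) ^ p ^ j := by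
      rw [sub_one_pow_char_pow, ← map_pow, inv_pow]
    have e2 : drep p R a⁻¹ * (drep p R a⁻¹ - 1) ^ (2 * p ^ j - 1)
        = (drep p R a⁻¹ * (drep p R a⁻¹ - 1) ^ (p ^ j - 1)) * (drep p R a⁻¹ - 1) ^ p ^ j := by
      rw [mul_assoc, ← pow_add]
      congr 2
      omega
    rw [e2, Module.End.mul_apply, ← e1, ← hf]
    simp
  have h2 := congrArg (fun X => drep p R a * X) key
  simp only [mul_zero] at h2
  rwa [← mul_assoc, ← map_mul, mul_inv_cancel, map_one, one_mul] at h2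

end

end Cfsg.Agent.Lib.helper5
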