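import Mathlib
import Cfsg.Prelude.Def_Local
import Cfsg.Prelude.Def_Solvable
import Cfsg.Agent.Lib.helper5.HHTwoLayerA
import Cfsg.Agent.Lib.helper66.PLengthSeries
import Cfsg.Agent.Lib.helper55.Basic

/-!
# The two-layer Hall–Higman lemma (from the commuting lemma for exceptional elements)

`two_layer_of_kc`: `p` odd, `G` `p`-solvable with `O_{p'}(G) = 1` and all `p`-elements of
order dividing `p^n`; then `g^(p^(n-1)) ∈ O_{p,p',p}(G)` for every `p`-element `g`.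
-/

set_option autoImplicit false

namespace Cfsg.Agent.Lib.helper5

open Cfsg.Agent.Lib.helper3 Cfsg.Agent.Lib.helper40.HHD Cfsg.Agent.Lib.helper38.HHB
open Cfsg.Agent.Lib.helper66

universe u

/-- The commuting lemma for exceptional elements, as a hypothesis. -/
def KCHyp (p : ℕ) [Fact p.Prime] : Prop :=
  ∀ (H : Type u) [Group H] [Finite H] (V : Type u) [AddCommGroup V] [Module (ZMod p) V]
    [FiniteDimensional (ZMod p) V] (ρ : H →* Module.End (ZMod p) V), Function.Injective ρ →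
    Cfsg.IsPSolvable p H → Cfsg.pCore p H = ⊥ → ∀ (x' x'' : H),
    IsPGroup p (Subgroup.closure ({x', x''} : Set H)) → ∀ n : ℕ, 1 ≤ n → x' ^ p ^ n = 1 →
    x'' ^ p ^ n = 1 → (ρ x' - 1) ^ (p ^ n - 1) = 0 → (ρ x'' - 1) ^ (p ^ n - 1) = 0 →
    x' ^ p ^ (n - 1) * x'' ^ p ^ (n - 1) = x'' ^ p ^ (n - 1) * x' ^ p ^ (n - 1)

/-- The faithful dual Frattini representation of `G / O_p(G)`. -/
theorem exists_dual_rep {G : Type u} [Group G] [Finite G] {p : ℕ} [Fact p.Prime]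
    (hsol : Cfsg.IsPSolvable p G) (hOp' : Cfsg.pPrimeCore p G = ⊥) :
    ∃ ρ : G ⧸ Cfsg.pCore p G →*
        Module.End (ZMod p) (Additive ↥(Cfsg.pCore p G) →+ ZMod p),
      Function.Injective ρ ∧
      ∀ g : G, ρ (QuotientGroup.mk' (Cfsg.pCore p G) g) = drep p (Cfsg.pCore p G) g := by
  have hRp : IsPGroup p (Cfsg.pCore p G) := Cfsg.Agent.Lib.helper40.pCore_isPGroup p G
  have hCR : Subgroup.centralizer (Cfsg.pCore p G : Set G) ≤ Cfsg.pCore p G :=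
    Cfsg.Agent.Lib.helper38.centralizer_pCore_le_of_isPSolvable hsol hOp'
  have hker : (drep p (Cfsg.pCore p G)).ker ≤ Cfsg.pCore p G :=
    Cfsg.Agent.Lib.helper40.le_pCore _ (MonoidHom.normal_ker _)
      (drep_ker_isPGroup p (Cfsg.pCore p G) hRp hCR)
  have hle : Cfsg.pCore p G ≤ (drep p (Cfsg.pCore p G)).ker := by
    intro g hg
    rw [MonoidHom.mem_ker]
    exact drep_eq_one_of_mem p (Cfsg.pCore p G) hg
  refine ⟨QuotientGroup.lift (Cfsg.pCore p G) (drep p (Cfsg.pCore p G)) hle, ?_, fun g => rfl⟩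
  rw [injective_iff_map_eq_one]
  intro x hx
  obtain ⟨g, rfl⟩ := QuotientGroup.mk'_surjective (Cfsg.pCore p G) x
  rw [QuotientGroup.mk'_apply, QuotientGroup.eq_one_iff]
  exact hker (MonoidHom.mem_ker.mpr hx)

/-- `O_{p,p',p}(G) ≤ U_4(G)`. -/
theorem comap_comap_le_four {G : Type u} [Group G] [Finite G] {p : ℕ} [Fact p.Prime] :
    ((Cfsg.pCore p ((G ⧸ Cfsg.pCore p G) ⧸ Cfsg.pPrimeCore p (G ⧸ Cfsg.pCore p G))).comap
        (QuotientGroup.mk' (Cfsg.pPrimeCore p (G ⧸ Cfsg.pCore p G)))).comap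
      (QuotientGroup.mk' (Cfsg.pCore p G)) ≤ (Cfsg.upperPSeries p G 4).1 := by
  have hp : p.Prime := Fact.out
  obtain ⟨R, hR⟩ : ∃ R : Subgroup G, R = Cfsg.pCore p G := ⟨_, rfl⟩
  have hπ := QuotientGroup.mk'_surjective (Cfsg.pCore p G)
  have hπ₂ := QuotientGroup.mk'_surjective (Cfsg.pPrimeCore p (G ⧸ Cfsg.pCore p G))
  -- step 2
  have h2 : Cfsg.pCore p G ≤ (Cfsg.upperPSeries p G 2).1 := by
    apply le_upperPSeries_succ p 1 ⊥ (Cfsg.pCore p G) bot_le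
    rw [isStepFactor_of_not_even (by decide), Subgroup.relIndex_bot_left]
    exact IsPGroup.iff_card.mp (Cfsg.Agent.Lib.helper40.pCore_isPGroup p G)
  -- step 3
  have h3 : (Cfsg.pPrimeCore p (G ⧸ Cfsg.pCore p G)).comap (QuotientGroup.mk' (Cfsg.pCore p G))
      ≤ (Cfsg.upperPSeries p G 3).1 := by
    apply le_upperPSeries_succ p 2 (Cfsg.pCore p G) _ h2
    rw [isStepFactor_of_even (by decide), ← card_map_mk'_eq_relIndex,
      Subgroup.map_comap_eq_self_of_surjective hπ]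
    exact Cfsg.Agent.Lib.helper40.pPrimeCore_card_coprime p _
  -- step 4
  apply le_upperPSeries_succ p 3 _ _ h3
  rw [isStepFactor_of_not_even (by decide), Subgroup.relIndex_comap,
    Subgroup.map_comap_eq_self_of_surjective hπ, ← card_map_mk'_eq_relIndex,
    Subgroup.map_comap_eq_self_of_surjective hπ₂]
  exact IsPGroup.iff_card.mp (Cfsg.Agent.Lib.helper40.pCore_isPGroup p _)

/-- **Two-layer lemma**, from the commuting lemma. -/
theorem two_layer_of_kc {G : Type u} [Group G] [Finite G] {p : ℕ} [Fact p.Prime] (hp2 : p ≠ 2)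
    (hkc : KCHyp.{u} p) (hsol : Cfsg.IsPSolvable p G) (hOp' : Cfsg.pPrimeCore p G = ⊥)
    (n : ℕ) (hn : 1 ≤ n) (hexp : ∀ g : G, (∃ k : ℕ, g ^ p ^ k = 1) → g ^ p ^ n = 1) :
    ∀ g : G, (∃ k : ℕ, g ^ p ^ k = 1) → g ^ p ^ (n - 1) ∈ (Cfsg.upperPSeries p G 4).1 := by
  classical
  have hp : p.Prime := Fact.out
  intro g hg
  apply comap_comap_le_four
  rw [Subgroup.mem_comap, Subgroup.mem_comap]
  by_contra hnot
  -- notation
  obtain ⟨π, hπdef⟩ : ∃ π : G →* G ⧸ Cfsg.pCore p G, π = QuotientGroup.mk' (Cfsg.pCore p G) :=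
    ⟨_, rfl⟩
  obtain ⟨π₂, hπ₂def⟩ : ∃ π₂ : G ⧸ Cfsg.pCore p G →*
      (G ⧸ Cfsg.pCore p G) ⧸ Cfsg.pPrimeCore p (G ⧸ Cfsg.pCore p G),
      π₂ = QuotientGroup.mk' (Cfsg.pPrimeCore p (G ⧸ Cfsg.pCore p G)) := ⟨_, rfl⟩
  rw [← hπdef, ← hπ₂def] at hnot
  have hπ : Function.Surjective π := by rw [hπdef]; exact QuotientGroup.mk'_surjective _
  have hπ₂ : Function.Surjective π₂ := by rw [hπ₂def]; exact QuotientGroup.mk'_surjective _
  -- a Sylow subgroup containing g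
  obtain ⟨k₀, hk₀⟩ := hg
  have hzp : IsPGroup p (Subgroup.zpowers g) := by
    rintro ⟨y, hy⟩
    obtain ⟨j, rfl⟩ := Subgroup.mem_zpowers_iff.mp hy
    refine ⟨k₀, Subtype.ext ?_⟩
    show (g ^ j) ^ p ^ k₀ = 1
    rw [← zpow_natCast, ← zpow_mul, mul_comm, zpow_mul, zpow_natCast, hk₀, one_zpow]
  obtain ⟨S, hS⟩ := hzp.exists_le_sylow
  have hgS : g ∈ (S : Subgroup G) := hS (Subgroup.mem_zpowers g)
  have hSexp : ∀ s ∈ (S : Subgroup G), s ^ p ^ n = 1 := by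
    intro s hs
    apply hexp
    obtain ⟨k, hk⟩ := S.isPGroup' ⟨s, hs⟩
    exact ⟨k, by have := congrArg Subtype.val hk; simpa using this⟩
  have hRS : Cfsg.pCore p G ≤ (S : Subgroup G) := Cfsg.Agent.Lib.helper55.pCore_le_sylow S
  -- first layer
  obtain ⟨ρ, hρinj, hρ⟩ := exists_dual_rep hsol hOp'
  have hsolH : Cfsg.IsPSolvable p (G ⧸ Cfsg.pCore p G) :=
    Cfsg.Agent.Lib.helper38.isPSolvable_quotient (Cfsg.pCore p G) hsol
  have hOpH : Cfsg.pCore p (G ⧸ Cfsg.pCore p G) = ⊥ :=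
    Cfsg.Agent.Lib.helper51.pCore_quotient_pCore_eq_bot p
  have hfin : Finite (Additive ↥(Cfsg.pCore p G) →+ ZMod p) :=
    Finite.of_injective (fun f => (f : Additive ↥(Cfsg.pCore p G) → ZMod p))
      DFunLike.coe_injective
  have hfd : FiniteDimensional (ZMod p) (Additive ↥(Cfsg.pCore p G) →+ ZMod p) :=
    Module.Finite.of_finite
  have hexc : ∀ s ∈ (S : Subgroup G), (ρ (π s) - 1) ^ (p ^ n - 1) = 0 := by
    intro s hs
    rw [hπdef, hρ]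
    have h1 := tl_exceptional p (Cfsg.pCore p G) s⁻¹ n
      (hSexp _ ((S : Subgroup G).inv_mem hs))
      (fun r hr => hSexp _ ((S : Subgroup G).mul_mem ((S : Subgroup G).inv_mem hs) (hRS hr)))
    rwa [inv_inv] at h1
  have hcomm : ∀ u ∈ (S : Subgroup G),
      π g ^ p ^ (n - 1) * π (g * u) ^ p ^ (n - 1) = π (g * u) ^ p ^ (n - 1) * π g ^ p ^ (n - 1) := by
    intro u hu
    have hguS : g * u ∈ (S : Subgroup G) := (S : Subgroup G).mul_mem hgS hu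
    have hD : IsPGroup p (Subgroup.closure ({π g, π (g * u)} : Set (G ⧸ Cfsg.pCore p G))) := by
      have h1 : Subgroup.closure ({π g, π (g * u)} : Set (G ⧸ Cfsg.pCore p G))
          ≤ (S : Subgroup G).map π := by
        rw [Subgroup.closure_le]
        intro y hy
        rcases hy with rfl | rfl
        · exact Subgroup.mem_map_of_mem π hgS
        · exact Subgroup.mem_map_of_mem π hguS
      exact (S.isPGroup'.map π).to_le h1
    exact hkc _ _ ρ hρinj hsolH hOpH (π g) (π (g * u)) hD n hn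
      (by rw [← map_pow, hSexp g hgS, map_one]) (by rw [← map_pow, hSexp _ hguS, map_one])
      (hexc g hgS) (hexc _ hguS)
  -- second layer
  have hsolH₂ : Cfsg.IsPSolvable p
      ((G ⧸ Cfsg.pCore p G) ⧸ Cfsg.pPrimeCore p (G ⧸ Cfsg.pCore p G)) :=
    Cfsg.Agent.Lib.helper38.isPSolvable_quotient _ hsolH
  have hOp'H₂ : Cfsg.pPrimeCore p
      ((G ⧸ Cfsg.pCore p G) ⧸ Cfsg.pPrimeCore p (G ⧸ Cfsg.pCore p G)) = ⊥ :=
    pPrimeCore_quotient_pPrimeCore p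
  obtain ⟨ρ₂, hρ₂inj, hρ₂⟩ := exists_dual_rep hsolH₂ hOp'H₂
  obtain ⟨R₂, hR₂⟩ : ∃ R₂ : Subgroup ((G ⧸ Cfsg.pCore p G) ⧸ Cfsg.pPrimeCore p (G ⧸ Cfsg.pCore p G)),
      R₂ = Cfsg.pCore p ((G ⧸ Cfsg.pCore p G) ⧸ Cfsg.pPrimeCore p (G ⧸ Cfsg.pCore p G)) :=
    ⟨_, rfl⟩
  have hR₂S : ∀ r ∈ Cfsg.pCore p ((G ⧸ Cfsg.pCore p G) ⧸ Cfsg.pPrimeCore p (G ⧸ Cfsg.pCore p G)),
      ∃ u ∈ (S : Subgroup G), π₂ (π u) = r := by
    intro r hr
    have h1 := Cfsg.Agent.Lib.helper55.pCore_le_sylow ((S.mapSurjective hπ).mapSurjective hπ₂) hr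
    rw [Sylow.coe_mapSurjective, Sylow.coe_mapSurjective] at h1
    obtain ⟨y, ⟨u, hu, rfl⟩, rfl⟩ := h1
    exact ⟨u, hu, rfl⟩
  obtain ⟨a, ha⟩ : ∃ a, a = π₂ (π g) := ⟨_, rfl⟩
  have hc : ∀ r ∈ Cfsg.pCore p ((G ⧸ Cfsg.pCore p G) ⧸ Cfsg.pPrimeCore p (G ⧸ Cfsg.pCore p G)),
      a ^ p ^ (n - 1) * ((a * r) ^ p ^ (n - 1) * (a ^ p ^ (n - 1))⁻¹)
        = ((a * r) ^ p ^ (n - 1) * (a ^ p ^ (n - 1))⁻¹) * a ^ p ^ (n - 1) := by
    intro r hr
    obtain ⟨u, hu, rfl⟩ := hR₂S r hr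
    have h1 := congrArg π₂ (hcomm u hu)
    simp only [map_mul, map_pow] at h1
    rw [← ha] at h1
    rw [← mul_assoc, h1]
    group
  have h8 := tl_commute p
    (Cfsg.pCore p ((G ⧸ Cfsg.pCore p G) ⧸ Cfsg.pPrimeCore p (G ⧸ Cfsg.pCore p G))) a (n - 1) hc
  rw [← hρ₂] at h8
  -- order of the image
  have hapn : a ^ p ^ n = 1 := by rw [ha, ← map_pow, ← map_pow, hSexp g hgS, map_one, map_one]
  have hord : orderOf (QuotientGroup.mk' (Cfsg.pCore p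
      ((G ⧸ Cfsg.pCore p G) ⧸ Cfsg.pPrimeCore p (G ⧸ Cfsg.pCore p G))) a⁻¹) = p ^ n := by
    have h1 := orderOf_eq_prime_pow (p := p) (n := n - 1)
      (x := QuotientGroup.mk' (Cfsg.pCore p
        ((G ⧸ Cfsg.pCore p G) ⧸ Cfsg.pPrimeCore p (G ⧸ Cfsg.pCore p G))) a⁻¹)
      (by
        intro h
        apply hnot
        rw [← map_pow, QuotientGroup.mk'_apply, QuotientGroup.eq_one_iff, inv_pow] at h
        have h2 := Subgroup.inv_mem _ h
        rw [inv_inv, ha, ← map_pow, ← map_pow] at h2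
        exact h2)
      (by rw [Nat.sub_add_cancel hn, ← map_pow, inv_pow, hapn, inv_one, map_one])
    rwa [Nat.sub_add_cancel hn] at h1
  have hsolH₃ := Cfsg.Agent.Lib.helper38.isPSolvable_quotient (Cfsg.pCore p
      ((G ⧸ Cfsg.pCore p G) ⧸ Cfsg.pPrimeCore p (G ⧸ Cfsg.pCore p G))) hsolH₂
  have hOpH₃ : Cfsg.pCore p (((G ⧸ Cfsg.pCore p G) ⧸ Cfsg.pPrimeCore p (G ⧸ Cfsg.pCore p G)) ⧸
      Cfsg.pCore p ((G ⧸ Cfsg.pCore p G) ⧸ Cfsg.pPrimeCore p (G ⧸ Cfsg.pCore p G))) = ⊥ :=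
    Cfsg.Agent.Lib.helper51.pCore_quotient_pCore_eq_bot p
  have hfin₂ : Finite (Additive ↥(Cfsg.pCore p
      ((G ⧸ Cfsg.pCore p G) ⧸ Cfsg.pPrimeCore p (G ⧸ Cfsg.pCore p G))) →+ ZMod p) :=
    Finite.of_injective (fun f => (f : Additive ↥(Cfsg.pCore p
      ((G ⧸ Cfsg.pCore p G) ⧸ Cfsg.pPrimeCore p (G ⧸ Cfsg.pCore p G))) → ZMod p))
      DFunLike.coe_injective
  have hfd₂ : FiniteDimensional (ZMod p) (Additive ↥(Cfsg.pCore p
      ((G ⧸ Cfsg.pCore p G) ⧸ Cfsg.pPrimeCore p (G ⧸ Cfsg.pCore p G))) →+ ZMod p) :=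
    Module.Finite.of_finite
  have hB := theoremB_rep ρ₂ hρ₂inj hsolH₃ hOpH₃ _ n hn hord (2 * p ^ (n - 1) - 1) h8
  -- arithmetic
  have hp3 : 3 ≤ p := by
    have := hp.two_le
    omega
  have hpn : p ^ n = p * p ^ (n - 1) := by
    rw [← pow_succ', Nat.sub_add_cancel hn]
  have hpos : 0 < p ^ (n - 1) := pow_pos hp.pos _
  rcases hB with h | ⟨n₀, q, m, h1, h2, -, -, -, -, -, h6⟩
  · rw [hpn] at h
    have e5 : 3 * p ^ (n - 1) ≤ p * p ^ (n - 1) := Nat.mul_le_mul_right _ hp3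
    omega
  · have e1 : p ^ (n - n₀) * p ^ n₀ = p * p ^ (n - 1) := by
      rw [← pow_add, Nat.sub_add_cancel h2, hpn]
    have e2 : p ^ (n - n₀) ≤ p ^ (n - 1) := Nat.pow_le_pow_right hp.pos (by omega)
    have e3 : 1 ≤ p ^ n₀ := Nat.one_le_pow _ _ hp.pos
    have e4 : p ^ (n - n₀) * (p ^ n₀ - 1) = p * p ^ (n - 1) - p ^ (n - n₀) := by
      rw [Nat.mul_sub, mul_one, e1]
    rw [e4] at h6
    have e5 : 3 * p ^ (n - 1) ≤ p * p ^ (n - 1) := Nat.mul_le_mul_right _ hp3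
    omega

end Cfsg.Agent.Lib.helper5
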