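import Mathlib
import Cfsg.Agent.Lib.helper62.IrredField2
import Cfsg.Agent.Lib.helper46.PPDBound

namespace Cfsg.Agent.Lib.helper5.Hup

variable {q : ℕ} [Fact q.Prime] {V : Type*} [AddCommGroup V] [Module (ZMod q) V] [Finite V]
  {G : Type*} [Group G] [Finite G] (ρ : G →* (V ≃ₗ[ZMod q] V))

/-- restriction of the action of a subgroup to an invariant additive subgroup -/
noncomputable def resEnd (A : Subgroup G) (W : AddSubgroup V)
    (hW : ∀ a ∈ A, ∀ w ∈ W, ρ a w ∈ W) : A →* AddMonoid.End W where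
  toFun a :=
    { toFun := fun w => ⟨ρ a.1 w.1, hW a.1 a.2 w.1 w.2⟩
      map_zero' := by
        apply Subtype.ext
        simp
      map_add' := fun x y => by
        apply Subtype.ext
        simp }
  map_one' := by
    apply AddMonoidHom.ext
    intro w
    apply Subtype.ext
    show ρ ((1 : A) : G) w.1 = w.1
    simp
  map_mul' := fun a b => by
    apply AddMonoidHom.ext
    intro w
    apply Subtype.ext
    show ρ ((a * b : A) : G) w.1 = ρ a.1 (ρ b.1 w.1)
    simp

omit [Finite V] [Finite G] in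
theorem resEnd_apply (A : Subgroup G) (W : AddSubgroup V)
    (hW : ∀ a ∈ A, ∀ w ∈ W, ρ a w ∈ W) (a : A) (w : W) :
    ((resEnd ρ A W hW a) w : V) = ρ a.1 w.1 := rfl

theorem isCyclic_of_semiregular_abelian [Nontrivial V] (A : Subgroup G)
    (hAab : ∀ a ∈ A, ∀ b ∈ A, a * b = b * a)
    (hfree : ∀ a ∈ A, ∀ v : V, v ≠ 0 → ρ a v = v → a = 1) : IsCyclic A := by
  classical
  -- minimal nonzero invariant additive subgroup
  let S : Set (AddSubgroup V) := {W | W ≠ ⊥ ∧ ∀ a ∈ A, ∀ w ∈ W, ρ a w ∈ W}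
  have hSne : S.Nonempty := ⟨⊤, top_ne_bot, fun _ _ _ _ => AddSubgroup.mem_top _⟩
  have hwf : WellFounded ((· < ·) : AddSubgroup V → AddSubgroup V → Prop) :=
    Finite.wellFounded_of_trans_of_irrefl _
  obtain ⟨W, ⟨hWne, hWinv⟩, hWmin⟩ := hwf.has_min S hSne
  have hWnt : Nontrivial W := by
    rw [AddSubgroup.nontrivial_iff_ne_bot]
    exact hWne
  obtain ⟨w0, hw0⟩ := exists_ne (0 : W)
  have hw0' : (w0 : V) ≠ 0 := fun h => hw0 (Subtype.ext h)
  refine Cfsg.Agent.Lib.helper62.isCyclic_of_irreducible_comm (resEnd ρ A W hWinv) ?_ ?_ ?_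
  · -- injective
    rw [injective_iff_map_eq_one]
    intro a ha
    have h1 : ((resEnd ρ A W hWinv a) w0 : V) = (w0 : V) := by
      rw [ha]
      rfl
    rw [resEnd_apply] at h1
    exact Subtype.ext (hfree a.1 a.2 w0.1 hw0' h1)
  · intro a b
    exact Subtype.ext (hAab a.1 a.2 b.1 b.2)
  · intro W' hW'
    -- image of W' in V
    let W'' : AddSubgroup V := W'.map W.subtype
    have hle : W'' ≤ W := by
      rintro _ ⟨x, _, rfl⟩
      exact x.2
    have hinv : ∀ a ∈ A, ∀ w ∈ W'', ρ a w ∈ W'' := by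
      rintro a ha _ ⟨x, hx, rfl⟩
      exact ⟨(resEnd ρ A W hWinv ⟨a, ha⟩) x, hW' ⟨a, ha⟩ x hx, rfl⟩
    by_cases hbot : W'' = ⊥
    · left
      rw [eq_bot_iff]
      intro x hx
      have : (W.subtype x) ∈ W'' := ⟨x, hx, rfl⟩
      rw [hbot, AddSubgroup.mem_bot] at this
      rw [AddSubgroup.mem_bot]
      exact Subtype.ext this
    · right
      have hnlt : ¬ W'' < W := hWmin W'' ⟨hbot, hinv⟩
      have heq : W'' = W := by
        by_contra hne
        exact hnlt (lt_of_le_of_ne hle hne)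
      rw [eq_top_iff]
      intro x _
      have hx : (x : V) ∈ W'' := by
        rw [heq]
        exact x.2
      obtain ⟨y, hy, hyx⟩ := hx
      have : y = x := Subtype.ext hyx
      rw [← this]
      exact hy

theorem card_dvd_of_semiregular (A : Subgroup G)
    (hfree : ∀ a ∈ A, ∀ v : V, v ≠ 0 → ρ a v = v → a = 1)
    (W : Submodule (ZMod q) V) (hW : ∀ a ∈ A, ∀ v ∈ W, ρ a v ∈ W) :
    Nat.card A ∣ q ^ Module.finrank (ZMod q) W - 1 := by
  classical
  let X : Type _ := {w : W // w ≠ 0}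
  let _ : MulAction A X :=
    { smul := fun a x => ⟨⟨ρ a.1 x.1.1, hW a.1 a.2 x.1.1 x.1.2⟩, fun h => x.2 (by
        have h1 : ρ a.1 x.1.1 = 0 := congrArg Subtype.val h
        have h2 : (x.1.1 : V) = 0 := by
          have := (ρ a.1).injective (h1.trans (map_zero _).symm)
          exact this
        exact Subtype.ext h2)⟩
      one_smul := fun x => by
        apply Subtype.ext
        apply Subtype.ext
        show ρ ((1 : A) : G) x.1.1 = x.1.1
        simp
      mul_smul := fun a b x => by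
        apply Subtype.ext
        apply Subtype.ext
        show ρ ((a * b : A) : G) x.1.1 = ρ a.1 (ρ b.1 x.1.1)
        simp }
  have hfr : ∀ (c : A) (x : X), c • x = x → c = 1 := by
    intro c x hcx
    have h1 : ρ c.1 x.1.1 = x.1.1 := congrArg (fun y : X => (y.1.1 : V)) hcx
    have h2 : (x.1.1 : V) ≠ 0 := fun h => x.2 (Subtype.ext h)
    exact Subtype.ext (hfree c.1 c.2 x.1.1 h2 h1)
  have hdvd : Nat.card A ∣ Nat.card X := Cfsg.Agent.Lib.helper46.card_dvd_of_free hfr
  have hcardW : Nat.card W = q ^ Module.finrank (ZMod q) W := by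
    rw [Module.natCard_eq_pow_finrank (K := ZMod q) (V := W), Nat.card_zmod]
  have hX : Nat.card X = Nat.card W - 1 := by
    have := Fintype.ofFinite W
    show Nat.card {w : W // w ≠ 0} = Nat.card W - 1
    rw [Nat.card_eq_fintype_card, Nat.card_eq_fintype_card]
    exact Fintype.card_subtype_compl (fun w : W => w = 0) |>.trans (by simp)
  rw [hX, hcardW] at hdvd
  exact hdvd

end Cfsg.Agent.Lib.helper5.Hup
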