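import Mathlib

set_option autoImplicit false

/-!
Representations of a finite group over an arbitrary field: invariant submodules, Maschke,
additivity of traces, existence of intertwiners from a nonvanishing character pairing.
-/

namespace Cfsg.Agent.Lib.helper5

section KRep

variable {K : Type*} [Field K] {G : Type*} [Group G]

/-- The representation on an invariant submodule (any field). -/
noncomputable def kSub {V : Type*} [AddCommGroup V] [Module K V]
    (ρ : Representation K G V) (W : Submodule K V) (hW : ∀ g v, v ∈ W → ρ g v ∈ W) :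
    Representation K G W :=
  (⟨W, fun g v hv => hW g v hv⟩ : Subrepresentation ρ).toRepresentation

theorem kSub_apply {V : Type*} [AddCommGroup V] [Module K V]
    (ρ : Representation K G V) (W : Submodule K V) (hW : ∀ g v, v ∈ W → ρ g v ∈ W) (g : G)
    (w : W) : ((kSub ρ W hW g w : W) : V) = ρ g (w : V) := rfl

/-- Every nonzero invariant submodule of a finite-dimensional representation contains a
minimal nonzero invariant submodule. -/
theorem k_exists_minimal {V : Type*} [AddCommGroup V] [Module K V]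
    [FiniteDimensional K V] (ρ : Representation K G V) (U : Submodule K V) (hU0 : U ≠ ⊥)
    (hU : ∀ g v, v ∈ U → ρ g v ∈ U) :
    ∃ W : Submodule K V, W ≤ U ∧ W ≠ ⊥ ∧ (∀ g v, v ∈ W → ρ g v ∈ W) ∧
      ∀ W' : Submodule K V, W' ≤ W → (∀ g v, v ∈ W' → ρ g v ∈ W') → W' = ⊥ ∨ W' = W := by
  classical
  let P : ℕ → Prop := fun n => ∃ W : Submodule K V, W ≤ U ∧ W ≠ ⊥ ∧
    (∀ g v, v ∈ W → ρ g v ∈ W) ∧ Module.finrank K W = n
  have hP : ∃ n, P n := ⟨Module.finrank K U, U, le_refl _, hU0, hU, rfl⟩
  obtain ⟨W, hWU, hW0, hWinv, hWn⟩ := Nat.find_spec hP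
  refine ⟨W, hWU, hW0, hWinv, ?_⟩
  intro W' hW'W hW'inv
  by_cases h0 : W' = ⊥
  · exact Or.inl h0
  · right
    apply Submodule.eq_of_le_of_finrank_le hW'W
    rw [hWn]
    exact Nat.find_min' hP ⟨W', hW'W.trans hWU, h0, hW'inv, rfl⟩

/-- Minimality of an invariant submodule, phrased inside the submodule. -/
theorem k_minimal_sub {V : Type*} [AddCommGroup V] [Module K V]
    (ρ : Representation K G V) (W : Submodule K V)
    (hW : ∀ g v, v ∈ W → ρ g v ∈ W)
    (hmin : ∀ W' : Submodule K V, W' ≤ W → (∀ g v, v ∈ W' → ρ g v ∈ W') → W' = ⊥ ∨ W' = W)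
    (X : Submodule K W) (hX : ∀ g x, x ∈ X → kSub ρ W hW g x ∈ X) : X = ⊥ ∨ X = ⊤ := by
  have h1 : X.map W.subtype ≤ W := by
    rintro _ ⟨x, _, rfl⟩
    exact x.2
  have h2 : ∀ g v, v ∈ X.map W.subtype → ρ g v ∈ X.map W.subtype := by
    rintro g _ ⟨x, hx, rfl⟩
    exact ⟨kSub ρ W hW g x, hX g x hx, rfl⟩
  rcases hmin _ h1 h2 with h | h
  · left
    rw [eq_bot_iff]
    intro x hx
    have : (x : V) ∈ X.map W.subtype := ⟨x, hx, rfl⟩
    rw [h, Submodule.mem_bot] at this
    rw [Submodule.mem_bot]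
    exact Subtype.ext this
  · right
    rw [eq_top_iff]
    intro x _
    have : (x : V) ∈ X.map W.subtype := by rw [h]; exact x.2
    obtain ⟨y, hy, hyx⟩ := this
    have : y = x := Subtype.ext hyx
    rw [← this]; exact hy

/-- Maschke over any field in which `|G|` is invertible. -/
theorem k_exists_compl [Finite G] [NeZero (Nat.card G : K)] {V : Type*} [AddCommGroup V]
    [Module K V]
    (ρ : Representation K G V) (U : Submodule K V) (hU : ∀ g v, v ∈ U → ρ g v ∈ U) :
    ∃ U' : Submodule K V, (∀ g v, v ∈ U' → ρ g v ∈ U') ∧ U ⊓ U' = ⊥ ∧ U ⊔ U' = ⊤ := by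
  obtain ⟨U', hU'⟩ := exists_isCompl (⟨U, fun g v hv => hU g v hv⟩ : Subrepresentation ρ)
  refine ⟨U'.toSubmodule, fun g v hv => U'.apply_mem_toSubmodule g hv, ?_, ?_⟩
  · have := hU'.inf_eq_bot
    exact congrArg Subrepresentation.toSubmodule this
  · have := hU'.sup_eq_top
    exact congrArg Subrepresentation.toSubmodule this

/-- Traces are additive over a decomposition into invariant complements. -/
theorem k_trace_compl {V : Type*} [AddCommGroup V] [Module K V] [FiniteDimensional K V]
    (ρ : Representation K G V) (U U' : Submodule K V) (hU : ∀ g v, v ∈ U → ρ g v ∈ U)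
    (hU' : ∀ g v, v ∈ U' → ρ g v ∈ U') (hinf : U ⊓ U' = ⊥) (hsup : U ⊔ U' = ⊤) (g : G) :
    LinearMap.trace K V (ρ g) =
      LinearMap.trace K U (kSub ρ U hU g) + LinearMap.trace K U' (kSub ρ U' hU' g) := by
  have hc : IsCompl U U' := ⟨disjoint_iff.2 hinf, codisjoint_iff.2 hsup⟩
  have h1 : ρ g = (Submodule.prodEquivOfIsCompl U U' hc).conj
      ((kSub ρ U hU g).prodMap (kSub ρ U' hU' g)) := by
    apply LinearMap.ext
    intro v
    rw [LinearEquiv.conj_apply]
    obtain ⟨x, rfl⟩ := (Submodule.prodEquivOfIsCompl U U' hc).surjective v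
    simp only [LinearMap.comp_apply, LinearEquiv.coe_coe, LinearEquiv.symm_apply_apply]
    rw [Submodule.coe_prodEquivOfIsCompl', Submodule.coe_prodEquivOfIsCompl']
    simp only [LinearMap.prodMap_apply, map_add, kSub_apply]
  rw [h1, LinearMap.trace_conj', LinearMap.trace_prodMap']

/-- Equivalent representations have equal traces. -/
theorem k_trace_equiv {W W' : Type*} [AddCommGroup W] [Module K W]
    [AddCommGroup W'] [Module K W']
    (τ : Representation K G W) (τ' : Representation K G W') (e : W ≃ₗ[K] W')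
    (h : ∀ g w, e (τ g w) = τ' g (e w)) (g : G) :
    LinearMap.trace K W' (τ' g) = LinearMap.trace K W (τ g) := by
  have h1 : τ' g = e.conj (τ g) := by
    apply LinearMap.ext
    intro x
    rw [LinearEquiv.conj_apply]
    simp only [LinearMap.comp_apply, LinearEquiv.coe_coe]
    rw [h, LinearEquiv.apply_symm_apply]
  rw [h1, LinearMap.trace_conj']

/-- A nonvanishing character pairing produces a nonzero intertwiner. -/
theorem k_exists_intertwiner [Fintype G] {V W : Type*} [AddCommGroup V] [Module K V]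
    [FiniteDimensional K V] [AddCommGroup W] [Module K W] [FiniteDimensional K W]
    (ρ : Representation K G V) (τ : Representation K G W)
    (h : ∑ g : G, LinearMap.trace K V (ρ g) * LinearMap.trace K W (τ g⁻¹) ≠ 0) :
    ∃ f : W →ₗ[K] V, f ≠ 0 ∧ ∀ g w, ρ g (f w) = f (τ g w) := by
  classical
  by_contra hcon
  have key : ∀ f : W →ₗ[K] V, (∀ g w, ρ g (f w) = f (τ g w)) → f = 0 := by
    intro f hf
    by_contra h0
    exact hcon ⟨f, h0, hf⟩
  have avg : ∀ f : W →ₗ[K] V, ∑ g : G, ρ g ∘ₗ f ∘ₗ τ g⁻¹ = 0 := by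
    intro f
    apply key
    intro x w
    simp only [LinearMap.sum_apply, LinearMap.comp_apply, map_sum]
    refine Fintype.sum_equiv (Equiv.mulLeft x) _ _ ?_
    intro g
    simp only [Equiv.coe_mulLeft]
    have e1 : ρ x (ρ g (f (τ g⁻¹ w))) = ρ (x * g) (f (τ g⁻¹ w)) := by
      rw [map_mul]; rfl
    have e2 : τ (x * g)⁻¹ (τ x w) = τ g⁻¹ w := by
      have : τ (x * g)⁻¹ (τ x w) = τ ((x * g)⁻¹ * x) w := by
        rw [map_mul]; rfl
      rw [this]
      congr 2
      group
    rw [e1, e2]
  apply h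
  set b := Module.finBasis K V
  set c := Module.finBasis K W
  have hent : ∀ (i : Fin (Module.finrank K V)) (j : Fin (Module.finrank K W)),
      ∑ g : G, LinearMap.toMatrix b b (ρ g) i i * LinearMap.toMatrix c c (τ g⁻¹) j j = 0 := by
    intro i j
    have h1 := avg (Matrix.toLin c b (Matrix.single i j 1))
    have h2 := congrArg (LinearMap.toMatrix c b) h1
    rw [map_sum, map_zero] at h2
    have h3 := congrFun (congrFun h2 i) j
    rw [Matrix.sum_apply] at h3
    simp only [Matrix.zero_apply] at h3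
    rw [← h3]
    apply Finset.sum_congr rfl
    intro g _
    rw [LinearMap.toMatrix_comp c b b, LinearMap.toMatrix_comp c c b, LinearMap.toMatrix_toLin]
    simp only [Matrix.mul_apply, Matrix.single_apply]
    rw [Finset.sum_eq_single i]
    · congr 1
      rw [Finset.sum_eq_single j]
      · simp
      · intro j1 _ hj1
        simp [Ne.symm hj1]
      · simp
    · intro x _ hx
      have : ∀ j1, ¬ (i = x ∧ j = j1) := fun j1 h => hx h.1.symm
      simp [this]
    · simp
  have htr1 : ∀ g, LinearMap.trace K V (ρ g) = ∑ i, LinearMap.toMatrix b b (ρ g) i i := by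
    intro g
    rw [LinearMap.trace_eq_matrix_trace K b]
    rfl
  have htr2 : ∀ g, LinearMap.trace K W (τ g) = ∑ j, LinearMap.toMatrix c c (τ g) j j := by
    intro g
    rw [LinearMap.trace_eq_matrix_trace K c]
    rfl
  simp only [htr1, htr2, Finset.sum_mul_sum]
  rw [Finset.sum_comm]
  apply Finset.sum_eq_zero
  intro i _
  rw [Finset.sum_comm]
  apply Finset.sum_eq_zero
  intro j _
  exact hent i j

/-- A nonzero intertwiner out of a representation without proper invariant subspaces is
injective. -/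
theorem k_intertwiner_injective {V W : Type*} [AddCommGroup V] [Module K V]
    [AddCommGroup W] [Module K W]
    (ρ : Representation K G V) (τ : Representation K G W)
    (hmin : ∀ X : Submodule K W, (∀ g x, x ∈ X → τ g x ∈ X) → X = ⊥ ∨ X = ⊤)
    (f : W →ₗ[K] V) (hf0 : f ≠ 0) (hf : ∀ g w, ρ g (f w) = f (τ g w)) :
    Function.Injective f := by
  have hk : ∀ g x, x ∈ LinearMap.ker f → τ g x ∈ LinearMap.ker f := by
    intro g x hx
    rw [LinearMap.mem_ker] at hx ⊢
    rw [← hf, hx, map_zero]
  rcases hmin _ hk with h | h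
  · exact LinearMap.ker_eq_bot.1 h
  · exact absurd (LinearMap.ker_eq_top.1 h) hf0

/-- The image of an injective intertwiner is invariant and carries the same traces. -/
theorem k_trace_range {V W : Type*} [AddCommGroup V] [Module K V]
    [AddCommGroup W] [Module K W]
    (ρ : Representation K G V) (τ : Representation K G W)
    (f : W →ₗ[K] V) (hinj : Function.Injective f) (hf : ∀ g w, ρ g (f w) = f (τ g w)) :
    ∃ hR : ∀ g v, v ∈ LinearMap.range f → ρ g v ∈ LinearMap.range f,
      ∀ g, LinearMap.trace K (LinearMap.range f) (kSub ρ (LinearMap.range f) hR g) =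
        LinearMap.trace K W (τ g) := by
  have hR : ∀ g v, v ∈ LinearMap.range f → ρ g v ∈ LinearMap.range f := by
    rintro g _ ⟨w, rfl⟩
    exact ⟨τ g w, (hf g w).symm⟩
  refine ⟨hR, fun g => ?_⟩
  apply k_trace_equiv τ (kSub ρ (LinearMap.range f) hR) (LinearEquiv.ofInjective f hinj)
  intro g w
  apply Subtype.ext
  rw [kSub_apply]
  simp only [LinearEquiv.ofInjective_apply]
  exact (hf g w).symm

/-- The basic reduction step: if the character of `ρ` pairs nontrivially with every nonzero
invariant submodule of `ρ'`, then a common summand can be split off from both. -/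
theorem k_step [Fintype G] [NeZero (Nat.card G : K)] {V V' : Type*} [AddCommGroup V]
    [Module K V] [FiniteDimensional K V] [AddCommGroup V'] [Module K V']
    [FiniteDimensional K V'] [Nontrivial V']
    (ρ : Representation K G V) (ρ' : Representation K G V')
    (H : ∀ (W : Submodule K V') (hW : ∀ g v, v ∈ W → ρ' g v ∈ W), W ≠ ⊥ →
      ∑ g : G, LinearMap.trace K V (ρ g) * LinearMap.trace K W (kSub ρ' W hW g⁻¹) ≠ 0) :
    ∃ (V₁ : Submodule K V) (hV₁ : ∀ g v, v ∈ V₁ → ρ g v ∈ V₁) (V₁' : Submodule K V')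
      (hV₁' : ∀ g v, v ∈ V₁' → ρ' g v ∈ V₁'),
      Module.finrank K V₁' < Module.finrank K V' ∧
      ∀ g, LinearMap.trace K V (ρ g) - LinearMap.trace K V₁ (kSub ρ V₁ hV₁ g) =
        LinearMap.trace K V' (ρ' g) - LinearMap.trace K V₁' (kSub ρ' V₁' hV₁' g) := by
  obtain ⟨W, -, hW0, hWinv, hWmin⟩ := k_exists_minimal ρ' ⊤ top_ne_bot (fun _ _ _ => trivial)
  obtain ⟨V₁', hV₁', hinf', hsup'⟩ := k_exists_compl ρ' W hWinv
  obtain ⟨f, hf0, hf⟩ := k_exists_intertwiner ρ (kSub ρ' W hWinv) (H W hWinv hW0)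
  have hinj := k_intertwiner_injective ρ (kSub ρ' W hWinv)
    (k_minimal_sub ρ' W hWinv hWmin) f hf0 hf
  obtain ⟨hR, htrR⟩ := k_trace_range ρ (kSub ρ' W hWinv) f hinj hf
  obtain ⟨V₁, hV₁, hinf, hsup⟩ := k_exists_compl ρ (LinearMap.range f) hR
  refine ⟨V₁, hV₁, V₁', hV₁', ?_, ?_⟩
  · have hc : IsCompl W V₁' := ⟨disjoint_iff.2 hinf', codisjoint_iff.2 hsup'⟩
    have h1 := Submodule.finrank_add_eq_of_isCompl hc
    have h2 : 0 < Module.finrank K W := by
      rw [Module.finrank_pos_iff]
      exact Submodule.nontrivial_iff_ne_bot.2 hW0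
    omega
  · intro g
    rw [k_trace_compl ρ _ V₁ hR hV₁ hinf hsup g, k_trace_compl ρ' W V₁' hWinv hV₁' hinf' hsup' g,
      htrR g]
    ring

end KRep

end Cfsg.Agent.Lib.helper5
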