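import Mathlib
import Cfsg.Prelude.Def_Characters
import Cfsg.Agent.Lib.helper5.KRep
import Cfsg.Agent.Lib.helper4.CharDecomp
import Cfsg.Agent.Lib.helper4.FinOrder
import Cfsg.Agent.Lib.helper4.Induction

set_option autoImplicit false

/-!
Characters afforded by matrix representations over a subfield `K` of `ℂ`.
Main results: `kreal_of_sub` (if `ψ = χ + ψ'` with `ψ`, `ψ'` afforded over `K` and `χ` a
character, then `χ` is afforded over `K`) and `kreal_indFun` (characters induced from linear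
characters with values in `K` are afforded over `K`).
-/

namespace Cfsg.Agent.Lib.helper5

open scoped ComplexConjugate

universe u

/-- `χ` is afforded by a matrix representation with entries in the subfield `K` of `ℂ`. -/
def KReal (K : Subfield ℂ) (G : Type u) [Group G] (χ : G → ℂ) : Prop :=
  ∃ (d : ℕ) (R : G →* Matrix (Fin d) (Fin d) K), ∀ g, ((Matrix.trace (R g) : K) : ℂ) = χ g

section Basic

variable {K : Subfield ℂ} {G : Type u} [Group G]

theorem kreal_of_rep {V : Type*} [AddCommGroup V] [Module K V] [FiniteDimensional K V]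
    (ρ : Representation K G V) :
    KReal K G (fun g => ((LinearMap.trace K V (ρ g) : K) : ℂ)) := by
  refine ⟨Module.finrank K V,
    { toFun := fun g => LinearMap.toMatrix (Module.finBasis K V) (Module.finBasis K V) (ρ g)
      map_one' := by rw [map_one]; exact LinearMap.toMatrix_one _
      map_mul' := fun a b => by rw [map_mul]; exact LinearMap.toMatrix_mul _ _ _ }, ?_⟩
  intro g
  show ((Matrix.trace (LinearMap.toMatrix (Module.finBasis K V) (Module.finBasis K V) (ρ g)) : K)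
    : ℂ) = ((LinearMap.trace K V (ρ g) : K) : ℂ)
  rw [LinearMap.trace_eq_matrix_trace K (Module.finBasis K V)]

theorem trace_toLin'_eq {k : Type*} [Field k] {ι : Type*} [Fintype ι] [DecidableEq ι]
    (M : Matrix ι ι k) : LinearMap.trace k (ι → k) (Matrix.toLin' M) = Matrix.trace M := by
  rw [LinearMap.trace_eq_matrix_trace k (Pi.basisFun k ι), LinearMap.toMatrix_eq_toMatrix',
    LinearMap.toMatrix'_toLin']

theorem kreal_rep {χ : G → ℂ} (h : KReal K G χ) :
    ∃ (d : ℕ) (ρ : Representation K G (Fin d → K)),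
      ∀ g, ((LinearMap.trace K (Fin d → K) (ρ g) : K) : ℂ) = χ g := by
  obtain ⟨d, R, hR⟩ := h
  refine ⟨d,
    { toFun := fun g => Matrix.toLin' (R g)
      map_one' := by rw [map_one, Matrix.toLin'_one]; rfl
      map_mul' := fun a b => by rw [map_mul, Matrix.toLin'_mul]; rfl }, ?_⟩
  intro g
  rw [← hR g]
  congr 1
  exact trace_toLin'_eq (R g)

theorem KReal.isCharacter {χ : G → ℂ} (h : KReal K G χ) : Cfsg.IsCharacter G χ := by
  obtain ⟨d, R, hR⟩ := h
  refine ⟨d,
    { toFun := fun g => Matrix.toLin' ((R g).map K.subtype)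
      map_one' := by
        rw [map_one, Matrix.map_one _ (map_zero _) (map_one _), Matrix.toLin'_one]; rfl
      map_mul' := fun a b => by
        rw [map_mul, Matrix.map_mul, Matrix.toLin'_mul]; rfl }, ?_⟩
  funext g
  rw [← hR g]
  show LinearMap.trace ℂ (Fin d → ℂ) (Matrix.toLin' ((R g).map K.subtype)) = _
  rw [trace_toLin'_eq]
  simp [Matrix.trace]

theorem KReal.zero : KReal K G (0 : G → ℂ) :=
  ⟨0, 1, fun g => by simp [Matrix.trace]⟩

theorem KReal.add {χ ψ : G → ℂ} (h1 : KReal K G χ) (h2 : KReal K G ψ) :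
    KReal K G (χ + ψ) := by
  obtain ⟨d1, ρ1, h1⟩ := kreal_rep h1
  obtain ⟨d2, ρ2, h2⟩ := kreal_rep h2
  let ρ : Representation K G ((Fin d1 → K) × (Fin d2 → K)) :=
    { toFun := fun g => (ρ1 g).prodMap (ρ2 g)
      map_one' := by
        rw [map_one, map_one]
        exact LinearMap.prodMap_one
      map_mul' := fun a b => by
        rw [map_mul, map_mul]
        exact (LinearMap.prodMap_mul _ _ _ _).symm }
  have := kreal_of_rep ρ
  convert this using 1
  funext g
  show χ g + ψ g = ((LinearMap.trace K _ ((ρ1 g).prodMap (ρ2 g)) : K) : ℂ)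
  rw [LinearMap.trace_prodMap', ← h1 g, ← h2 g]
  push_cast
  rfl

theorem KReal.nsmul {θ : G → ℂ} (h : KReal K G θ) (k : ℕ) :
    KReal K G (fun g => (k : ℂ) * θ g) := by
  induction k with
  | zero =>
    have : (fun g => ((0 : ℕ) : ℂ) * θ g) = 0 := by funext g; simp
    rw [this]; exact KReal.zero
  | succ k ih =>
    have : (fun g => ((k + 1 : ℕ) : ℂ) * θ g) = (fun g => (k : ℂ) * θ g) + θ := by
      funext g; simp; ring
    rw [this]; exact ih.add h

end Basic

section Main

variable {K : Subfield ℂ} {G : Type u} [Group G] [Fintype G]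

theorem classInner_self_ne_zero_of_one {θ : G → ℂ} (h1 : θ 1 ≠ 0) :
    Cfsg.classInner θ θ ≠ 0 := by
  unfold Cfsg.classInner
  have h2 : ∑ g : G, θ g * conj (θ g) = ((∑ g : G, Complex.normSq (θ g) : ℝ) : ℂ) := by
    push_cast
    apply Finset.sum_congr rfl
    intro g _
    rw [Complex.mul_conj]
  rw [h2]
  have hpos : 0 < ∑ g : G, Complex.normSq (θ g) :=
    Finset.sum_pos' (fun g _ => Complex.normSq_nonneg _)
      ⟨1, Finset.mem_univ _, Complex.normSq_pos.2 h1⟩
  apply mul_ne_zero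
  · exact inv_ne_zero (by exact_mod_cast (Nat.card_pos (α := G)).ne')
  · exact_mod_cast hpos.ne'

theorem kreal_of_sub_aux (n : ℕ) : ∀ (ψ ψ' χ : G → ℂ), KReal K G ψ → KReal K G ψ' →
    ψ' 1 = (n : ℂ) → ψ = χ + ψ' → Cfsg.IsCharacter G χ → KReal K G χ := by
  induction n using Nat.strong_induction_on with
  | _ n ih =>
  intro ψ ψ' χ hψ hψ' hn hsum hχ
  rcases Nat.eq_zero_or_pos n with h0 | hpos
  · obtain ⟨d', R', hR'⟩ := hψ'
    have hd' : d' = 0 := by
      have h1 := hR' 1
      rw [map_one, Matrix.trace_one, hn, h0, Fintype.card_fin] at h1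
      exact_mod_cast h1
    subst hd'
    have hψ'0 : ψ' = 0 := by
      funext g
      rw [← hR' g]
      simp [Matrix.trace]
    rw [hψ'0, add_zero] at hsum
    rw [← hsum]; exact hψ
  · obtain ⟨d, ρ, hρ⟩ := kreal_rep hψ
    obtain ⟨d', ρ', hρ'⟩ := kreal_rep hψ'
    have hd' : d' = n := by
      have h1 := hρ' 1
      rw [map_one, LinearMap.trace_one, hn, Module.finrank_fin_fun] at h1
      exact_mod_cast h1
    have hnt : Nontrivial (Fin d' → K) := by
      have : Nonempty (Fin d') := ⟨⟨0, by omega⟩⟩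
      infer_instance
    have : NeZero (Nat.card G : K) := ⟨by
      intro h
      have h1 := congrArg (fun x : K => (x : ℂ)) h
      simp only [SubringClass.coe_natCast, ZeroMemClass.coe_zero] at h1
      exact (Nat.card_pos (α := G)).ne' (by exact_mod_cast h1)⟩
    have H : ∀ (W : Submodule K (Fin d' → K)) (hW : ∀ g v, v ∈ W → ρ' g v ∈ W), W ≠ ⊥ →
        ∑ g : G, LinearMap.trace K _ (ρ g) * LinearMap.trace K W (kSub ρ' W hW g⁻¹) ≠ 0 := by
      intro W hW hW0 hzero
      obtain ⟨W₁, hW₁, hinf, hsup⟩ := k_exists_compl ρ' W hW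
      obtain ⟨θ, hθ⟩ : ∃ θ : G → ℂ,
        θ = fun g => ((LinearMap.trace K W (kSub ρ' W hW g) : K) : ℂ) := ⟨_, rfl⟩
      obtain ⟨θ₁, hθ₁⟩ : ∃ θ₁ : G → ℂ,
        θ₁ = fun g => ((LinearMap.trace K W₁ (kSub ρ' W₁ hW₁ g) : K) : ℂ) := ⟨_, rfl⟩
      have hθc : Cfsg.IsCharacter G θ := by
        rw [hθ]; exact (kreal_of_rep (kSub ρ' W hW)).isCharacter
      have hθ₁c : Cfsg.IsCharacter G θ₁ := by
        rw [hθ₁]; exact (kreal_of_rep (kSub ρ' W₁ hW₁)).isCharacter
      have hψ'eq : ψ' = θ + θ₁ := by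
        funext g
        rw [← hρ' g, k_trace_compl ρ' W W₁ hW hW₁ hinf hsup g, hθ, hθ₁]
        push_cast
        rfl
      have hθ1 : θ 1 ≠ 0 := by
        rw [hθ]
        show ((LinearMap.trace K W (kSub ρ' W hW 1) : K) : ℂ) ≠ 0
        rw [map_one, LinearMap.trace_one]
        have hp : 0 < Module.finrank K W :=
          Module.finrank_pos_iff.2 (Submodule.nontrivial_iff_ne_bot.2 hW0)
        have : (((Module.finrank K W : ℕ) : K) : ℂ) = ((Module.finrank K W : ℕ) : ℂ) := by
          push_cast; rfl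
        rw [this]
        exact_mod_cast hp.ne'
      have hinner : Cfsg.classInner ψ θ = 0 := by
        unfold Cfsg.classInner
        have h2 : ∑ g : G, ψ g * conj (θ g) = 0 := by
          have h1 := congrArg (fun x : K => (x : ℂ)) hzero
          simp only [ZeroMemClass.coe_zero] at h1
          rw [← h1]
          push_cast
          apply Finset.sum_congr rfl
          intro g _
          rw [← hρ g]
          congr 1
          have h3 : conj (θ g) = θ g⁻¹ := by
            obtain ⟨m, σ, hσ⟩ := hθc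
            rw [← hσ]
            exact (Cfsg.Agent.Lib.helper4.char_inv σ g).symm
          rw [h3, hθ]
        rw [h2, mul_zero]
      rw [hsum, hψ'eq] at hinner
      rw [Cfsg.Agent.Lib.helper4.classInner_add_left,
        Cfsg.Agent.Lib.helper4.classInner_add_left] at hinner
      obtain ⟨a, ha⟩ := Cfsg.Agent.Lib.helper4.exists_nat_classInner hχ hθc
      obtain ⟨b, hb⟩ := Cfsg.Agent.Lib.helper4.exists_nat_classInner hθc hθc
      obtain ⟨c, hc⟩ := Cfsg.Agent.Lib.helper4.exists_nat_classInner hθ₁c hθc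
      rw [ha, hb, hc] at hinner
      have hb0 : b = 0 := by
        have : a + (b + c) = 0 := by exact_mod_cast hinner
        omega
      exact classInner_self_ne_zero_of_one hθ1 (by rw [hb, hb0]; simp)
    obtain ⟨V₁, hV₁, V₁', hV₁', hlt, htr⟩ := k_step ρ ρ' H
    have hK1 := kreal_of_rep (kSub ρ V₁ hV₁)
    have hK1' := kreal_of_rep (kSub ρ' V₁' hV₁')
    refine ih (Module.finrank K V₁') (by rw [Module.finrank_fin_fun] at hlt; omega) _ _ χ
      hK1 hK1' ?_ ?_ hχ
    · show ((LinearMap.trace K V₁' (kSub ρ' V₁' hV₁' 1) : K) : ℂ) = _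
      rw [map_one, LinearMap.trace_one]
      push_cast
      rfl
    · funext g
      have h1 := htr g
      have h2 := congrArg (fun x : K => (x : ℂ)) h1
      simp only [AddSubgroupClass.coe_sub] at h2
      rw [hρ g, hρ' g] at h2
      have h3 := congrFun hsum g
      simp only [Pi.add_apply] at h3 ⊢
      linear_combination h3 - h2

/-- If `ψ = χ + ψ'` with `ψ`, `ψ'` afforded over `K` and `χ` a character, then `χ` is afforded
over `K`. -/
theorem kreal_of_sub {ψ ψ' χ : G → ℂ} (hψ : KReal K G ψ) (hψ' : KReal K G ψ')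
    (hsum : ψ = χ + ψ') (hχ : Cfsg.IsCharacter G χ) : KReal K G χ := by
  obtain ⟨n, hn⟩ := Cfsg.Agent.Lib.helper4.exists_nat_degree hψ'.isCharacter
  exact kreal_of_sub_aux n ψ ψ' χ hψ hψ' hn hsum hχ

end Main

section Monomial

variable {K : Subfield ℂ} {G : Type u} [Group G] [Fintype G]

/-- A character induced from a linear character with values in `K` is afforded by a (monomial)
matrix representation over `K`. -/
theorem kreal_indFun (E : Subgroup G) (lam : E →* ℂˣ) (hK : ∀ e : E, ((lam e : ℂˣ) : ℂ) ∈ K) :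
    KReal K G (Cfsg.indFun E (fun e => ((lam e : ℂˣ) : ℂ))) := by
  classical
  obtain ⟨μ, hμ⟩ : ∃ μ : G → K, μ = fun x =>
    if h : x ∈ E then (⟨((lam ⟨x, h⟩ : ℂˣ) : ℂ), hK ⟨x, h⟩⟩ : K) else 0 := ⟨_, rfl⟩
  have hμ1 : μ 1 = 1 := by
    have h1 : (1 : G) ∈ E := E.one_mem
    rw [hμ]
    simp only [dif_pos h1]
    apply Subtype.ext
    have : (⟨1, h1⟩ : E) = 1 := rfl
    simp [this]
  have hμ0 : ∀ x, x ∉ E → μ x = 0 := fun x hx => by rw [hμ]; simp [hx]
  have hμl : ∀ x y, x ∈ E → μ (x * y) = μ x * μ y := by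
    intro x y hx
    by_cases hy : y ∈ E
    · have hxy : x * y ∈ E := E.mul_mem hx hy
      rw [hμ]
      simp only [dif_pos hx, dif_pos hy, dif_pos hxy]
      apply Subtype.ext
      show ((lam ⟨x * y, hxy⟩ : ℂˣ) : ℂ) = ((lam ⟨x, hx⟩ : ℂˣ) : ℂ) * ((lam ⟨y, hy⟩ : ℂˣ) : ℂ)
      rw [← Units.val_mul, ← map_mul]
      rfl
    · have hxy : x * y ∉ E := fun h => hy ((E.mul_mem_cancel_left hx).1 h)
      rw [hμ0 _ hxy, hμ0 _ hy, mul_zero]
  have hμr : ∀ x y, y ∈ E → μ (x * y) = μ x * μ y := by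
    intro x y hy
    by_cases hx : x ∈ E
    · exact hμl x y hx
    · have hxy : x * y ∉ E := fun h => hx ((E.mul_mem_cancel_right hy).1 h)
      rw [hμ0 _ hxy, hμ0 _ hx, zero_mul]
  have hμext : ∀ x, ((μ x : K) : ℂ) =
      Cfsg.extendByZero E (fun e => ((lam e : ℂˣ) : ℂ)) x := by
    intro x
    by_cases hx : x ∈ E
    · rw [Cfsg.Agent.Lib.helper4.extendByZero_apply_mem E _ hx, hμ]
      simp [hx]
    · rw [Cfsg.Agent.Lib.helper4.extendByZero_apply_of_not_mem E _ hx, hμ0 x hx]
      rfl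
  obtain ⟨s, hs⟩ : ∃ s : G ⧸ E → G, ∀ a : G ⧸ E, (QuotientGroup.mk (s a) : G ⧸ E) = a :=
    ⟨Quotient.out, fun a => QuotientGroup.out_eq' a⟩
  have hsE : ∀ a b : G ⧸ E, (s a)⁻¹ * s b ∈ E → a = b := by
    intro a b h
    rw [← hs a, ← hs b]
    exact QuotientGroup.eq.2 h
  obtain ⟨R, hR⟩ : ∃ R : G → Matrix (G ⧸ E) (G ⧸ E) K,
    R = fun g => Matrix.of fun a b => μ ((s a)⁻¹ * g * s b) := ⟨_, rfl⟩
  have hR1 : R 1 = 1 := by
    ext a b
    rw [hR]
    simp only [Matrix.of_apply, mul_one]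
    by_cases hab : a = b
    · subst hab
      simp [hμ1]
    · rw [Matrix.one_apply_ne hab, hμ0 _ (fun h => hab (hsE a b h))]
  have hRmul : ∀ g h, R (g * h) = R g * R h := by
    intro g h
    ext a c
    rw [hR]
    simp only [Matrix.of_apply, Matrix.mul_apply]
    obtain ⟨b₀, hb₀⟩ : ∃ b₀ : G ⧸ E, b₀ = QuotientGroup.mk (g⁻¹ * s a) := ⟨_, rfl⟩
    have hb₀E : (s a)⁻¹ * g * s b₀ ∈ E := by
      have h1 : (QuotientGroup.mk (g⁻¹ * s a) : G ⧸ E) = QuotientGroup.mk (s b₀) := by
        rw [hs b₀, hb₀]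
      have h2 := QuotientGroup.eq.1 h1
      have h3 : (s a)⁻¹ * g * s b₀ = (g⁻¹ * s a)⁻¹ * s b₀ := by group
      rw [h3]; exact h2
    rw [Finset.sum_eq_single b₀]
    · rw [← hμl _ _ hb₀E]
      congr 2
      group
    · intro b _ hb
      have hnot : (s a)⁻¹ * g * s b ∉ E := by
        intro hmem
        apply hb
        rw [← hs b, hb₀]
        apply QuotientGroup.eq.2
        have h2 := E.inv_mem hmem
        have h3 : (s b)⁻¹ * (g⁻¹ * s a) = ((s a)⁻¹ * g * s b)⁻¹ := by group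
        rw [h3]; exact h2
      rw [hμ0 _ hnot, zero_mul]
    · intro hb
      exact absurd (Finset.mem_univ _) hb
  let ρ : Representation K G (G ⧸ E → K) :=
    { toFun := fun g => Matrix.toLin' (R g)
      map_one' := by rw [hR1, Matrix.toLin'_one]; rfl
      map_mul' := fun a b => by rw [hRmul, Matrix.toLin'_mul]; rfl }
  have hmain := kreal_of_rep ρ
  convert hmain using 1
  funext g
  show Cfsg.indFun E (fun e => ((lam e : ℂˣ) : ℂ)) g =
    ((LinearMap.trace K (G ⧸ E → K) (Matrix.toLin' (R g)) : K) : ℂ)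
  rw [trace_toLin'_eq, Cfsg.Agent.Lib.helper4.indFun_apply]
  -- the sum over `G` as a sum over cosets
  have hF : ∀ (a : G ⧸ E) (e : E), μ ((s a * (e : G))⁻¹ * g * (s a * (e : G))) =
      μ ((s a)⁻¹ * g * s a) := by
    intro a e
    have h1 : (s a * (e : G))⁻¹ * g * (s a * (e : G)) =
        ((e : G)⁻¹ * ((s a)⁻¹ * g * s a)) * (e : G) := by group
    rw [h1, hμr _ _ e.2, hμl _ _ (E.inv_mem e.2), mul_assoc, mul_comm, mul_assoc,
      ← hμl _ _ e.2, mul_inv_cancel, hμ1, mul_one]
  have hbij : Function.Bijective (fun p : (G ⧸ E) × E => s p.1 * (p.2 : G)) := by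
    constructor
    · rintro ⟨a, e⟩ ⟨a', e'⟩ h
      simp only at h
      have h1 : a = a' := by
        apply hsE
        have h2 : (s a)⁻¹ * s a' = (e : G) * (e' : G)⁻¹ := by
          rw [inv_mul_eq_iff_eq_mul, ← mul_assoc, h, mul_assoc, mul_inv_cancel, mul_one]
        rw [h2]
        exact E.mul_mem e.2 (E.inv_mem e'.2)
      subst h1
      have h2 : (e : G) = (e' : G) := mul_left_cancel h
      rw [Subtype.ext h2]
    · intro x
      have hx : (s (QuotientGroup.mk x))⁻¹ * x ∈ E := QuotientGroup.eq.1 (hs _)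
      exact ⟨(QuotientGroup.mk x, ⟨_, hx⟩), by simp⟩
  have hsum : ∑ x : G, Cfsg.extendByZero E (fun e => ((lam e : ℂˣ) : ℂ)) (x⁻¹ * g * x) =
      (Nat.card E : ℂ) * ∑ a : G ⧸ E, ((μ ((s a)⁻¹ * g * s a) : K) : ℂ) := by
    rw [← Fintype.sum_bijective _ hbij (fun p : (G ⧸ E) × E =>
      ((μ ((s p.1 * (p.2 : G))⁻¹ * g * (s p.1 * (p.2 : G))) : K) : ℂ)) _
      (fun p => hμext _)]
    rw [Fintype.sum_prod_type, Finset.mul_sum]
    apply Finset.sum_congr rfl
    intro a _
    simp only [hF]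
    rw [Finset.sum_const, Finset.card_univ, nsmul_eq_mul, Nat.card_eq_fintype_card]
  rw [hsum]
  have hE : (Nat.card E : ℂ) ≠ 0 := by exact_mod_cast (Nat.card_pos (α := E)).ne'
  rw [← mul_assoc, inv_mul_cancel₀ hE, one_mul, hR]
  simp [Matrix.trace]

end Monomial

end Cfsg.Agent.Lib.helper5
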