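import Mathlib
import Cfsg.Prelude.Def_LieTypeChar
import Cfsg.Agent.Lib.helper44.LODefs
import Cfsg.Agent.Lib.helper6.LOARITH

/-!
# S2363 pieces REE, TF4 (arithmetic cores, helper5)
-/

set_option autoImplicit false

namespace Cfsg.Agent.Lib.helper44.LO

open Cfsg

/-- `(A - 1) * (B + 1) < A * B` for `1 ≤ A ≤ B`. -/
theorem h5_lo_pair (A B : ℕ) (hA : 1 ≤ A) (hAB : A ≤ B) : (A - 1) * (B + 1) < A * B := by
  obtain ⟨a, rfl⟩ : ∃ a, A = a + 1 := ⟨A - 1, by omega⟩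
  rw [Nat.add_sub_cancel]
  nlinarith

/-- `p ∤ q ^ k - 1` when `p ∣ q`, `k ≠ 0`. -/
theorem h5_lo_ndvd_sub (p q : ℕ) (hp : p.Prime) (hpq : p ∣ q) (hq : 1 ≤ q) (k : ℕ) (hk : k ≠ 0) :
    ¬ p ∣ q ^ k - 1 := by
  intro hd
  have h1 : p ∣ q ^ k := dvd_trans hpq (dvd_pow_self q hk)
  have h2 : q ^ k - 1 + 1 = q ^ k := Nat.sub_add_cancel (Nat.one_le_pow _ _ hq)
  rw [← h2] at h1
  exact hp.one_lt.ne' (Nat.dvd_one.mp ((Nat.dvd_add_right hd).mp h1))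

/-- `p ∤ q ^ k + 1` when `p ∣ q`, `k ≠ 0`. -/
theorem h5_lo_ndvd_add (p q : ℕ) (hp : p.Prime) (hpq : p ∣ q) (k : ℕ) (hk : k ≠ 0) :
    ¬ p ∣ q ^ k + 1 := by
  intro hd
  have h1 : p ∣ q ^ k := dvd_trans hpq (dvd_pow_self q hk)
  exact hp.one_lt.ne' (Nat.dvd_one.mp ((Nat.dvd_add_right h1).mp hd))

/-- REE core. -/
theorem h5_lo_ree_core (p : ℕ) (hp : p.Prime) (f : ℕ) (hf : 1 ≤ f) (n : ℕ)
    (hn : n = (p ^ f) ^ 3 * (p ^ f - 1) * ((p ^ f) ^ 3 + 1)) : LOGood p n := by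
  set q := p ^ f with hqdef
  have hpq : p ∣ q := dvd_pow_self p (by omega)
  have hq2 : 2 ≤ q := by
    calc 2 ≤ p := hp.two_le
      _ = p ^ 1 := (pow_one p).symm
      _ ≤ p ^ f := Nat.pow_le_pow_right hp.pos hf
  have hs := h5_lo_ndvd_sub p q hp hpq (by omega) 1 one_ne_zero
  rw [pow_one] at hs
  refine lo_good hp f hf 1 n 3 ((q - 1) * (q ^ 3 + 1)) 4 ?_ ?_ ?_ ?_ (by norm_num) (by norm_num)
  · rw [hn]; ring
  · intro h
    exact hp.one_lt.ne' (Nat.dvd_one.mp h)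
  · intro h
    rcases (Nat.Prime.dvd_mul hp).mp h with h | h
    · exact hs h
    · exact h5_lo_ndvd_add p q hp hpq 3 (by norm_num) h
  · rw [one_mul]
    have h1 := h5_lo_pair q (q ^ 3) (by omega) (Nat.le_self_pow (by norm_num) q)
    calc (q - 1) * (q ^ 3 + 1) < q * q ^ 3 := h1
      _ = q ^ 4 := by ring

/-- TF4 core. -/
theorem h5_lo_tf4_core (p : ℕ) (hp : p.Prime) (f : ℕ) (hf : 1 ≤ f) (n : ℕ)
    (hn : n = (p ^ f) ^ 12 * (p ^ f - 1) * ((p ^ f) ^ 3 + 1) * ((p ^ f) ^ 4 - 1) *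
      ((p ^ f) ^ 6 + 1)) : LOGood p n := by
  set q := p ^ f with hqdef
  have hpq : p ∣ q := dvd_pow_self p (by omega)
  have hq2 : 2 ≤ q := by
    calc 2 ≤ p := hp.two_le
      _ = p ^ 1 := (pow_one p).symm
      _ ≤ p ^ f := Nat.pow_le_pow_right hp.pos hf
  have hs := h5_lo_ndvd_sub p q hp hpq (by omega) 1 one_ne_zero
  rw [pow_one] at hs
  refine lo_good hp f hf 1 n 12 ((q - 1) * (q ^ 3 + 1) * (q ^ 4 - 1) * (q ^ 6 + 1)) 14 ?_ ?_ ?_ ?_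
    (by norm_num) (by norm_num)
  · rw [hn]; ring
  · intro h
    exact hp.one_lt.ne' (Nat.dvd_one.mp h)
  · intro h
    rcases (Nat.Prime.dvd_mul hp).mp h with h | h
    · rcases (Nat.Prime.dvd_mul hp).mp h with h | h
      · rcases (Nat.Prime.dvd_mul hp).mp h with h | h
        · exact hs h
        · exact h5_lo_ndvd_add p q hp hpq 3 (by norm_num) h
      · exact h5_lo_ndvd_sub p q hp hpq (by omega) 4 (by norm_num) h
    · exact h5_lo_ndvd_add p q hp hpq 6 (by norm_num) h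
  · rw [one_mul]
    have h1 := h5_lo_pair q (q ^ 3) (by omega) (Nat.le_self_pow (by norm_num) q)
    have h2 := h5_lo_pair (q ^ 4) (q ^ 6) (Nat.one_le_pow _ _ (by omega))
      (Nat.pow_le_pow_right (by omega) (by norm_num))
    calc (q - 1) * (q ^ 3 + 1) * (q ^ 4 - 1) * (q ^ 6 + 1)
        = ((q - 1) * (q ^ 3 + 1)) * ((q ^ 4 - 1) * (q ^ 6 + 1)) := by ring
      _ < (q * q ^ 3) * (q ^ 4 * q ^ 6) := Nat.mul_lt_mul'' h1 h2
      _ = q ^ 14 := by ring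

end Cfsg.Agent.Lib.helper44.LO
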