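import Mathlib
import Cfsg.Agent.Lib.helper5.A5Cert

/-!
# One-point overlap (helper5)

Two permutations `u`, `w` of `p`-power order (`p ≥ 3`) whose supports meet in exactly one point `x`:
`u * w` is not of `p`-power order and every subgroup containing `u` and `w` is non-solvable
(`⁅u, w⁆` and `⁅u⁻¹, w⁻¹⁆` are 3-cycles sharing exactly the point `x`).
-/

set_option autoImplicit false

namespace Cfsg.Agent.Lib.helper5.A5Cert

open Equiv
open scoped commutatorElement

theorem h5_apply_inv {α : Type*} (f : Perm α) (z : α) : f (f⁻¹ z) = z := f.apply_symm_apply z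

theorem h5_inv_apply {α : Type*} (f : Perm α) (z : α) : f⁻¹ (f z) = z := f.symm_apply_apply z

/-- The commutator of two permutations whose moved sets meet only in `x`. -/
theorem h5_comm_apply {α : Type*} (u w : Perm α) (x : α) (hux : u x ≠ x) (hwx : w x ≠ x)
    (hdisj : ∀ y, u y ≠ y → w y ≠ y → y = x) :
    ⁅u, w⁆ x = u x ∧ ⁅u, w⁆ (u x) = w x ∧ ⁅u, w⁆ (w x) = x ∧
      ∀ y, y ≠ x → y ≠ u x → y ≠ w x → ⁅u, w⁆ y = y := by
  have key : ∀ y, ⁅u, w⁆ y = u (w (u⁻¹ (w⁻¹ y))) := by
    intro y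
    rw [commutatorElement_def]
    rfl
  have fu : ∀ z, w z ≠ z → z ≠ x → u z = z := fun z hz hzx =>
    by_contra fun h => hzx (hdisj z h hz)
  have fw : ∀ z, u z ≠ z → z ≠ x → w z = z := fun z hz hzx =>
    by_contra fun h => hzx (hdisj z hz h)
  have inv_fix : ∀ (f : Perm α) z, f z = z → f⁻¹ z = z := fun f z h =>
    Perm.inv_eq_iff_eq.mpr h.symm
  have inv_moved : ∀ (f : Perm α) z, f z ≠ z → f (f⁻¹ z) ≠ f⁻¹ z := by
    intro f z h h'
    rw [h5_apply_inv] at h'
    apply h
    have h2 := congrArg f h'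
    rw [h5_apply_inv] at h2
    exact h2
  have app_moved : ∀ (f : Perm α) z, f z ≠ z → f (f z) ≠ f z := fun f z h h' =>
    h (f.injective h')
  have inv_ne : ∀ (f : Perm α) z, f z ≠ z → f⁻¹ z ≠ z := fun f z h h' =>
    h (Perm.inv_eq_iff_eq.mp h').symm
  refine ⟨?_, ?_, ?_, ?_⟩
  · rw [key, inv_fix u _ (fu _ (inv_moved w x hwx) (inv_ne w x hwx)), h5_apply_inv]
  · rw [key, inv_fix w _ (fw _ (app_moved u x hux) hux), h5_inv_apply,
      fu _ (app_moved w x hwx) hwx]
  · rw [key, h5_inv_apply, fw _ (inv_moved u x hux) (inv_ne u x hux), h5_apply_inv]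
  · intro y h1 h2 h3
    rw [key]
    by_cases hwy : w y = y
    · rw [inv_fix w y hwy]
      by_cases huy : u y = y
      · rw [inv_fix u y huy, hwy, huy]
      · have hne : u⁻¹ y ≠ x := fun h => h2 (Perm.inv_eq_iff_eq.mp h)
        rw [fw _ (inv_moved u y huy) hne, h5_apply_inv]
    · have hne : w⁻¹ y ≠ x := fun h => h3 (Perm.inv_eq_iff_eq.mp h)
      rw [inv_fix u _ (fu _ (inv_moved w y hwy) hne), h5_apply_inv, fu y hwy h1]

/-- Non-solvability from a one-point overlap (no finiteness needed). -/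
theorem h5_overlap_not_solvable {α : Type*} (u w : Perm α) (x : α) (hux : u x ≠ x) (hwx : w x ≠ x)
    (hdisj : ∀ y, u y ≠ y → w y ≠ y → y = x) (hu2 : u (u x) ≠ x) (hw2 : w (w x) ≠ x)
    (H : Subgroup (Perm α)) (huH : u ∈ H) (hwH : w ∈ H) : ¬ Group.IsSolvable ↥H := by
  have hux' : u⁻¹ x ≠ x := fun h => hux (Perm.inv_eq_iff_eq.mp h).symm
  have hwx' : w⁻¹ x ≠ x := fun h => hwx (Perm.inv_eq_iff_eq.mp h).symm
  have mv : ∀ (f : Perm α) z, f⁻¹ z ≠ z → f z ≠ z := fun f z h h' =>
    h (Perm.inv_eq_iff_eq.mpr h'.symm)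
  have hdisj' : ∀ y, u⁻¹ y ≠ y → w⁻¹ y ≠ y → y = x := fun y h1 h2 =>
    hdisj y (mv u y h1) (mv w y h2)
  have muu : u (u x) ≠ u x := fun h => hux (u.injective h)
  have mww : w (w x) ≠ w x := fun h => hwx (w.injective h)
  have muu' : u (u⁻¹ x) ≠ u⁻¹ x := by
    rw [h5_apply_inv]; exact fun h => hux' h.symm
  have mww' : w (w⁻¹ x) ≠ w⁻¹ x := by
    rw [h5_apply_inv]; exact fun h => hwx' h.symm
  -- the six points are as different as needed
  have n1 : w x ≠ u x := fun h => hux (hdisj (u x) muu (by rw [← h]; exact mww))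
  have n2 : u⁻¹ x ≠ u x := fun h => hu2 (by rw [← h, h5_apply_inv])
  have n3 : u⁻¹ x ≠ w x := fun h => hux' (hdisj _ muu' (by rw [h]; exact mww))
  have n4 : w⁻¹ x ≠ u x := fun h => hwx' (hdisj _ (by rw [h]; exact muu) mww')
  have n5 : w⁻¹ x ≠ w x := fun h => hw2 (by rw [← h, h5_apply_inv])
  have n6 : w⁻¹ x ≠ u⁻¹ x := fun h => hwx' (hdisj _ (by rw [h]; exact muu') mww')
  obtain ⟨s1, s2, s3, s4⟩ := h5_comm_apply u w x hux hwx hdisj
  obtain ⟨t1, t2, t3, t4⟩ := h5_comm_apply u⁻¹ w⁻¹ x hux' hwx' hdisj'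
  have hσH : ⁅u, w⁆ ∈ H := by
    rw [commutatorElement_def]
    exact H.mul_mem (H.mul_mem (H.mul_mem huH hwH) (H.inv_mem huH)) (H.inv_mem hwH)
  have hτH : ⁅u⁻¹, w⁻¹⁆ ∈ H := by
    rw [commutatorElement_def]
    exact H.mul_mem (H.mul_mem (H.mul_mem (H.inv_mem huH) (H.inv_mem hwH))
      (H.inv_mem (H.inv_mem huH))) (H.inv_mem (H.inv_mem hwH))
  exact h5_not_solvable_of_points H ⁅u, w⁆ ⁅u⁻¹, w⁻¹⁆ hσH hτH x (u x) (w x) (u⁻¹ x) (w⁻¹ x)
    hux.symm s1 s2 s3 (s4 _ hux' n2 n3) (s4 _ hwx' n4 n5) s4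
    t1 t2 t3 (t4 _ hux n2.symm n4.symm) (t4 _ hwx n3.symm n5.symm) t4

/-- The support of a permutation of `p`-power order has cardinality divisible by `p`. -/
theorem h5_dvd_card_support {α : Type*} [Fintype α] [DecidableEq α] (p : ℕ) (hp : p.Prime)
    (g : Perm α) (hg : ∃ k : ℕ, orderOf g = p ^ k) : p ∣ g.support.card := by
  obtain ⟨k, hk⟩ := hg
  rw [← Perm.sum_cycleType]
  apply Multiset.dvd_sum
  intro n hn
  have h1 : n ∣ p ^ k := hk ▸ Perm.dvd_of_mem_cycleType hn
  obtain ⟨j, -, rfl⟩ := (Nat.dvd_prime_pow hp).mp h1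
  have h2 := Perm.two_le_of_mem_cycleType hn
  have hj : j ≠ 0 := by
    rintro rfl
    simp at h2
  exact dvd_pow_self p hj

/-- ONE-POINT OVERLAP: the product is not a `p`-element and the generated group is not solvable. -/
theorem h5_overlap {α : Type*} [Fintype α] [DecidableEq α] (p : ℕ) (hp : p.Prime) (hp3 : 3 ≤ p)
    (u w : Perm α) (hu : ∃ k : ℕ, orderOf u = p ^ k) (hw : ∃ k : ℕ, orderOf w = p ^ k) (x : α)
    (hx : u.support ∩ w.support = {x}) :
    (¬ ∃ k : ℕ, orderOf (u * w) = p ^ k) ∧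
      ∀ H : Subgroup (Perm α), u ∈ H → w ∈ H → ¬ Group.IsSolvable ↥H := by
  have hxin : x ∈ u.support ∩ w.support := by rw [hx]; exact Finset.mem_singleton_self x
  have hux : u x ≠ x := Perm.mem_support.mp (Finset.mem_inter.mp hxin).1
  have hwx : w x ≠ x := Perm.mem_support.mp (Finset.mem_inter.mp hxin).2
  have hdisj : ∀ y, u y ≠ y → w y ≠ y → y = x := by
    intro y h1 h2
    have : y ∈ u.support ∩ w.support :=
      Finset.mem_inter.mpr ⟨Perm.mem_support.mpr h1, Perm.mem_support.mpr h2⟩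
    rw [hx] at this
    exact Finset.mem_singleton.mp this
  have hodd : ∀ f : Perm α, (∃ k : ℕ, orderOf f = p ^ k) → f x ≠ x → f (f x) ≠ x := by
    intro f ⟨k, hk⟩ hfx h
    have hpo : Odd (p ^ k) := (hp.odd_of_ne_two (by omega)).pow
    obtain ⟨j, hj⟩ := hpo
    have h2 : (f ^ 2) x = x := by
      rw [pow_two, Perm.mul_apply]; exact h
    have h3 : ((f ^ 2) ^ j) x = x := Perm.pow_apply_eq_self_of_apply_eq_self h2 j
    have h4 : f ^ (2 * j + 1) = 1 := by
      rw [← hj, ← hk]; exact pow_orderOf_eq_one f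
    have h5 : (f ^ (2 * j + 1)) x = f x := by
      rw [pow_succ', pow_mul, Perm.mul_apply, h3]
    rw [h4, Perm.one_apply] at h5
    exact hfx h5.symm
  refine ⟨?_, fun H huH hwH =>
    h5_overlap_not_solvable u w x hux hwx hdisj (hodd u hu hux) (hodd w hw hwx) H huH hwH⟩
  intro huw
  have d1 := h5_dvd_card_support p hp u hu
  have d2 := h5_dvd_card_support p hp w hw
  have d3 := h5_dvd_card_support p hp (u * w) huw
  have fu : ∀ z, w z ≠ z → z ≠ x → u z = z := fun z hz hzx =>
    by_contra fun h => hzx (hdisj z h hz)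
  have hsupp : (u * w).support = u.support ∪ w.support := by
    ext y
    rw [Finset.mem_union, Perm.mem_support, Perm.mem_support, Perm.mem_support, Perm.mul_apply]
    constructor
    · intro h
      by_contra hcon
      have hc1 : u y = y := not_not.mp (not_or.mp hcon).1
      have hc2 : w y = y := not_not.mp (not_or.mp hcon).2
      rw [hc2, hc1] at h
      exact h rfl
    · rintro (h | h)
      · by_cases hwy : w y = y
        · rw [hwy]; exact h
        · have hyx : y = x := hdisj y h hwy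
          rw [hyx, fu (w x) (fun h' => hwx (w.injective h')) hwx]
          exact hwx
      · by_cases hyx : y = x
        · rw [hyx, fu (w x) (fun h' => hwx (w.injective h')) hwx]
          exact hwx
        · by_cases hwyx : w y = x
          · rw [hwyx]
            intro h'
            have huy : u y = y := fu y h hyx
            have : u (u x) = u x := by rw [h', huy]
            exact hux (u.injective this)
          · rw [fu (w y) (fun h' => h (w.injective h')) hwyx]
            exact h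
  have hcard := Finset.card_union_add_card_inter u.support w.support
  rw [← hsupp, hx, Finset.card_singleton] at hcard
  have h1 : p ∣ 1 := by
    have h2 : p ∣ (u * w).support.card + 1 := by rw [hcard]; exact dvd_add d1 d2
    exact (Nat.dvd_add_right d3).mp h2
  have := Nat.le_of_dvd one_pos h1
  omega

end Cfsg.Agent.Lib.helper5.A5Cert
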