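import Mathlib
import Cfsg.Agent.Lib.helper68.HallPet
import Cfsg.Agent.Lib.helper79.PearlX

/-!
# S5239 sub-piece NUA (core, helper5): some `u ∈ P_2 ∖ P_(n-1)` commutes with `h`
(the facts ZC and FRAT of the main skeleton are hypotheses here)
-/

set_option autoImplicit false

namespace Cfsg.Agent.Lib.helper79.P3

open Cfsg.Agent.Lib.helper68 Cfsg.Agent.Lib.helper79

/-- NUA core. -/
theorem h5_p3_nu_a_core {G : Type*} [Group G] [Finite G] (n : ℕ) (hn : 4 ≤ n) (hG : Nat.card G = 3 ^ n)
    (x : G) (hC : Nat.card (Subgroup.centralizer ({x} : Set G)) = 3 ^ 2)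
    (hZ : Nat.card (Subgroup.center G) = 3)
    (hF : ∀ H : Subgroup G, H ⊔ gam G 2 = ⊤ → H = ⊤)
    (h : G) (hh : h ∉ gam G 2)
    (hCh : Nat.card (Subgroup.centralizer ({h} : Set G)) ≠ 3 ^ 2) :
    ∃ u ∈ gam G 2, u ∉ gam G (n - 1) ∧ com u h = 1 := by
  classical
  have : Fact (Nat.Prime 3) := ⟨Nat.prime_three⟩
  have h3 : Nat.Prime 3 := Nat.prime_three
  have hhC : h ∈ Subgroup.centralizer ({h} : Set G) := by
    rw [Subgroup.mem_centralizer_iff]
    intro g hg
    rw [Set.mem_singleton_iff] at hg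
    rw [hg]
  have hP2 : Nat.card (gam G 2) = 3 ^ (n - 2) :=
    h79_px_card 3 n hG x hC (by omega) 2 le_rfl (by omega)
  have hPn1 : Nat.card (gam G (n - 1)) = 3 := by
    have h1 := h79_px_card 3 n hG x hC (by omega) (n - 1) (by omega) (by omega)
    have e : n - (n - 1) = 1 := by omega
    rw [h1, e, pow_one]
  have hPnbot : gam G n = ⊥ := by
    have h1 := h79_px_card 3 n hG x hC (by omega) n (by omega) le_rfl
    rw [Nat.sub_self, pow_zero] at h1
    exact Subgroup.card_eq_one.mp h1
  have hx1 : ∀ g : G, g ∈ gam G 1 := by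
    intro g
    unfold gam
    simp
  have hcen : gam G (n - 1) ≤ Subgroup.center G := by
    intro m hm
    rw [Subgroup.mem_center_iff]
    intro g
    have h1 : com m g ∈ gam G (n - 1 + 1) := com_mem hm (hx1 g)
    have e : n - 1 + 1 = n := by omega
    rw [e, hPnbot, Subgroup.mem_bot] at h1
    unfold com at h1
    have h2 : m * g = g * m * (m⁻¹ * g⁻¹ * m * g) := by group
    rw [h1, mul_one] at h2
    exact h2.symm
  have hceq : gam G (n - 1) = Subgroup.center G :=
    Subgroup.eq_of_le_of_card_ge hcen (by rw [hZ, hPn1])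
  have hhnc : h ∉ Subgroup.center G := by
    intro hc
    rw [← hceq] at hc
    exact hh (gam_antitone (by omega : 2 ≤ n - 1) hc)
  have hCtop : Subgroup.centralizer ({h} : Set G) ≠ ⊤ := by
    intro ht
    apply hhnc
    rw [Subgroup.mem_center_iff]
    intro g
    have hg : g ∈ Subgroup.centralizer ({h} : Set G) := by rw [ht]; trivial
    rw [Subgroup.mem_centralizer_iff] at hg
    exact (hg h (Set.mem_singleton h)).symm
  have hZC : Subgroup.center G ≤ Subgroup.centralizer ({h} : Set G) :=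
    Subgroup.center_le_centralizer _
  have hCdvd : Nat.card (Subgroup.centralizer ({h} : Set G)) ∣ 3 ^ n :=
    hG ▸ Subgroup.card_subgroup_dvd_card _
  obtain ⟨k, hkn, hk⟩ := (Nat.dvd_prime_pow h3).mp hCdvd
  have hk3 : 3 ≤ k := by
    by_contra hlt
    have hk2 : k ≠ 2 := by
      rintro rfl
      exact hCh hk
    have hk1 : k ≤ 1 := by omega
    have hle : Nat.card (Subgroup.centralizer ({h} : Set G)) ≤ 3 := by
      rw [hk]
      calc 3 ^ k ≤ 3 ^ 1 := Nat.pow_le_pow_right (by norm_num) hk1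
        _ = 3 := by norm_num
    have heq : Subgroup.center G = Subgroup.centralizer ({h} : Set G) :=
      Subgroup.eq_of_le_of_card_ge hZC (by rw [hZ]; exact hle)
    exact hhnc (heq ▸ hhC)
  have hC27 : 27 ≤ Nat.card (Subgroup.centralizer ({h} : Set G)) := by
    rw [hk]
    calc 27 = 3 ^ 3 := by norm_num
      _ ≤ 3 ^ k := Nat.pow_le_pow_right (by norm_num) hk3
  have hsup : Subgroup.centralizer ({h} : Set G) ⊔ gam G 2 ≠ ⊤ := fun ht => hCtop (hF _ ht)
  have hsupcard : Nat.card (Subgroup.centralizer ({h} : Set G) ⊔ gam G 2 : Subgroup G) ≤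
      3 ^ (n - 1) := by
    have hd : Nat.card (Subgroup.centralizer ({h} : Set G) ⊔ gam G 2 : Subgroup G) ∣ 3 ^ n :=
      hG ▸ Subgroup.card_subgroup_dvd_card _
    obtain ⟨j, hjn, hj⟩ := (Nat.dvd_prime_pow h3).mp hd
    have hjne : j ≠ n := by
      rintro rfl
      exact hsup (Subgroup.eq_top_of_card_eq _ (by rw [hj, hG]))
    rw [hj]
    exact Nat.pow_le_pow_right (by norm_num) (by omega)
  have e1 : Nat.card (gam G 2) * (gam G 2).relIndex (Subgroup.centralizer ({h} : Set G)) =
      Nat.card (Subgroup.centralizer ({h} : Set G) ⊔ gam G 2 : Subgroup G) := by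
    have h1 := Subgroup.relIndex_mul_relIndex (⊥ : Subgroup G) (gam G 2)
      (Subgroup.centralizer ({h} : Set G) ⊔ gam G 2) bot_le le_sup_right
    rw [Subgroup.relIndex_bot_left, Subgroup.relIndex_bot_left, Subgroup.relIndex_sup_right] at h1
    exact h1
  have e2 : Nat.card (gam G 2 ⊓ Subgroup.centralizer ({h} : Set G) : Subgroup G) *
      (gam G 2).relIndex (Subgroup.centralizer ({h} : Set G)) =
      Nat.card (Subgroup.centralizer ({h} : Set G)) := by
    have h1 := Subgroup.relIndex_mul_relIndex (⊥ : Subgroup G)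
      (gam G 2 ⊓ Subgroup.centralizer ({h} : Set G)) (Subgroup.centralizer ({h} : Set G))
      bot_le inf_le_right
    rw [Subgroup.relIndex_bot_left, Subgroup.relIndex_bot_left, Subgroup.inf_relIndex_right] at h1
    exact h1
  have hr3 : (gam G 2).relIndex (Subgroup.centralizer ({h} : Set G)) ≤ 3 := by
    rw [hP2] at e1
    have h1 : 3 ^ (n - 2) * (gam G 2).relIndex (Subgroup.centralizer ({h} : Set G)) ≤
        3 ^ (n - 2) * 3 := by
      rw [e1]
      calc Nat.card (Subgroup.centralizer ({h} : Set G) ⊔ gam G 2 : Subgroup G) ≤ 3 ^ (n - 1) :=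
            hsupcard
        _ = 3 ^ (n - 2) * 3 := by
            rw [← pow_succ]
            congr 1
            omega
    exact Nat.le_of_mul_le_mul_left h1 (pow_pos (by norm_num) _)
  have hinf9 : 9 ≤ Nat.card (gam G 2 ⊓ Subgroup.centralizer ({h} : Set G) : Subgroup G) := by
    by_contra hlt
    have h8 : Nat.card (gam G 2 ⊓ Subgroup.centralizer ({h} : Set G) : Subgroup G) ≤ 8 := by omega
    have h24 : Nat.card (Subgroup.centralizer ({h} : Set G)) ≤ 8 * 3 := by
      rw [← e2]
      exact Nat.mul_le_mul h8 hr3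
    omega
  by_contra hno
  push_neg at hno
  have hle : gam G 2 ⊓ Subgroup.centralizer ({h} : Set G) ≤ gam G (n - 1) := by
    intro u hu
    by_contra hun
    have hu2 : u ∈ gam G 2 := hu.1
    have huC : u ∈ Subgroup.centralizer ({h} : Set G) := hu.2
    apply hno u hu2 hun
    rw [Subgroup.mem_centralizer_iff] at huC
    have hcomm := huC h (Set.mem_singleton h)
    unfold com
    calc u⁻¹ * h⁻¹ * u * h = u⁻¹ * h⁻¹ * (u * h) := by group
      _ = u⁻¹ * h⁻¹ * (h * u) := by rw [hcomm]
      _ = 1 := by group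
  have hcle := Subgroup.card_le_of_le hle
  omega

end Cfsg.Agent.Lib.helper79.P3
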