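import Mathlib
import Cfsg.Agent.Lib.helper65.PearlBasic
import Cfsg.Agent.Lib.helper43.PearlD1

/-!
# S5238L piece A1 (racer copy by helper5): removing an atom does not change the high differences
-/

set_option autoImplicit false

namespace Cfsg.Agent.Lib.helper65.PearlPow

open Cfsg.Agent.Lib.helper68

variable {H : Type*} [Group H]

/-- The inductive claim of A1: for `i ≤ k`, `atom_{k-i}⁻¹ * dl^[i] s` is related to `dl^[i] s'`. -/
theorem h5_atom_step {v : ℕ} (hv : 1 ≤ v) {s : ℕ → H} (hs : PolySeq v s) (k : ℕ) (a : H)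
    (ha : a ∈ gam H (k + v)) (i : ℕ) (hi : i ≤ k) :
    Rel (v + i + 1) (fun n => (a ^ (n.choose (k - i)))⁻¹ * dl^[i] s n)
      (dl^[i] (fun n => (a ^ (n.choose k))⁻¹ * s n)) := by
  induction i with
  | zero => exact rel_of_eq _ rfl
  | succ i ih =>
    have ih' := ih (by omega)
    have hrp : PolySeq (v + i) (dl^[i] s) := polyseq_dl_iter hs i
    obtain ⟨m, hm⟩ : ∃ m, k - i = m + 1 := ⟨k - i - 1, by omega⟩
    have hm' : k - (i + 1) = m := by omega
    have hatom1 : PolySeq (v + i) (fun n => a ^ (n.choose (m + 1))) :=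
      PolySeq.atom (m + 1) (v + i) a (by
        have : m + 1 + (v + i) = k + v := by omega
        rw [this]; exact ha)
    have hatom0 : PolySeq (v + i + 1) (fun n => a ^ (n.choose m)) :=
      PolySeq.atom m (v + i + 1) a (by
        have : m + (v + i + 1) = k + v := by omega
        rw [this]; exact ha)
    have hA : PolySeq (v + i) (fun n => (a ^ (n.choose (m + 1)))⁻¹ * dl^[i] s n) :=
      PolySeq.mul (PolySeq.inv hatom1) hrp
    rw [hm] at ih'
    have h1 := rel_dl hA ih'
    rw [Function.iterate_succ_apply', Function.iterate_succ_apply', hm']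
    have hw : v + (i + 1) + 1 = v + i + 1 + 1 := by omega
    rw [hw]
    refine rel_trans ?_ h1
    unfold Rel
    have e : (fun n => ((a ^ (n.choose m))⁻¹ * dl (dl^[i] s) n)⁻¹ *
          dl (fun n => (a ^ (n.choose (m + 1)))⁻¹ * dl^[i] s n) n) =
        fun n => (dl (dl^[i] s) n)⁻¹ * com ((a ^ (n.choose m))⁻¹) (dl^[i] s n) *
          dl (dl^[i] s) n := by
      funext n
      have hc : a ^ ((n + 1).choose (m + 1)) = a ^ (n.choose m) * a ^ (n.choose (m + 1)) := by
        rw [Nat.choose_succ_succ', pow_add]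
      unfold dl com
      simp only []
      rw [hc]
      generalize a ^ (n.choose m) = X
      generalize a ^ (n.choose (m + 1)) = Y
      group
    rw [e]
    have hcom : PolySeq (v + i + 1 + (v + i)) (fun n => com ((a ^ (n.choose m))⁻¹) (dl^[i] s n)) :=
      PolySeq.comm (PolySeq.inv hatom0) hrp
    have hcom' : PolySeq (v + i + 1 + 1) (fun n => com ((a ^ (n.choose m))⁻¹) (dl^[i] s n)) :=
      PolySeq.mono (by omega) hcom
    exact polyseq_conj hcom' (PolySeq.diff hrp)

/-- A1. -/
theorem h5_atom_remove {v : ℕ} (hv : 1 ≤ v) {s : ℕ → H} (hs : PolySeq v s) (k : ℕ) (hk : 1 ≤ k)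
    (a : H) (ha : a ∈ gam H (k + v)) (j : ℕ) (hj : k + 1 ≤ j) :
    Rel (v + j + 1) (dl^[j] s) (dl^[j] (fun n => (a ^ (n.choose k))⁻¹ * s n)) := by
  have hbase : Rel (v + (k + 1) + 1) (dl^[k + 1] s)
      (dl^[k + 1] (fun n => (a ^ (n.choose k))⁻¹ * s n)) := by
    have h0 := h5_atom_step hv hs k a ha k le_rfl
    rw [Nat.sub_self] at h0
    have hA : PolySeq (v + k) (fun n => (a ^ (n.choose 0))⁻¹ * dl^[k] s n) :=
      PolySeq.mul (PolySeq.inv (PolySeq.atom 0 (v + k) a (by
        have : 0 + (v + k) = k + v := by omega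
        rw [this]; exact ha))) (polyseq_dl_iter hs k)
    have h1 := rel_dl hA h0
    rw [Function.iterate_succ_apply', Function.iterate_succ_apply']
    have e : dl (fun n => (a ^ (n.choose 0))⁻¹ * dl^[k] s n) = dl (dl^[k] s) := by
      funext n
      unfold dl
      simp only [Nat.choose_zero_right, pow_one]
      group
    rw [e] at h1
    have hw : v + (k + 1) + 1 = v + k + 1 + 1 := by omega
    rw [hw]
    exact h1
  obtain ⟨t, rfl⟩ : ∃ t, j = k + 1 + t := ⟨j - (k + 1), by omega⟩
  clear hj
  induction t with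
  | zero => exact hbase
  | succ t ih =>
    have h1 := rel_dl (polyseq_dl_iter hs (k + 1 + t)) ih
    have e : k + 1 + (t + 1) = (k + 1 + t) + 1 := rfl
    rw [e, Function.iterate_succ_apply', Function.iterate_succ_apply']
    have hw : v + (k + 1 + t + 1) + 1 = v + (k + 1 + t) + 1 + 1 := by omega
    rw [hw]
    exact h1

end Cfsg.Agent.Lib.helper65.PearlPow
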