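import Mathlib
import Cfsg.Agent.Lib.helper68.HallPet

/-!
# S5238 block G (helper33's split), leaf SUB (helper5): the lower central series of `gam G i`
-/

set_option autoImplicit false

namespace Cfsg.Agent.Lib.helper33.PearlG

open Cfsg.Agent.Lib.helper68

open scoped commutatorElement

variable {G : Type*} [Group G]

/-- General form: the lower central series of a subgroup `T ≤ gam G j`. -/
theorem h5_gam_sub_le_gen (T : Subgroup G) (j : ℕ) (h : T ≤ gam G j) (k : ℕ) :
    gam ↥T (k + 1) ≤ (gam G ((k + 1) * j)).comap T.subtype := by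
  induction k with
  | zero =>
    intro a _
    rw [Subgroup.mem_comap]
    simp only [zero_add, one_mul]
    exact h a.2
  | succ k ih =>
    have e : gam ↥T (k + 1 + 1) = ⁅gam ↥T (k + 1), (⊤ : Subgroup ↥T)⁆ := rfl
    rw [e, Subgroup.commutator_le]
    intro g₁ hg₁ g₂ _
    rw [Subgroup.mem_comap]
    have h1 : (g₁ : G) ∈ gam G ((k + 1) * j) := ih hg₁
    have h2 : (g₂ : G) ∈ gam G j := h g₂.2
    have h3 : ⁅(g₁ : G), (g₂ : G)⁆ ∈ gam G ((k + 1) * j + j) :=
      gam_comm_le _ _ (Subgroup.commutator_mem_commutator h1 h2)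
    have e2 : (k + 1 + 1) * j = (k + 1) * j + j := by ring
    rw [e2]
    exact h3

/-- SUB. -/
theorem gam_sub_le (i k : ℕ) (hk : 1 ≤ k) (a : ↥(gam G i)) (ha : a ∈ gam ↥(gam G i) k) :
    (a : G) ∈ gam G (k * i) := by
  obtain ⟨k', rfl⟩ : ∃ k', k = k' + 1 := ⟨k - 1, by omega⟩
  exact h5_gam_sub_le_gen (gam G i) i le_rfl k' ha

end Cfsg.Agent.Lib.helper33.PearlG
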