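import Mathlib
import Cfsg.Prelude.Def_Characters
import Cfsg.Agent.Lib.helper4.CharTheory
import Cfsg.Agent.Lib.helper4.CharDecomp
import Cfsg.Agent.Lib.helper4.Regular
import Cfsg.Agent.Lib.helper4.Burnside2

set_option autoImplicit false
set_option linter.style.haveILetI false

/-!
# Irreducible characters of a finite power `Q → M` of a finite group (helper5)

* `pi_isCharacter`, `pi_isIrrCharacter`: tensor products of (irreducible) characters;
* `pi_classInner`: inner product of tensor products is the product of inner products;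
* `pi_irr_exists`: every irreducible character of `Q → M` is a tensor product of irreducibles;
* `pi_irr_unique`: the tensor factors are unique.
-/

namespace Cfsg.Agent.Lib.helper5

open Cfsg Cfsg.Agent.Lib.helper4
open scoped ComplexConjugate

section PiIrr

variable {Q : Type*} [Fintype Q] [DecidableEq Q] {M : Type*} [Group M] [Fintype M]

theorem pi_isCharacter (ψ : Q → M → ℂ) (h : ∀ q, IsCharacter M (ψ q)) :
    IsCharacter (Q → M) (fun f => ∏ q, ψ q (f q)) := by
  classical
  have key : ∀ s : Finset Q, IsCharacter (Q → M) (fun f => ∏ q ∈ s, ψ q (f q)) := by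
    intro s
    induction s using Finset.induction_on with
    | empty =>
      simpa using isCharacter_of_isIrrCharacter (isIrrCharacter_one (G := Q → M))
    | insert a s ha ih =>
      have h1 : IsCharacter (Q → M) (fun f => ψ a (f a)) :=
        isCharacter_comp (Pi.evalMonoidHom (fun _ => M) a) (h a)
      have h2 := isCharacter_mul h1 ih
      convert h2 using 1
      funext f
      simp [Finset.prod_insert ha]
  exact key Finset.univ

theorem pi_classInner (a b : Q → M → ℂ) :
    classInner (fun f : Q → M => ∏ q, a q (f q)) (fun f => ∏ q, b q (f q)) =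
      ∏ q, classInner (a q) (b q) := by
  unfold classInner
  rw [Finset.prod_mul_distrib, Fintype.prod_sum, Finset.prod_const, Finset.card_univ,
    Nat.card_fun, Nat.card_eq_fintype_card (α := Q), Nat.cast_pow, inv_pow]
  congr 1
  refine Finset.sum_congr rfl fun f _ => ?_
  rw [map_prod, Finset.prod_mul_distrib]

theorem pi_isIrrCharacter (ψ : Q → M → ℂ) (h : ∀ q, IsIrrCharacter M (ψ q)) :
    IsIrrCharacter (Q → M) (fun f => ∏ q, ψ q (f q)) := by
  apply isIrrCharacter_of_isCharacter_of_norm_one
    (pi_isCharacter ψ fun q => isCharacter_of_isIrrCharacter (h q))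
  rw [pi_classInner]
  exact Finset.prod_eq_one fun q _ => classInner_irr_self (h q)

theorem pi_irr_unique (a b : Q → M → ℂ) (ha : ∀ q, IsIrrCharacter M (a q))
    (hb : ∀ q, IsIrrCharacter M (b q))
    (h : (fun f : Q → M => ∏ q, a q (f q)) = fun f => ∏ q, b q (f q)) : a = b := by
  funext q
  by_contra hne
  have h1 : classInner (fun f : Q → M => ∏ q, a q (f q)) (fun f => ∏ q, b q (f q)) = 1 := by
    rw [← h]; exact classInner_irr_self (pi_isIrrCharacter a ha)
  rw [pi_classInner] at h1
  have h2 : ∏ q, classInner (a q) (b q) = 0 :=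
    Finset.prod_eq_zero (Finset.mem_univ q) (classInner_irr_ne (ha q) (hb q) hne)
  rw [h2] at h1
  exact zero_ne_one h1

theorem pi_irr_exists (θ : (Q → M) → ℂ) (hθ : IsIrrCharacter (Q → M) θ) :
    ∃ ψ : Q → M → ℂ, (∀ q, IsIrrCharacter M (ψ q)) ∧ θ = fun f => ∏ q, ψ q (f q) := by
  classical
  haveI : Fintype (IrrCharacter M) := Fintype.ofFinite _
  by_contra hcon
  push Not at hcon
  have hcard : (Nat.card M : ℂ) ≠ 0 := Nat.cast_ne_zero.mpr Nat.card_pos.ne'
  have h0 : ∀ ψ : Q → IrrCharacter M,
      ∑ f : Q → M, θ f * conj (∏ q, (ψ q : M → ℂ) (f q)) = 0 := by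
    intro ψ
    have hne := hcon (fun q => (ψ q : M → ℂ)) (fun q => (ψ q).2)
    have h1 := classInner_irr_ne hθ (pi_isIrrCharacter _ fun q => (ψ q).2) hne
    unfold classInner at h1
    rcases mul_eq_zero.mp h1 with h | h
    · exfalso
      have : (Nat.card (Q → M) : ℂ) ≠ 0 := Nat.cast_ne_zero.mpr Nat.card_pos.ne'
      exact this (inv_eq_zero.mp h)
    · exact h
  have hreg : ∀ f : Q → M,
      ∑ ψ : Q → IrrCharacter M, ∏ q, ((ψ q : M → ℂ) 1 * (ψ q : M → ℂ) (f q)) =
        if f = 1 then (Nat.card M : ℂ) ^ (Fintype.card Q) else 0 := by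
    intro f
    have hps := Fintype.prod_sum
      (fun (q : Q) (ξ : IrrCharacter M) => (ξ : M → ℂ) 1 * (ξ : M → ℂ) (f q))
    rw [← hps]
    simp_rw [sum_irr_degree_mul]
    by_cases hf : f = 1
    · subst hf
      simp
    · rw [if_neg hf]
      obtain ⟨q, hq⟩ : ∃ q, f q ≠ 1 := by
        by_contra hh
        push Not at hh
        exact hf (funext hh)
      exact Finset.prod_eq_zero (Finset.mem_univ q) (if_neg hq)
  have h1 : ∑ f : Q → M, θ f *
      conj (∑ ψ : Q → IrrCharacter M, ∏ q, ((ψ q : M → ℂ) 1 * (ψ q : M → ℂ) (f q))) =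
      θ 1 * (Nat.card M : ℂ) ^ (Fintype.card Q) := by
    simp_rw [hreg]
    rw [Finset.sum_eq_single 1]
    · simp
    · intro f _ hf
      simp [hf]
    · simp
  have h2 : ∑ f : Q → M, θ f *
      conj (∑ ψ : Q → IrrCharacter M, ∏ q, ((ψ q : M → ℂ) 1 * (ψ q : M → ℂ) (f q))) = 0 := by
    simp_rw [map_sum, Finset.mul_sum]
    rw [Finset.sum_comm]
    apply Finset.sum_eq_zero
    intro ψ _
    have h3 : ∀ f : Q → M, θ f * conj (∏ q, ((ψ q : M → ℂ) 1 * (ψ q : M → ℂ) (f q))) =
        conj (∏ q, (ψ q : M → ℂ) 1) * (θ f * conj (∏ q, (ψ q : M → ℂ) (f q))) := by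
      intro f
      rw [Finset.prod_mul_distrib, map_mul]
      ring
    simp_rw [h3]
    rw [← Finset.mul_sum, h0 ψ, mul_zero]
  rw [h1] at h2
  rcases mul_eq_zero.mp h2 with h | h
  · exact irr_degree_ne_zero hθ h
  · exact pow_ne_zero _ hcard h

end PiIrr

end Cfsg.Agent.Lib.helper5
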