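import Mathlib
import Cfsg.Prelude.Def_GeometricClasses
import Cfsg.Agent.Lib.helper24.SfoDefs

set_option autoImplicit false

namespace Cfsg.Agent.Lib.helper2

open Cfsg.Geo Matrix Cfsg.Agent.Lib.helper24

/-- EVEN (racer copy by helper5): a matrix whose square is a nonsquare scalar lives in even
dimension (determinant argument). -/
theorem h5_qfu_even_card {F : Type*} [Field F] {ι : Type} [Fintype ι] [DecidableEq ι]
    (δ : F) (hδ : ∀ r : F, r ^ 2 ≠ δ + 0 * r) (κ : Matrix ι ι F)
    (hκ : κ * κ = δ • (1 : Matrix ι ι F)) : Even (Fintype.card ι) := by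
  have hδ0 : δ ≠ 0 := by
    intro h0
    exact hδ 0 (by rw [h0]; ring)
  have hdet : κ.det ^ 2 = δ ^ Fintype.card ι := by
    have h := congrArg Matrix.det hκ
    rw [Matrix.det_mul, Matrix.det_smul, Matrix.det_one, mul_one] at h
    rw [pow_two]
    exact h
  by_contra hodd
  rw [Nat.not_even_iff_odd] at hodd
  obtain ⟨k, hk⟩ := hodd
  rw [hk] at hdet
  have hpk' : δ ^ k ≠ 0 := pow_ne_zero _ hδ0
  apply hδ (κ.det / δ ^ k)
  rw [div_pow, hdet]
  field_simp
  ring
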