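import Cfsg.Prelude.Def_LieTwisted
import Cfsg.Prelude.Def_ChevStructure

set_option autoImplicit false
open Cfsg Cfsg.Lie

namespace Cfsg.Agent.Lib.helper5.S2113

theorem helper5_syl3_aux {K : Type*} [Field K] [Fintype K] {m : ℕ}
    (hG : Nat.card ↥(twistedG2 K (3 ^ m)) =
      (3 ^ (2 * m + 1)) ^ 3 * (3 ^ (2 * m + 1) - 1) * ((3 ^ (2 * m + 1)) ^ 3 + 1))
    (hU : Nat.card ↥(chevG2.posUnipotent K ⊓ twistedG2 K (3 ^ m)) = (3 ^ (2 * m + 1)) ^ 3) :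
    ¬ 3 ∣ ((chevG2.posUnipotent K).subgroupOf (twistedG2 K (3 ^ m))).index := by
  set G := twistedG2 K (3 ^ m) with hGdef
  set U := chevG2.posUnipotent K with hUdef
  have h1 : Nat.card ↥(U.subgroupOf G) * (U.subgroupOf G).index = Nat.card ↥G :=
    Subgroup.card_mul_index (U.subgroupOf G)
  have h2 : Nat.card ↥(U.subgroupOf G) = Nat.card ↥(U ⊓ G) := by
    rw [← Subgroup.inf_subgroupOf_right U G]
    exact Nat.card_congr (Subgroup.subgroupOfEquivOfLe (inf_le_right : U ⊓ G ≤ G)).toEquiv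
  rw [h2, hU, hG] at h1
  obtain ⟨j, hj⟩ : ∃ j, 3 ^ (2 * m + 1) = 3 * j := ⟨3 ^ (2 * m), by rw [pow_succ]; ring⟩
  have hqpos : 0 < 3 ^ (2 * m + 1) := by positivity
  have hq3pos : 0 < (3 ^ (2 * m + 1)) ^ 3 := by positivity
  have h3 : (U.subgroupOf G).index = (3 ^ (2 * m + 1) - 1) * ((3 ^ (2 * m + 1)) ^ 3 + 1) := by
    have : (3 ^ (2 * m + 1)) ^ 3 * (U.subgroupOf G).index =
        (3 ^ (2 * m + 1)) ^ 3 * ((3 ^ (2 * m + 1) - 1) * ((3 ^ (2 * m + 1)) ^ 3 + 1)) := by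
      rw [h1]; ring
    exact Nat.eq_of_mul_eq_mul_left hq3pos this
  rw [h3]
  intro hdvd
  rcases (Nat.Prime.dvd_mul Nat.prime_three).1 hdvd with h | h
  · rw [hj] at h
    have hjpos : 0 < j := by
      rcases Nat.eq_zero_or_pos j with h0 | h0
      · rw [h0] at hj; omega
      · exact h0
    omega
  · have : (3 ^ (2 * m + 1)) ^ 3 = 3 * (j * (3 ^ (2 * m + 1)) ^ 2) := by
      rw [pow_succ, hj]; ring
    rw [this] at h
    omega

end Cfsg.Agent.Lib.helper5.S2113
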