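import Mathlib
import Cfsg.Agent.Lib.helper24.S6eDefs

/-!
# S6002 piece AFRG (helper5, racer copy): four pairwise anticommuting involutions of a group `R`
of order 32 containing `-1` form a frame of `R`.
-/

set_option autoImplicit false
set_option linter.unusedSimpArgs false

namespace Cfsg.Agent.Lib.helper24

open Matrix Cfsg Cfsg.Geo

/-- Four pairwise anticommuting involutions of a ring. -/
structure h5_Anti {𝕄 : Type*} [Ring 𝕄] (A0 A1 A2 A3 : 𝕄) : Prop where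
  q0 : A0 * A0 = 1
  q1 : A1 * A1 = 1
  q2 : A2 * A2 = 1
  q3 : A3 * A3 = 1
  r10 : A1 * A0 = -(A0 * A1)
  r20 : A2 * A0 = -(A0 * A2)
  r30 : A3 * A0 = -(A0 * A3)
  r21 : A2 * A1 = -(A1 * A2)
  r31 : A3 * A1 = -(A1 * A3)
  r32 : A3 * A2 = -(A2 * A3)

/-- The ordered monomial `A0^b0 A1^b1 A2^b2 A3^b3`. -/
def h5_mono {𝕄 : Type*} [Ring 𝕄] (A0 A1 A2 A3 : 𝕄) (b0 b1 b2 b3 : Bool) : 𝕄 :=
  (if b0 then A0 else 1) * (if b1 then A1 else 1) * (if b2 then A2 else 1) * (if b3 then A3 else 1)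

section
variable {𝕄 : Type*} [Ring 𝕄] {A0 A1 A2 A3 : 𝕄}

theorem h5_Anti.q0' (h : h5_Anti A0 A1 A2 A3) (Y : 𝕄) : A0 * (A0 * Y) = Y := by
  rw [← mul_assoc, h.q0, one_mul]
theorem h5_Anti.q1' (h : h5_Anti A0 A1 A2 A3) (Y : 𝕄) : A1 * (A1 * Y) = Y := by
  rw [← mul_assoc, h.q1, one_mul]
theorem h5_Anti.q2' (h : h5_Anti A0 A1 A2 A3) (Y : 𝕄) : A2 * (A2 * Y) = Y := by
  rw [← mul_assoc, h.q2, one_mul]
theorem h5_Anti.q3' (h : h5_Anti A0 A1 A2 A3) (Y : 𝕄) : A3 * (A3 * Y) = Y := by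
  rw [← mul_assoc, h.q3, one_mul]
theorem h5_Anti.r10' (h : h5_Anti A0 A1 A2 A3) (Y : 𝕄) : A1 * (A0 * Y) = -(A0 * (A1 * Y)) := by
  rw [← mul_assoc, h.r10, neg_mul, mul_assoc]
theorem h5_Anti.r20' (h : h5_Anti A0 A1 A2 A3) (Y : 𝕄) : A2 * (A0 * Y) = -(A0 * (A2 * Y)) := by
  rw [← mul_assoc, h.r20, neg_mul, mul_assoc]
theorem h5_Anti.r30' (h : h5_Anti A0 A1 A2 A3) (Y : 𝕄) : A3 * (A0 * Y) = -(A0 * (A3 * Y)) := by
  rw [← mul_assoc, h.r30, neg_mul, mul_assoc]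
theorem h5_Anti.r21' (h : h5_Anti A0 A1 A2 A3) (Y : 𝕄) : A2 * (A1 * Y) = -(A1 * (A2 * Y)) := by
  rw [← mul_assoc, h.r21, neg_mul, mul_assoc]
theorem h5_Anti.r31' (h : h5_Anti A0 A1 A2 A3) (Y : 𝕄) : A3 * (A1 * Y) = -(A1 * (A3 * Y)) := by
  rw [← mul_assoc, h.r31, neg_mul, mul_assoc]
theorem h5_Anti.r32' (h : h5_Anti A0 A1 A2 A3) (Y : 𝕄) : A3 * (A2 * Y) = -(A2 * (A3 * Y)) := by
  rw [← mul_assoc, h.r32, neg_mul, mul_assoc]

theorem h5_mono_sq (h : h5_Anti A0 A1 A2 A3) (b0 b1 b2 b3 : Bool) :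
    h5_mono A0 A1 A2 A3 b0 b1 b2 b3 * h5_mono A0 A1 A2 A3 b0 b1 b2 b3 = 1 ∨
      h5_mono A0 A1 A2 A3 b0 b1 b2 b3 * h5_mono A0 A1 A2 A3 b0 b1 b2 b3 = -1 := by
  cases b0 <;> cases b1 <;> cases b2 <;> cases b3 <;>
    simp only [h5_mono, Bool.false_eq_true, if_true, if_false, mul_one, one_mul, mul_assoc,
      h.q0, h.q1, h.q2, h.q3, h.r10, h.r20, h.r30, h.r21, h.r31, h.r32,
      h.q0', h.q1', h.q2', h.q3', h.r10', h.r20', h.r30', h.r21', h.r31', h.r32',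
      neg_mul, mul_neg, neg_neg, true_or, or_true]

theorem h5_C0 (h : h5_Anti A0 A1 A2 A3) (b0 b1 b2 b3 : Bool) :
    A0 * h5_mono A0 A1 A2 A3 b0 b1 b2 b3 =
      if (b1 ^^ b2 ^^ b3) then -(h5_mono A0 A1 A2 A3 b0 b1 b2 b3 * A0)
      else h5_mono A0 A1 A2 A3 b0 b1 b2 b3 * A0 := by
  cases b0 <;> cases b1 <;> cases b2 <;> cases b3 <;>
    simp only [h5_mono, Bool.false_eq_true, if_true, if_false, mul_one, one_mul, mul_assoc,
      h.q0, h.q1, h.q2, h.q3, h.r10, h.r20, h.r30, h.r21, h.r31, h.r32,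
      h.q0', h.q1', h.q2', h.q3', h.r10', h.r20', h.r30', h.r21', h.r31', h.r32',
      neg_mul, mul_neg, neg_neg, Bool.xor_true, Bool.xor_false, Bool.not_true, Bool.not_false]

theorem h5_C1 (h : h5_Anti A0 A1 A2 A3) (b0 b1 b2 b3 : Bool) :
    A1 * h5_mono A0 A1 A2 A3 b0 b1 b2 b3 =
      if (b0 ^^ b2 ^^ b3) then -(h5_mono A0 A1 A2 A3 b0 b1 b2 b3 * A1)
      else h5_mono A0 A1 A2 A3 b0 b1 b2 b3 * A1 := by
  cases b0 <;> cases b1 <;> cases b2 <;> cases b3 <;>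
    simp only [h5_mono, Bool.false_eq_true, if_true, if_false, mul_one, one_mul, mul_assoc,
      h.q0, h.q1, h.q2, h.q3, h.r10, h.r20, h.r30, h.r21, h.r31, h.r32,
      h.q0', h.q1', h.q2', h.q3', h.r10', h.r20', h.r30', h.r21', h.r31', h.r32',
      neg_mul, mul_neg, neg_neg, Bool.xor_true, Bool.xor_false, Bool.not_true, Bool.not_false]

theorem h5_C2 (h : h5_Anti A0 A1 A2 A3) (b0 b1 b2 b3 : Bool) :
    A2 * h5_mono A0 A1 A2 A3 b0 b1 b2 b3 =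
      if (b0 ^^ b1 ^^ b3) then -(h5_mono A0 A1 A2 A3 b0 b1 b2 b3 * A2)
      else h5_mono A0 A1 A2 A3 b0 b1 b2 b3 * A2 := by
  cases b0 <;> cases b1 <;> cases b2 <;> cases b3 <;>
    simp only [h5_mono, Bool.false_eq_true, if_true, if_false, mul_one, one_mul, mul_assoc,
      h.q0, h.q1, h.q2, h.q3, h.r10, h.r20, h.r30, h.r21, h.r31, h.r32,
      h.q0', h.q1', h.q2', h.q3', h.r10', h.r20', h.r30', h.r21', h.r31', h.r32',
      neg_mul, mul_neg, neg_neg, Bool.xor_true, Bool.xor_false, Bool.not_true, Bool.not_false]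

theorem h5_C3 (h : h5_Anti A0 A1 A2 A3) (b0 b1 b2 b3 : Bool) :
    A3 * h5_mono A0 A1 A2 A3 b0 b1 b2 b3 =
      if (b0 ^^ b1 ^^ b2) then -(h5_mono A0 A1 A2 A3 b0 b1 b2 b3 * A3)
      else h5_mono A0 A1 A2 A3 b0 b1 b2 b3 * A3 := by
  cases b0 <;> cases b1 <;> cases b2 <;> cases b3 <;>
    simp only [h5_mono, Bool.false_eq_true, if_true, if_false, mul_one, one_mul, mul_assoc,
      h.q0, h.q1, h.q2, h.q3, h.r10, h.r20, h.r30, h.r21, h.r31, h.r32,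
      h.q0', h.q1', h.q2', h.q3', h.r10', h.r20', h.r30', h.r21', h.r31', h.r32',
      neg_mul, mul_neg, neg_neg, Bool.xor_true, Bool.xor_false, Bool.not_true, Bool.not_false]

/-- The four parities determine the exponents. -/
theorem h5_bool_lemma : ∀ b0 b1 b2 b3 c0 c1 c2 c3 : Bool,
    (b1 ^^ b2 ^^ b3) = (c1 ^^ c2 ^^ c3) → (b0 ^^ b2 ^^ b3) = (c0 ^^ c2 ^^ c3) →
    (b0 ^^ b1 ^^ b3) = (c0 ^^ c1 ^^ c3) → (b0 ^^ b1 ^^ b2) = (c0 ^^ c1 ^^ c2) →
    b0 = c0 ∧ b1 = c1 ∧ b2 = c2 ∧ b3 = c3 := by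
  decide

/-- Two descriptions of the conjugation sign agree. -/
theorem h5_sign_eq (h2 : ∀ X : 𝕄, X + X = 0 → X = 0) (X Y : 𝕄) (p q : Bool)
    (hp : Y = if p then -X else X) (hq : Y = if q then -X else X) (hX : X ≠ 0) : p = q := by
  cases p <;> cases q
  · rfl
  · exfalso
    simp only [Bool.false_eq_true, if_false, if_true] at hp hq
    apply hX
    apply h2
    rw [hp] at hq
    nth_rewrite 1 [hq]
    exact neg_add_cancel X
  · exfalso
    simp only [Bool.false_eq_true, if_false, if_true] at hp hq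
    apply hX
    apply h2
    rw [hq] at hp
    nth_rewrite 1 [hp]
    exact neg_add_cancel X
  · rfl

/-- The 32 signed monomials are pairwise distinct. -/
theorem h5_frame_inj (h2 : ∀ X : 𝕄, X + X = 0 → X = 0) (h10 : (1 : 𝕄) ≠ 0)
    (h : h5_Anti A0 A1 A2 A3) (e e' b0 b1 b2 b3 c0 c1 c2 c3 : Bool)
    (heq : (if e then -(h5_mono A0 A1 A2 A3 b0 b1 b2 b3) else h5_mono A0 A1 A2 A3 b0 b1 b2 b3) =
      (if e' then -(h5_mono A0 A1 A2 A3 c0 c1 c2 c3) else h5_mono A0 A1 A2 A3 c0 c1 c2 c3)) :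
    e = e' ∧ b0 = c0 ∧ b1 = c1 ∧ b2 = c2 ∧ b3 = c3 := by
  -- signed monomials are non-zero
  have hne : ∀ (e : Bool) (b0 b1 b2 b3 : Bool),
      (if e then -(h5_mono A0 A1 A2 A3 b0 b1 b2 b3) else h5_mono A0 A1 A2 A3 b0 b1 b2 b3) ≠ 0 := by
    intro e b0 b1 b2 b3 h0
    have hM : h5_mono A0 A1 A2 A3 b0 b1 b2 b3 = 0 := by
      cases e
      · simpa using h0
      · simpa using h0
    rcases h5_mono_sq h b0 b1 b2 b3 with hs | hs
    · rw [hM, mul_zero] at hs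
      exact h10 hs.symm
    · rw [hM, mul_zero] at hs
      exact h10 (neg_eq_zero.mp hs.symm)
  -- conjugation signs of a signed monomial
  have hC : ∀ (A : 𝕄) (p : Bool) (e : Bool) (M : 𝕄),
      (A * M = if p then -(M * A) else M * A) →
      A * (if e then -M else M) =
        if p then -((if e then -M else M) * A) else (if e then -M else M) * A := by
    intro A p e M hAM
    cases e <;> cases p <;>
      simp only [Bool.false_eq_true, if_false, if_true, mul_neg, neg_mul] at hAM ⊢ <;>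
      rw [hAM]
  have hXA : ∀ (A : 𝕄), A * A = 1 → ∀ X : 𝕄, X ≠ 0 → X * A ≠ 0 := by
    intro A hA X hX h0
    apply hX
    have : X * A * A = 0 := by rw [h0, zero_mul]
    rwa [mul_assoc, hA, mul_one] at this
  have hX := hne e b0 b1 b2 b3
  have p0 := h5_sign_eq h2 _ _ _ _ (hC A0 _ e _ (h5_C0 h b0 b1 b2 b3))
    (by rw [heq]; exact hC A0 _ e' _ (h5_C0 h c0 c1 c2 c3)) (hXA A0 h.q0 _ hX)
  have p1 := h5_sign_eq h2 _ _ _ _ (hC A1 _ e _ (h5_C1 h b0 b1 b2 b3))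
    (by rw [heq]; exact hC A1 _ e' _ (h5_C1 h c0 c1 c2 c3)) (hXA A1 h.q1 _ hX)
  have p2 := h5_sign_eq h2 _ _ _ _ (hC A2 _ e _ (h5_C2 h b0 b1 b2 b3))
    (by rw [heq]; exact hC A2 _ e' _ (h5_C2 h c0 c1 c2 c3)) (hXA A2 h.q2 _ hX)
  have p3 := h5_sign_eq h2 _ _ _ _ (hC A3 _ e _ (h5_C3 h b0 b1 b2 b3))
    (by rw [heq]; exact hC A3 _ e' _ (h5_C3 h c0 c1 c2 c3)) (hXA A3 h.q3 _ hX)
  obtain ⟨rfl, rfl, rfl, rfl⟩ := h5_bool_lemma b0 b1 b2 b3 c0 c1 c2 c3 p0 p1 p2 p3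
  refine ⟨?_, rfl, rfl, rfl, rfl⟩
  have hM := hne false b0 b1 b2 b3
  simp only [Bool.false_eq_true, if_false] at hM
  cases e <;> cases e'
  · rfl
  · exfalso
    simp only [Bool.false_eq_true, if_false, if_true] at heq
    apply hM
    apply h2
    nth_rewrite 1 [heq]
    exact neg_add_cancel _
  · exfalso
    simp only [Bool.false_eq_true, if_false, if_true] at heq
    apply hM
    apply h2
    nth_rewrite 1 [← heq]
    exact neg_add_cancel _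
  · rfl

end

/-- AFRG (racer copy, verbatim statement). -/
theorem h5_s6_frame_gen {F : Type*} [Field F] [Fintype F] (h2 : (2 : F) ≠ 0) (R : Subgroup (GL S6I F))
    (hR5 : Nat.card R = 32) (hneg : ∃ z ∈ R, (z : Matrix S6I S6I F) = -1)
    (t : Fin 4 → GL S6I F) (ht : ∀ i, t i ∈ R) (ht2 : ∀ i, (t i : Matrix S6I S6I F) * (t i : Matrix S6I S6I F) = 1)
    (hta : ∀ i j, i ≠ j → (t i : Matrix S6I S6I F) * (t j : Matrix S6I S6I F) = -((t j : Matrix S6I S6I F) * (t i : Matrix S6I S6I F))) :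
    S6Frame R t := by
  refine ⟨ht, ht2, hta, ?_⟩
  obtain ⟨z, hzR, hz⟩ := hneg
  have hAnti : h5_Anti (t 0 : Matrix S6I S6I F) (t 1 : Matrix S6I S6I F) (t 2 : Matrix S6I S6I F)
      (t 3 : Matrix S6I S6I F) :=
    ⟨ht2 0, ht2 1, ht2 2, ht2 3, hta 1 0 (by decide), hta 2 0 (by decide), hta 3 0 (by decide),
      hta 2 1 (by decide), hta 3 1 (by decide), hta 3 2 (by decide)⟩
  have h2M : ∀ X : Matrix S6I S6I F, X + X = 0 → X = 0 := by
    intro X hX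
    have h' : (2 : F) • X = 0 := by rw [two_smul]; exact hX
    rcases smul_eq_zero.mp h' with h | h
    · exact absurd h h2
    · exact h
  have h10 : (1 : Matrix S6I S6I F) ≠ 0 := one_ne_zero
  have hmem : ∀ (b : Bool) (g : GL S6I F), g ∈ R → (if b then g else 1) ∈ R := by
    intro b g hg
    cases b
    · simp
    · simpa using hg
  let φ : Bool × Bool × Bool × Bool × Bool → ↥R := fun x =>
    ⟨(if x.1 then z else 1) * (if x.2.1 then t 0 else 1) * (if x.2.2.1 then t 1 else 1) *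
      (if x.2.2.2.1 then t 2 else 1) * (if x.2.2.2.2 then t 3 else 1),
      R.mul_mem (R.mul_mem (R.mul_mem (R.mul_mem (hmem _ z hzR) (hmem _ _ (ht 0)))
        (hmem _ _ (ht 1))) (hmem _ _ (ht 2))) (hmem _ _ (ht 3))⟩
  have hφ : ∀ (e b0 b1 b2 b3 : Bool), (((φ (e, b0, b1, b2, b3) : ↥R) : GL S6I F) : Matrix S6I S6I F) =
      if e then -(h5_mono (t 0 : Matrix S6I S6I F) (t 1 : Matrix S6I S6I F) (t 2 : Matrix S6I S6I F)
        (t 3 : Matrix S6I S6I F) b0 b1 b2 b3)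
      else h5_mono (t 0 : Matrix S6I S6I F) (t 1 : Matrix S6I S6I F) (t 2 : Matrix S6I S6I F)
        (t 3 : Matrix S6I S6I F) b0 b1 b2 b3 := by
    intro e b0 b1 b2 b3
    cases e <;> cases b0 <;> cases b1 <;> cases b2 <;> cases b3 <;>
      simp [φ, h5_mono, hz]
  have hinj : Function.Injective φ := by
    rintro ⟨e, b0, b1, b2, b3⟩ ⟨e', c0, c1, c2, c3⟩ hxy
    have h1 := congrArg (fun s : ↥R => ((s : GL S6I F) : Matrix S6I S6I F)) hxy
    simp only [hφ] at h1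
    obtain ⟨rfl, rfl, rfl, rfl, rfl⟩ := h5_frame_inj h2M h10 hAnti _ _ _ _ _ _ _ _ _ _ h1
    rfl
  have hfin : Finite ↥R := Nat.finite_of_card_ne_zero (by rw [hR5]; norm_num)
  have hcard : Nat.card ↥R ≤ Nat.card (Bool × Bool × Bool × Bool × Bool) := by
    rw [hR5, Nat.card_eq_fintype_card]
    decide
  have hsurj : Function.Surjective φ := (hinj.bijective_of_nat_card_le hcard).2
  intro s hs
  obtain ⟨⟨e, b0, b1, b2, b3⟩, hx⟩ := hsurj ⟨s, hs⟩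
  refine ⟨![b0, b1, b2, b3], e, ?_⟩
  have h1 := hφ e b0 b1 b2 b3
  rw [hx] at h1
  have h1' : (s : Matrix S6I S6I F) = _ := h1
  rw [h1']
  cases e <;> cases b0 <;> cases b1 <;> cases b2 <;> cases b3 <;> simp [h5_mono]

end Cfsg.Agent.Lib.helper24
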