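import Mathlib
import Cfsg.Prelude.Def_Characters
import Cfsg.Agent.Lib.helper5.PiIrr
import Cfsg.Agent.Lib.helper4.Induction
import Cfsg.Agent.Lib.helper4.InductionTI
import Cfsg.Agent.Lib.helper4.SubChar
import Cfsg.Agent.Lib.helper19.LinChar
import Cfsg.Agent.Lib.helper43.Constituent
import Cfsg.Agent.Lib.helper82.Clifford
import Cfsg.Agent.Lib.helper82.CharQuot
import Cfsg.Agent.Lib.helper82.Ito

set_option autoImplicit false
set_option linter.style.haveILetI false
set_option linter.unusedSectionVars false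

/-!
# Wreath products of M-groups with groups of prime order (helper5)

`wreath_monomial`: if every irreducible character of `M` is induced from a linear character of a
subgroup, the same holds for the regular wreath product `M ≀ᵣ Q` with `Q` of prime order.
-/

namespace Cfsg.Agent.Lib.helper5

open Cfsg Cfsg.Agent.Lib.helper4 RegularWreathProduct
open scoped ComplexConjugate

section Defs

variable {M Q : Type*} [Group M] [Group Q]

/-- The base group of the regular wreath product. -/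
def wBase (M Q : Type*) [Group M] [Group Q] : Subgroup (M ≀ᵣ Q) :=
  (rightHom : M ≀ᵣ Q →* Q).ker

instance wBase_normal : (wBase M Q).Normal := by
  unfold wBase; infer_instance

theorem mem_wBase (w : M ≀ᵣ Q) : w ∈ wBase M Q ↔ w.right = 1 := MonoidHom.mem_ker

/-- The base group is the direct power. -/
def wBaseEquiv (M Q : Type*) [Group M] [Group Q] : wBase M Q ≃* (Q → M) where
  toFun b := b.1.left
  invFun f := ⟨⟨f, 1⟩, (mem_wBase _).mpr rfl⟩
  left_inv b := by
    apply Subtype.ext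
    apply RegularWreathProduct.ext
    · rfl
    · exact ((mem_wBase _).mp b.2).symm
  right_inv f := rfl
  map_mul' a b := by
    have ha : a.1.right = 1 := (mem_wBase _).mp a.2
    funext x
    simp [ha]

/-- The product subgroup `∏ H q` of the base group. -/
def wL0 (H : Q → Subgroup M) : Subgroup (M ≀ᵣ Q) where
  carrier := {w | w.right = 1 ∧ ∀ q, w.left q ∈ H q}
  one_mem' := ⟨rfl, fun q => (H q).one_mem⟩
  mul_mem' := by
    rintro a b ⟨ha, ha'⟩ ⟨hb, hb'⟩
    refine ⟨by simp [ha, hb], fun q => ?_⟩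
    have h1 : (a * b).left q = a.left q * b.left q := by simp [ha]
    rw [h1]
    exact (H q).mul_mem (ha' q) (hb' q)
  inv_mem' := by
    rintro a ⟨ha, ha'⟩
    refine ⟨by simp [ha], fun q => ?_⟩
    have h1 : (a⁻¹).left q = (a.left q)⁻¹ := by simp [ha]
    rw [h1]
    exact (H q).inv_mem (ha' q)

theorem mem_wL0 (H : Q → Subgroup M) (w : M ≀ᵣ Q) :
    w ∈ wL0 H ↔ w.right = 1 ∧ ∀ q, w.left q ∈ H q := Iff.rfl

theorem wL0_le (H : Q → Subgroup M) : wL0 H ≤ wBase M Q := fun w hw => (mem_wBase w).mpr hw.1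

/-- The subgroup `H ≀ Q` of `M ≀ Q`. -/
def wLt (Q : Type*) [Group Q] (H : Subgroup M) : Subgroup (M ≀ᵣ Q) where
  carrier := {w | ∀ q, w.left q ∈ H}
  one_mem' := fun _ => H.one_mem
  mul_mem' := by
    intro a b ha hb q
    have h1 : (a * b).left q = a.left q * b.left (a.right⁻¹ * q) := rfl
    rw [h1]
    exact H.mul_mem (ha q) (hb _)
  inv_mem' := by
    intro a ha q
    have h1 : (a⁻¹).left q = (a.left (a.right * q))⁻¹ := rfl
    rw [h1]
    exact H.inv_mem (ha _)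

theorem mem_wLt (H : Subgroup M) (w : M ≀ᵣ Q) : w ∈ wLt Q H ↔ ∀ q, w.left q ∈ H := Iff.rfl

/-- `wL0 H ≃ ∏ H q`. -/
def wL0Equiv (H : Q → Subgroup M) : wL0 H ≃ (∀ q, H q) where
  toFun x := fun q => ⟨x.1.left q, x.2.2 q⟩
  invFun g := ⟨⟨fun q => g q, 1⟩, rfl, fun q => (g q).2⟩
  left_inv x := by
    apply Subtype.ext
    apply RegularWreathProduct.ext
    · rfl
    · exact x.2.1.symm
  right_inv g := rfl

/-- `wLt Q H ≃ Q × wL0 (fun _ => H)`. -/
def wLtEquiv (H : Subgroup M) : wLt Q H ≃ Q × wL0 (fun _ : Q => H) where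
  toFun x := (x.1.right, ⟨⟨x.1.left, 1⟩, rfl, x.2⟩)
  invFun y := ⟨⟨y.2.1.left, y.1⟩, y.2.2.2⟩
  left_inv x := rfl
  right_inv y := by
    apply Prod.ext
    · rfl
    · apply Subtype.ext
      apply RegularWreathProduct.ext
      · rfl
      · exact y.2.2.1.symm

end Defs

section Lam

variable {M Q : Type*} [Group M] [Group Q] [Fintype Q]

/-- The tensor product of the extensions by zero. -/
noncomputable def wLam (H : Q → Subgroup M) (lam : ∀ q, H q → ℂ) (w : M ≀ᵣ Q) : ℂ :=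
  ∏ q, extendByZero (H q) (lam q) (w.left q)

theorem wLam_eq_zero (H : Q → Subgroup M) (lam : ∀ q, H q → ℂ) (w : M ≀ᵣ Q)
    (h : ∃ q, w.left q ∉ H q) : wLam H lam w = 0 := by
  obtain ⟨q, hq⟩ := h
  exact Finset.prod_eq_zero (Finset.mem_univ q)
    (Cfsg.Agent.Lib.helper19.extendByZero_of_not_mem _ _ _ hq)

theorem ext_wL0 (H : Q → Subgroup M) (lam : ∀ q, H q → ℂ) (w : M ≀ᵣ Q) [Decidable (w.right = 1)] :
    extendByZero (wL0 H) (fun x => wLam H lam x.1) w = if w.right = 1 then wLam H lam w else 0 := by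
  by_cases hw : w ∈ wL0 H
  · rw [Cfsg.Agent.Lib.helper19.extendByZero_of_mem _ _ _ hw, if_pos hw.1]
  · rw [Cfsg.Agent.Lib.helper19.extendByZero_of_not_mem _ _ _ hw]
    by_cases h1 : w.right = 1
    · rw [if_pos h1]
      symm
      apply wLam_eq_zero
      by_contra hcon
      push Not at hcon
      exact hw ⟨h1, hcon⟩
    · rw [if_neg h1]

theorem ext_sub_wL0 (H : Q → Subgroup M) (lam : ∀ q, H q → ℂ) (y : wBase M Q) :
    extendByZero ((wL0 H).subgroupOf (wBase M Q)) (fun x => wLam H lam x.1.1) y =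
      wLam H lam y.1 := by
  by_cases hy : y ∈ (wL0 H).subgroupOf (wBase M Q)
  · rw [Cfsg.Agent.Lib.helper19.extendByZero_of_mem _ _ _ hy]
  · rw [Cfsg.Agent.Lib.helper19.extendByZero_of_not_mem _ _ _ hy]
    symm
    apply wLam_eq_zero
    by_contra hcon
    push Not at hcon
    exact hy (Subgroup.mem_subgroupOf.mpr ⟨(mem_wBase _).mp y.2, hcon⟩)

/-- The linear character `⊗ lam q` of `∏ H q`. -/
noncomputable def wLam0 (H : Q → Subgroup M) (lam : ∀ q, H q →* ℂˣ) : wL0 H →* ℂˣ where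
  toFun x := ∏ q, lam q ⟨x.1.left q, x.2.2 q⟩
  map_one' := by
    apply Finset.prod_eq_one
    intro q _
    exact map_one (lam q)
  map_mul' x y := by
    rw [← Finset.prod_mul_distrib]
    refine Finset.prod_congr rfl fun q _ => ?_
    rw [← map_mul]
    congr 1
    apply Subtype.ext
    have hx : x.1.right = 1 := x.2.1
    simp [hx]

theorem wLam0_coe (H : Q → Subgroup M) (lam : ∀ q, H q →* ℂˣ) (x : wL0 H) :
    ((wLam0 H lam x : ℂˣ) : ℂ) = wLam H (fun q h => ((lam q h : ℂˣ) : ℂ)) x.1 := by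
  unfold wLam0 wLam
  simp only [MonoidHom.coe_mk, OneHom.coe_mk]
  rw [Units.coe_prod]
  refine Finset.prod_congr rfl fun q _ => ?_
  rw [Cfsg.Agent.Lib.helper19.extendByZero_of_mem _ _ _ (x.2.2 q)]

/-- The linear character `lam^{⊗Q}` of `H ≀ Q`. -/
noncomputable def wMu (H : Subgroup M) (lam : H →* ℂˣ) : wLt Q H →* ℂˣ where
  toFun x := ∏ q, lam ⟨x.1.left q, x.2 q⟩
  map_one' := by
    apply Finset.prod_eq_one
    intro q _
    exact map_one lam
  map_mul' x y := by
    have h1 : ∀ q, lam ⟨(x * y).1.left q, (x * y).2 q⟩ =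
        lam ⟨x.1.left q, x.2 q⟩ * lam ⟨y.1.left (x.1.right⁻¹ * q), y.2 _⟩ := by
      intro q
      rw [← map_mul]
      rfl
    simp_rw [h1]
    rw [Finset.prod_mul_distrib]
    congr 1
    exact Fintype.prod_equiv (Equiv.mulLeft x.1.right⁻¹) _ _ (fun q => rfl)

/-- The twist of `wMu` by a linear character of `Q`. -/
noncomputable def wMuX (H : Subgroup M) (lam : H →* ℂˣ) (g : Q →* ℂˣ) : wLt Q H →* ℂˣ :=
  wMu H lam * (g.comp ((rightHom : M ≀ᵣ Q →* Q).comp (wLt Q H).subtype))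

theorem wMuX_coe (H : Subgroup M) (lam : H →* ℂˣ) (g : Q →* ℂˣ) (x : wLt Q H) :
    ((wMuX H lam g x : ℂˣ) : ℂ) =
      wLam (fun _ : Q => H) (fun _ h => ((lam h : ℂˣ) : ℂ)) x.1 * ((g x.1.right : ℂˣ) : ℂ) := by
  unfold wMuX wMu wLam
  simp only [MonoidHom.mul_apply, MonoidHom.coe_mk, OneHom.coe_mk, Units.val_mul,
    MonoidHom.coe_comp, Function.comp_apply, Subgroup.coe_subtype]
  rw [Units.coe_prod]
  congr 1
  refine Finset.prod_congr rfl fun q _ => ?_
  rw [Cfsg.Agent.Lib.helper19.extendByZero_of_mem _ _ _ (x.2 q)]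

end Lam

section Main

variable {M Q : Type*} [Group M] [Group Q] [Fintype M] [Fintype Q] [DecidableEq Q]
  [Fintype (M ≀ᵣ Q)] [Fintype (wBase M Q)]

theorem base_irr (θ : wBase M Q → ℂ) (hθ : IsIrrCharacter (wBase M Q) θ) :
    ∃ ψ : Q → M → ℂ, (∀ q, IsIrrCharacter M (ψ q)) ∧
      ∀ b : wBase M Q, θ b = ∏ q, ψ q (b.1.left q) := by
  have h1 : IsIrrCharacter (Q → M) (fun f => θ ((wBaseEquiv M Q).symm f)) :=
    isIrrCharacter_comp_surjective (wBaseEquiv M Q).symm.toMonoidHom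
      (wBaseEquiv M Q).symm.surjective hθ
  obtain ⟨ψ, hψ, h2⟩ := pi_irr_exists _ h1
  refine ⟨ψ, hψ, fun b => ?_⟩
  have h3 := congrFun h2 (wBaseEquiv M Q b)
  simp only [MulEquiv.symm_apply_apply] at h3
  rw [h3]
  rfl

theorem ind_sub_base (H : Q → Subgroup M) (lam : ∀ q, H q → ℂ) (b : wBase M Q) :
    indFun ((wL0 H).subgroupOf (wBase M Q)) (fun x => wLam H lam x.1.1) b =
      ∏ q, indFun (H q) (lam q) (b.1.left q) := by
  unfold indFun
  simp_rw [ext_sub_wL0]
  have hsum : ∑ x : wBase M Q, wLam H lam (x⁻¹ * b * x).1 =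
      ∑ f : Q → M, ∏ q, extendByZero (H q) (lam q) ((f q)⁻¹ * b.1.left q * f q) := by
    rw [← Equiv.sum_comp (wBaseEquiv M Q).symm.toEquiv]
    refine Finset.sum_congr rfl fun f _ => ?_
    unfold wLam
    refine Finset.prod_congr rfl fun q _ => ?_
    congr 1
    have hb : b.1.right = 1 := (mem_wBase _).mp b.2
    simp [wBaseEquiv, hb]
  have hps := Fintype.prod_sum
    (fun (q : Q) (m : M) => extendByZero (H q) (lam q) (m⁻¹ * b.1.left q * m))
  rw [hsum, ← hps]
  have hcard : Nat.card ((wL0 H).subgroupOf (wBase M Q)) = ∏ q, Nat.card (H q) := by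
    rw [Nat.card_congr (Subgroup.subgroupOfEquivOfLe (wL0_le H)).toEquiv,
      Nat.card_congr (wL0Equiv H), Nat.card_pi]
  rw [hcard, Nat.cast_prod, ← Finset.prod_inv_distrib, ← Finset.prod_mul_distrib]

theorem ind_L0 (H : Q → Subgroup M) (lam : ∀ q, H q → ℂ) (θ : wBase M Q → ℂ)
    (hθ : ∀ b : wBase M Q, θ b = ∏ q, indFun (H q) (lam q) (b.1.left q)) :
    indFun (wBase M Q) θ = indFun (wL0 H) (fun x => wLam H lam x.1) := by
  rw [← indFun_trans (wL0 H) (wBase M Q) (wL0_le H) (fun x => wLam H lam x.1)]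
  congr 1
  funext b
  rw [hθ b]
  exact (ind_sub_base H lam b).symm

theorem card_wLt (H : Subgroup M) :
    Nat.card (wLt Q H) = Nat.card Q * Nat.card (wL0 (fun _ : Q => H)) := by
  rw [Nat.card_congr (wLtEquiv H), Nat.card_prod]

theorem sum_twists [Fintype (IrrCharacter Q)] (H : Subgroup M) (lam : H →* ℂˣ)
    (f : IrrCharacter Q → (Q →* ℂˣ)) (hf : ∀ (ξ : IrrCharacter Q) (q : Q), (ξ : Q → ℂ) q = ((f ξ q : ℂˣ) : ℂ)) :
    ∑ ξ, indFun (wLt Q H) (fun x => ((wMuX H lam (f ξ) x : ℂˣ) : ℂ)) =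
      indFun (wL0 (fun _ : Q => H))
        (fun x => wLam (fun _ : Q => H) (fun _ h => ((lam h : ℂˣ) : ℂ)) x.1) := by
  classical
  funext w
  rw [Finset.sum_apply]
  unfold indFun
  rw [← Finset.mul_sum, Finset.sum_comm]
  have hextLt : ∀ (ξ : IrrCharacter Q) (y : M ≀ᵣ Q),
      extendByZero (wLt Q H) (fun x => ((wMuX H lam (f ξ) x : ℂˣ) : ℂ)) y =
        wLam (fun _ : Q => H) (fun _ h => ((lam h : ℂˣ) : ℂ)) y * (ξ : Q → ℂ) y.right := by
    intro ξ y
    by_cases hy : y ∈ wLt Q H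
    · rw [Cfsg.Agent.Lib.helper19.extendByZero_of_mem _ _ _ hy, wMuX_coe, hf]
    · rw [Cfsg.Agent.Lib.helper19.extendByZero_of_not_mem _ _ _ hy]
      have h0 : wLam (fun _ : Q => H) (fun _ h => ((lam h : ℂˣ) : ℂ)) y = 0 := by
        apply wLam_eq_zero
        by_contra hcon
        push Not at hcon
        exact hy hcon
      rw [h0, zero_mul]
  have hsumξ : ∀ q : Q, ∑ ξ : IrrCharacter Q, (ξ : Q → ℂ) q =
      if q = 1 then (Nat.card Q : ℂ) else 0 := by
    intro q
    rw [← sum_irr_degree_mul q]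
    refine Finset.sum_congr rfl fun ξ _ => ?_
    rw [hf ξ 1, map_one, Units.val_one, one_mul]
  simp_rw [hextLt, ← Finset.mul_sum, hsumξ, ext_wL0]
  have hc : (Nat.card (wLt Q H) : ℂ) = Nat.card Q * Nat.card (wL0 (fun _ : Q => H)) := by
    rw [card_wLt]; push_cast; ring
  have hQ0 : (Nat.card Q : ℂ) ≠ 0 := Nat.cast_ne_zero.mpr Nat.card_pos.ne'
  rw [hc, mul_inv, mul_assoc]
  have hx : ∀ x : M ≀ᵣ Q,
      wLam (fun _ : Q => H) (fun _ h => ((lam h : ℂˣ) : ℂ)) (x⁻¹ * w * x) *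
        (if (x⁻¹ * w * x).right = 1 then (Nat.card Q : ℂ) else 0) =
      (Nat.card Q : ℂ) * (if (x⁻¹ * w * x).right = 1 then
        wLam (fun _ : Q => H) (fun _ h => ((lam h : ℂˣ) : ℂ)) (x⁻¹ * w * x) else 0) := by
    intro x
    split_ifs <;> ring
  simp_rw [hx]
  rw [← Finset.mul_sum]
  field_simp

theorem const_of_inertia_top (ψ : Q → M → ℂ) (hψ : ∀ q, IsIrrCharacter M (ψ q))
    (θ : wBase M Q → ℂ) (hθ : ∀ b : wBase M Q, θ b = ∏ q, ψ q (b.1.left q))
    (hI : Cfsg.Agent.Lib.helper82.inertia (wBase M Q) θ = ⊤) : ∀ q, ψ q = ψ 1 := by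
  intro c
  have hc : (inl c : M ≀ᵣ Q) ∈ Cfsg.Agent.Lib.helper82.inertia (wBase M Q) θ := by
    rw [hI]; trivial
  rw [Cfsg.Agent.Lib.helper82.mem_inertia_iff] at hc
  have key : (fun f : Q → M => ∏ q, ψ (c * q) (f q)) = fun f => ∏ q, ψ q (f q) := by
    funext f
    have h1 := hc ((wBaseEquiv M Q).symm f)
    rw [hθ, hθ] at h1
    have h2 : ∀ q, ((inl c : M ≀ᵣ Q) * (((wBaseEquiv M Q).symm f : wBase M Q) : M ≀ᵣ Q) *
        (inl c)⁻¹).left q = f (c⁻¹ * q) := by
      intro q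
      simp [wBaseEquiv]
    simp only [h2] at h1
    have h3 : ∀ q, (((wBaseEquiv M Q).symm f : wBase M Q) : M ≀ᵣ Q).left q = f q := fun q => rfl
    simp only [h3] at h1
    rw [← h1]
    exact Fintype.prod_equiv (Equiv.mulLeft c) _ _ (fun q => by simp)
  have h4 := pi_irr_unique (fun q => ψ (c * q)) ψ (fun q => hψ _) hψ key
  have h5 := congrFun h4 1
  simpa using h5

theorem wBase_index : (wBase M Q).index = Nat.card Q := by
  unfold wBase
  rw [Subgroup.index_ker]
  have hs : Function.Surjective (rightHom : M ≀ᵣ Q →* Q) := fun q => ⟨inl q, rfl⟩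
  rw [MonoidHom.range_eq_top.mpr hs, Subgroup.card_top]

/-- **Wreath products of M-groups with groups of prime order are M-groups.** -/
theorem wreath_monomial (hQ : (Nat.card Q).Prime)
    (hM : ∀ χ : M → ℂ, IsIrrCharacter M χ →
      ∃ (H : Subgroup M) (lam : H →* ℂˣ), χ = indFun H (fun h => ((lam h : ℂˣ) : ℂ)))
    (χ : M ≀ᵣ Q → ℂ) (hχ : IsIrrCharacter (M ≀ᵣ Q) χ) :
    ∃ (L : Subgroup (M ≀ᵣ Q)) (lam : L →* ℂˣ), χ = indFun L (fun h => ((lam h : ℂˣ) : ℂ)) := by
  classical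
  haveI : Fintype (IrrCharacter (wBase M Q)) := Fintype.ofFinite _
  obtain ⟨θ, hθ, e, he, he0⟩ := Cfsg.Agent.Lib.helper82.exists_constituent_restrict (wBase M Q) hχ
  obtain ⟨ψ, hψ, hθψ⟩ := base_irr θ hθ
  choose H lam hlam using fun q => hM (ψ q) (hψ q)
  have hθc := isCharacter_of_isIrrCharacter hθ
  have hχc := isCharacter_of_isIrrCharacter hχ
  have hfrob : classInner (indFun (wBase M Q) θ) χ ≠ 0 := by
    rw [Cfsg.Agent.Lib.helper4.frobenius_reciprocity (wBase M Q) θ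
      (Cfsg.Agent.Lib.helper4.isClassFunction_of_isCharacter hχc), ← classInner_conj_symm, he]
    simpa using he0
  obtain ⟨d, hd⟩ := exists_nat_degree hθc
  have hBidx : (wBase M Q).index = Nat.card Q := wBase_index
  have hBI : wBase M Q ≤ Cfsg.Agent.Lib.helper82.inertia (wBase M Q) θ :=
    Cfsg.Agent.Lib.helper82.le_inertia (wBase M Q)
      (Cfsg.Agent.Lib.helper4.isClassFunction_of_isCharacter hθc)
  have hdvd := Subgroup.index_dvd_of_le hBI
  rw [hBidx] at hdvd
  rcases (Nat.dvd_prime hQ).mp hdvd with h1 | hp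
  · -- invariant case
    have htop : Cfsg.Agent.Lib.helper82.inertia (wBase M Q) θ = ⊤ := Subgroup.index_eq_one.mp h1
    have hconst : ∀ q, ψ q = ψ 1 := const_of_inertia_top ψ hψ θ hθψ htop
    have hθ'' : ∀ b : wBase M Q,
        θ b = ∏ q : Q, indFun (H 1) (fun h => ((lam 1 h : ℂˣ) : ℂ)) (b.1.left q) := by
      intro b
      rw [hθψ b]
      exact Finset.prod_congr rfl fun q _ => by rw [hconst q, ← hlam 1]
    have hind0 := ind_L0 (fun _ : Q => H 1) (fun _ h => ((lam 1 h : ℂˣ) : ℂ)) θ hθ''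
    have hcomm : ∀ a b : Q, a * b = b * a := by
      haveI := Fact.mk hQ
      haveI : IsCyclic Q := isCyclic_of_prime_card (p := Nat.card Q) rfl
      letI := IsCyclic.commGroup (α := Q)
      exact fun a b => mul_comm a b
    haveI : Fintype (IrrCharacter Q) := Fintype.ofFinite _
    choose f hf using fun ξ : IrrCharacter Q =>
      Cfsg.Agent.Lib.helper82.exists_hom_of_linear (isCharacter_of_isIrrCharacter ξ.2)
        (Cfsg.Agent.Lib.helper82.irr_one_of_commutative hcomm ξ.2)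
    have hsum := sum_twists (H 1) (lam 1) f hf
    rw [hind0, ← hsum, classInner_sum_left] at hfrob
    obtain ⟨ξ, -, hξ⟩ := Finset.exists_ne_zero_of_sum_ne_zero hfrob
    have hΦ : IsCharacter (M ≀ᵣ Q)
        (indFun (wLt Q (H 1)) (fun x => ((wMuX (H 1) (lam 1) (f ξ) x : ℂˣ) : ℂ))) :=
      isCharacter_indFun _ (Cfsg.Agent.Lib.helper19.isCharacter_of_hom _)
    obtain ⟨Ψ, hΨ, hadd⟩ := Cfsg.Agent.Lib.helper43.exists_add_of_classInner_ne_zero hΦ hχ hξ
    have hΦ1 : ∀ ξ' : IrrCharacter Q,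
        indFun (wLt Q (H 1)) (fun x => ((wMuX (H 1) (lam 1) (f ξ') x : ℂˣ) : ℂ)) 1 =
          ((wLt Q (H 1)).index : ℂ) := by
      intro ξ'
      rw [indFun_one]
      simp
    have hs1 := congrFun (hsum.trans hind0.symm) 1
    rw [Finset.sum_apply] at hs1
    simp_rw [hΦ1] at hs1
    rw [Finset.sum_const, Finset.card_univ, indFun_one, hBidx, hd] at hs1
    have hcardIrr : Fintype.card (IrrCharacter Q) = Nat.card Q := by
      rw [← Nat.card_eq_fintype_card]
      exact Cfsg.Agent.Lib.helper82.card_irr_of_commutative hcomm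
    rw [hcardIrr, nsmul_eq_mul] at hs1
    have hQ0 : (Nat.card Q : ℂ) ≠ 0 := Nat.cast_ne_zero.mpr Nat.card_pos.ne'
    have hidx : ((wLt Q (H 1)).index : ℂ) = d := mul_left_cancel₀ hQ0 hs1
    have hχB : IsCharacter (wBase M Q) (fun b : wBase M Q => χ b) :=
      isCharacter_restrict (wBase M Q) hχc
    obtain ⟨Ψ', hΨ', hadd'⟩ := Cfsg.Agent.Lib.helper43.exists_add_of_classInner_ne_zero hχB hθ
      (by rw [he]; exact_mod_cast he0)
    have h3 := congrFun hadd' 1
    have h4 := congrFun hadd 1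
    obtain ⟨n, hn⟩ := exists_nat_degree hΨ
    obtain ⟨n', hn'⟩ := exists_nat_degree hΨ'
    simp only [Pi.add_apply] at h3 h4
    rw [hΦ1, hidx, hn] at h4
    rw [hd, hn'] at h3
    have h5 : χ 1 = ((d + n' : ℕ) : ℂ) := by rw [Nat.cast_add, ← h3]; rfl
    rw [h5] at h4
    have h6 : d = d + n' + n := by exact_mod_cast h4
    have hn0 : n = 0 := by omega
    have hΨ0 : Ψ = 0 := Cfsg.Agent.Lib.helper43.isCharacter_eq_zero_of_one hΨ (by rw [hn, hn0]; simp)
    refine ⟨wLt Q (H 1), wMuX (H 1) (lam 1) (f ξ), ?_⟩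
    rw [hadd, hΨ0, add_zero]
  · -- non-invariant case
    have hθ' : ∀ b : wBase M Q,
        θ b = ∏ q, indFun (H q) (fun h => ((lam q h : ℂˣ) : ℂ)) (b.1.left q) := by
      intro b
      rw [hθψ b]
      exact Finset.prod_congr rfl fun q _ => by rw [← hlam q]
    have hind := ind_L0 H (fun q h => ((lam q h : ℂˣ) : ℂ)) θ hθ'
    obtain ⟨Ψ, hΨ, hadd⟩ := Cfsg.Agent.Lib.helper43.exists_add_of_classInner_ne_zero
      (isCharacter_indFun (wBase M Q) hθc) hχ hfrob
    have hdeg := Cfsg.Agent.Lib.helper82.clifford_degree (wBase M Q) hχ hθ e he he0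
    rw [hp, hd] at hdeg
    have h1 := congrFun hadd 1
    obtain ⟨n, hn⟩ := exists_nat_degree hΨ
    simp only [Pi.add_apply] at h1
    rw [indFun_one, hBidx, hd, hdeg, hn] at h1
    have h2 : Nat.card Q * d = e * Nat.card Q * d + n := by exact_mod_cast h1
    have hn0 : n = 0 := by
      have h3 : Nat.card Q * d ≤ e * Nat.card Q * d := by
        calc Nat.card Q * d = 1 * (Nat.card Q * d) := (one_mul _).symm
          _ ≤ e * (Nat.card Q * d) := Nat.mul_le_mul_right _ (Nat.one_le_iff_ne_zero.mpr he0)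
          _ = e * Nat.card Q * d := (mul_assoc _ _ _).symm
      omega
    have hΨ0 : Ψ = 0 := Cfsg.Agent.Lib.helper43.isCharacter_eq_zero_of_one hΨ (by rw [hn, hn0]; simp)
    refine ⟨wL0 H, wLam0 H lam, ?_⟩
    have hfun : (fun x : wL0 H => ((wLam0 H lam x : ℂˣ) : ℂ)) =
        fun x : wL0 H => wLam H (fun q h => ((lam q h : ℂˣ) : ℂ)) x.1 :=
      funext fun x => wLam0_coe H lam x
    rw [hfun, ← hind, hadd, hΨ0, add_zero]

end Main

end Cfsg.Agent.Lib.helper5
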